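import Groth.Agent.Neron.K488.NormSq
import Groth.Agent.Resolve.K377.NormSch
import Groth.Agent.S7616
import Groth.Agent.S2618
import Groth.Agent.Ega43.H134.CompBound

/-!
# Existence of the normalisation of a curve over a field
-/

set_option autoImplicit false

universe u

open CategoryTheory CategoryTheory.Limits AlgebraicGeometry TopologicalSpace

namespace K488.NormEx

variable {κ : Type u} [Field κ]

/-- Schemes locally of finite type over a field are Nagata. -/
theorem isNagata {X : Scheme.{u}} (g : X ⟶ Spec (CommRingCat.of κ)) [LocallyOfFiniteType g] (U : X.affineOpens) :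
    CAlg.IsNagata Γ(X, U) := by
  let ψ : κ →+* Γ(X, U) :=
    (g.appLE ⊤ U le_top).hom.comp (Scheme.ΓSpecIso (CommRingCat.of κ)).inv.hom
  have h1 : (g.appLE ⊤ U le_top).hom.FiniteType :=
    LocallyOfFiniteType.finiteType_appLE (f := g) (isAffineOpen_top _) U.2 le_top
  have hψ : ψ.FiniteType := by
    refine RingHom.FiniteType.comp h1 ?_
    exact RingHom.FiniteType.of_surjective _
      (ConcreteCategory.bijective_of_isIso (Scheme.ΓSpecIso (CommRingCat.of κ)).inv).2
  let _ : Algebra κ Γ(X, U) := ψ.toAlgebra
  have : Algebra.FiniteType κ Γ(X, U) := hψ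
  exact Groth.Agent.S0566.result κ (Groth.Agent.S7616.isNagata_field κ) Γ(X, U)

theorem isOpen_reg {X : Scheme.{u}} (g : X ⟶ Spec (CommRingCat.of κ)) [LocallyOfFiniteType g] :
    IsOpen {x : X | IsRegularLocalRing (X.presheaf.stalk x)} :=
  Groth.Agent.Models.RMOpen.isOpen_reg_of_isJ2 (Groth.Agent.S2618.isJ2_of_field κ) g

/-- A closed subset and its image under a finite morphism have the same dimension. -/
theorem dim_image {X Y : Scheme.{u}} (f : X ⟶ Y) [IsFinite f] (w : X) :
    topologicalKrullDim ((closure {w} : Set X)) = topologicalKrullDim (closure {f w} : Set Y) := by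
  obtain ⟨W, j, h1, h2, h3⟩ := Groth.Agent.Ega43.H134.CompBound.exists_integral_closed w
  let q := j ≫ f
  have hq : q.toImage ≫ q.imageι = q := q.toImage_imageι
  have hfin : IsFinite q.toImage := by
    have : IsFinite (q.toImage ≫ q.imageι) := by
      rw [hq]
      infer_instance
    exact IsFinite.of_comp _ q.imageι
  have hr1 : Set.range q = closure {f w} := by
    have h4 : Set.range q = f '' (Set.range j) := by
      ext y
      constructor
      · rintro ⟨x, rfl⟩
        exact ⟨j x, ⟨x, rfl⟩, rfl⟩
      · rintro ⟨_, ⟨x, rfl⟩, rfl⟩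
        exact ⟨x, rfl⟩
    rw [h4, h3]
    have h5 := f.isClosedMap.closure_image_eq_of_continuous f.continuous {w}
    rw [← h5, Set.image_singleton]
  have hr2 : Set.range q.imageι = closure {f w} := by
    rw [← hr1]
    apply le_antisymm
    · have h6 : Set.range q.imageι = closure (Set.range q) := by
        rw [Scheme.IdealSheafData.range_subschemeι]
        exact q.support_ker
      rw [h6, hr1, closure_closure]
    · rintro _ ⟨x, rfl⟩
      refine ⟨q.toImage x, ?_⟩
      rw [← Scheme.Hom.comp_apply, hq]
  have hsurj : Surjective q.toImage := by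
    refine ⟨fun z => ?_⟩
    have hz : q.imageι z ∈ Set.range q := by
      rw [hr1, ← hr2]
      exact ⟨z, rfl⟩
    obtain ⟨x, hx⟩ := hz
    refine ⟨x, ?_⟩
    apply q.imageι.isEmbedding.injective
    rw [← Scheme.Hom.comp_apply, hq, hx]
  have hd := (Groth.Agent.S9683.result q.toImage).2 hsurj
  have e1 : topologicalKrullDim W = topologicalKrullDim (Set.range j) :=
    IsHomeomorph.topologicalKrullDim_eq _ j.isEmbedding.toHomeomorph.isHomeomorph
  have e2 : topologicalKrullDim q.image = topologicalKrullDim (Set.range q.imageι) :=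
    IsHomeomorph.topologicalKrullDim_eq _ q.imageι.isEmbedding.toHomeomorph.isHomeomorph
  rw [h3] at e1
  rw [hr2] at e2
  rw [← e1, ← e2, hd]

/-- Components of the normalisation of a curve have the dimension of their images, which are components. -/
theorem dim_components {Cn C : Scheme.{u}} (ν : Cn ⟶ C) [IsFinite ν] [IsNoetherian Cn] [IsNoetherian C]
    (hdimC : ∀ W ∈ irreducibleComponents (C : Type u), topologicalKrullDim W = 1)
    (U : C.Opens) (hU : Dense (U : Set C)) (hU' : Dense ((ν ⁻¹ᵁ U : Cn.Opens) : Set Cn)) [IsIso (ν ∣_ U)] :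
    ∀ W ∈ irreducibleComponents (Cn : Type u), topologicalKrullDim W = 1 := by
  intro W hW
  obtain ⟨w, hw⟩ := QuasiSober.sober hW.1 (isClosed_of_mem_irreducibleComponents W hW)
  have hb := K377.NormSch.isBirational ν U hU hU'
  have hwg : w ∈ genericPoints Cn := by
    change closure {w} ∈ irreducibleComponents Cn
    rw [hw.def]
    exact hW
  have h1 : ν w ∈ genericPoints C := hb.1.mapsTo hwg
  have h2 : closure {ν w} ∈ irreducibleComponents (C : Type u) := h1
  have h3 := hdimC _ h2
  rw [← dim_image ν w] at h3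
  rw [hw.def] at h3
  exact h3

/-- Existence of the normalisation of a proper geometrically reduced curve. -/
theorem exists_norm {C : Scheme.{u}} (g : C ⟶ Spec (CommRingCat.of κ)) [IsProper g] [GeometricallyReduced g]
    (hdimC : ∀ W ∈ irreducibleComponents (C : Type u), topologicalKrullDim W = 1) :
    ∃ (Cn : Scheme.{u}) (ν : Cn ⟶ C), IsFinite ν ∧ Pi1.IsNormalScheme Cn ∧
      (∃ U : C.Opens, Dense (U : Set C) ∧ Dense ((ν ⁻¹ᵁ U : Cn.Opens) : Set Cn) ∧ IsIso (ν ∣_ U)) ∧
      IsProper (ν ≫ g) ∧ GeometricallyReduced (ν ≫ g) ∧ (∀ x : Cn, IsRegularLocalRing (Cn.presheaf.stalk x)) ∧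
      (∀ W ∈ irreducibleComponents (Cn : Type u), topologicalKrullDim W = 1) := by
  have hCN : IsLocallyNoetherian C := LocallyOfFiniteType.isLocallyNoetherian g
  have hCc : CompactSpace C := QuasiCompact.compactSpace_of_compactSpace g
  have hCn : IsNoetherian C := {}
  have hred : IsReduced C := GeometricallyReduced.isReduced_of_flat_of_isLocallyNoetherian g
  have hCs : C.IsSeparated := by
    rw [Scheme.isSeparated_iff, ← terminal.comp_from g]
    infer_instance
  obtain ⟨Cn, ν, h1, h2, h3, U, h4, h5, h6⟩ := K377.NormSch.exists_norm (X := C) (isNagata g) (isOpen_reg g)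
  have hiso : IsIso (ν ∣_ U) := h3 U h4
  have hN1 : IsLocallyNoetherian Cn := LocallyOfFiniteType.isLocallyNoetherian (ν ≫ g)
  have hN2 : CompactSpace Cn := QuasiCompact.compactSpace_of_compactSpace (ν ≫ g)
  have hN3 : IsNoetherian Cn := {}
  have hdim := K488.NormSq.dim_le hdimC
  exact ⟨Cn, ν, h1, h2, ⟨U, h5, h6, hiso⟩, inferInstance, K488.NormSq.geometricallyReduced g ν h2 U h5 h6 hiso,
    K488.NormSq.isRegular g ν hdim h2, dim_components ν hdimC U h5 h6⟩

end K488.NormEx
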