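import Groth.Agent.S9250
import Groth.Agent.S9256
import Groth.Agent.S9293
import Groth.Agent.Ega41.SepExt
import Groth.Agent.Sga7.H732.Reg

/-!
# Regularity is preserved by separable (geometrically reduced) extensions of the base field
-/

set_option autoImplicit false
universe u

open CategoryTheory CategoryTheory.Limits AlgebraicGeometry
open Groth.Agent

namespace K488.RegBC

open TensorProduct

/-- A separable algebraic extension is geometrically reduced. -/
theorem isGeometricallyReduced_of_isSeparable (κ k : Type u) [Field κ] [Field k] [Algebra κ k]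
    [Algebra.IsSeparable κ k] : Algebra.IsGeometricallyReduced κ k := by
  have : Algebra.FormallyEtale κ k := Algebra.FormallyEtale.of_isSeparable κ k
  exact (Ega41.SepExt.formallySmooth_iff_isGeometricallyReduced κ k).1 inferInstance

variable {κ k : Type u} [Field κ] [Field k] [Algebra κ k]

theorem isRegularRing_tensor [Algebra.IsGeometricallyReduced κ k] (A : Type u) [CommRing A] [Algebra κ A]
    [Algebra.FiniteType κ A] [IsRegularRing A] : IsRegularRing (A ⊗[κ] k) := by
  have h1 : CAlg.IsRegularHom κ k := (S9256.result κ k).2 inferInstance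
  have h2 : CAlg.IsRegularHom A (A ⊗[κ] k) := S9293.result κ k A h1
  have h3 : IsNoetherianRing (k ⊗[κ] A) := Algebra.FiniteType.isNoetherianRing k _
  have : IsNoetherianRing (A ⊗[κ] k) :=
    isNoetherianRing_of_ringEquiv _ (Algebra.TensorProduct.comm κ k A).toRingEquiv
  exact S9250.result A _ h2

theorem isRegularScheme_Spec (A : Type u) [CommRing A] [IsRegularRing A] :
    Models.IsRegularScheme (Spec (CommRingCat.of A)) := by
  intro x
  have h : IsRegularRing Γ(Spec (CommRingCat.of A), ⊤) :=
    IsRegularRing.of_ringEquiv (Scheme.ΓSpecIso (CommRingCat.of A)).commRingCatIsoToRingEquiv.symm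
  exact Sga7.H732.Reg.stalkRegular_of_ring (isAffineOpen_top _) (x := x) trivial

/-- **Regularity is preserved by separable base field extensions.** -/
theorem isRegularScheme_pullback [Algebra.IsGeometricallyReduced κ k] {C : Scheme.{u}}
    (g : C ⟶ Spec (CommRingCat.of κ)) [LocallyOfFiniteType g] (hC : Models.IsRegularScheme C) :
    Models.IsRegularScheme (pullback g (Spec.map (CommRingCat.ofHom (algebraMap κ k)))) := by
  intro x'
  let σ := Spec.map (CommRingCat.ofHom (algebraMap κ k))
  have hlN : IsLocallyNoetherian C := LocallyOfFiniteType.isLocallyNoetherian g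
  obtain ⟨_, ⟨U, hU, rfl⟩, hxU, -⟩ :=
    C.isBasis_affineOpens.exists_subset_of_mem_open (Set.mem_univ ((pullback.fst g σ) x')) isOpen_univ
  replace hU : IsAffineOpen U := hU
  let ψ : CommRingCat.of κ ⟶ Γ(C, U) := Spec.preimage (hU.fromSpec ≫ g)
  have hψ : Spec.map ψ = hU.fromSpec ≫ g := Spec.map_preimage _
  let _ : Algebra κ Γ(C, U) := ψ.hom.toAlgebra
  have hft : Algebra.FiniteType κ Γ(C, U) := by
    have h1 : LocallyOfFiniteType (Spec.map ψ) := by rw [hψ]; infer_instance
    exact (HasRingHomProperty.Spec_iff (P := @LocallyOfFiniteType)).1 h1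
  have hN : IsNoetherianRing Γ(C, U) := IsLocallyNoetherian.component_noetherian ⟨U, hU⟩
  have hreg : IsRegularRing Γ(C, U) := Sga7.H732.Reg.ring_of_stalkRegular hU fun x _ => hC x
  have hreg2 := isRegularRing_tensor (κ := κ) (k := k) Γ(C, U)
  -- the chart
  have hsq : IsPullback (Spec.map (CommRingCat.ofHom (Algebra.TensorProduct.includeLeftRingHom : Γ(C, U) →+* Γ(C, U) ⊗[κ] k)))
      (Spec.map (CommRingCat.ofHom (Algebra.TensorProduct.includeRight : k →ₐ[κ] Γ(C, U) ⊗[κ] k).toRingHom))
      (Spec.map ψ) σ := isPullback_SpecMap_of_isPushout _ _ _ _ (CommRingCat.isPushout_tensorProduct κ Γ(C, U) k)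
  rw [hψ] at hsq
  let j : Spec (CommRingCat.of (Γ(C, U) ⊗[κ] k)) ⟶ pullback g σ :=
    pullback.lift (Spec.map (CommRingCat.ofHom (Algebra.TensorProduct.includeLeftRingHom : Γ(C, U) →+* Γ(C, U) ⊗[κ] k)) ≫
      hU.fromSpec) (Spec.map (CommRingCat.ofHom (Algebra.TensorProduct.includeRight : k →ₐ[κ] Γ(C, U) ⊗[κ] k).toRingHom))
      (by rw [Category.assoc, hsq.w])
  have hj1 : j ≫ pullback.fst g σ = _ ≫ hU.fromSpec := pullback.lift_fst _ _ _
  have hj2 : j ≫ pullback.snd g σ = _ := pullback.lift_snd _ _ _
  have hjsq : IsPullback j (Spec.map (CommRingCat.ofHom (Algebra.TensorProduct.includeLeftRingHom : Γ(C, U) →+* Γ(C, U) ⊗[κ] k)))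
      (pullback.fst g σ) hU.fromSpec := by
    refine IsPullback.of_right ?_ hj1 (IsPullback.of_hasPullback g σ).flip
    rw [hj2]
    exact hsq.flip
  have hjo : IsOpenImmersion j := MorphismProperty.of_isPullback (P := @IsOpenImmersion) hjsq.flip inferInstance
  have hx' : x' ∈ Set.range j := by
    have h1 : (pullback.fst g σ) x' ∈ Set.range hU.fromSpec := by
      rw [hU.range_fromSpec]
      exact hxU
    obtain ⟨t, ht⟩ := h1
    obtain ⟨z, hz, -⟩ := Scheme.Pullback.exists_preimage_pullback (f := pullback.fst g σ) (g := hU.fromSpec) x' t ht.symm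
    refine ⟨hjsq.isoPullback.inv z, ?_⟩
    rw [← Scheme.Hom.comp_apply, IsPullback.isoPullback_inv_fst]
    exact hz
  obtain ⟨y, rfl⟩ := hx'
  have h1 := isRegularScheme_Spec (Γ(C, U) ⊗[κ] k) y
  exact IsRegularLocalRing.of_ringEquiv (asIso (j.stalkMap y)).commRingCatIsoToRingEquiv.symm

end K488.RegBC
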