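import Groth.Agent.Neron.K488.PsiInj
import Groth.Agent.Neron.K488.RegBC
import Groth.Agent.Pic13.H520.InjAA
import Groth.Agent.Ega1.GenPts
import Groth.Agent.S1549
import Groth.Agent.S2821
import Groth.Agent.Sga7.H515.SepPoint

/-!
# The connected components of a regular geometrically reduced proper scheme over the separable closure
-/

set_option autoImplicit false

universe v u

open CategoryTheory CategoryTheory.Limits AlgebraicGeometry TopologicalSpace Opposite
open Groth.Agent Groth.Agent.Grpsch Groth.Agent.Grpsch.PicGrp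
open Groth.Agent.Pic13.H602.Rig (Inj)

namespace K488.Comp

theorem geometricallyReduced_comp {X Y S : Scheme.{u}} (i : X ⟶ Y) [IsOpenImmersion i] (f : Y ⟶ S)
    [GeometricallyReduced f] : GeometricallyReduced (i ≫ f) := by
  refine ⟨fun K _ y Z fst snd hZ => ?_⟩
  have h1 := IsPullback.of_hasPullback f y
  obtain ⟨c, h2⟩ : ∃ c, IsPullback fst c i (pullback.fst f y) := ⟨_, hZ.of_bot' h1⟩
  have h3 : IsOpenImmersion c := MorphismProperty.of_isPullback h2 inferInstance
  have h4 : IsReduced (pullback f y) := GeometricallyReduced.geometrically_isReduced _ _ _ h1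
  exact isReduced_of_isOpenImmersion c

/-- A nonempty smooth scheme over a separably closed field has a rational point. -/
theorem exists_section_of_smooth {k : Type u} [Field k] [IsSepClosed k] {D : Scheme.{u}}
    (f : D ⟶ Spec (CommRingCat.of k)) [Smooth f] [Nonempty D] : ∃ x : Spec (CommRingCat.of k) ⟶ D, x ≫ f = 𝟙 _ := by
  obtain ⟨K₁, _, _, _, _, s, hs⟩ := Sga7.H515.SepPoint.exists_point f
  have hb : Function.Bijective (algebraMap k K₁) :=
    ⟨(algebraMap k K₁).injective, IsSepClosed.algebraMap_surjective k K₁⟩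
  have : IsIso (CommRingCat.ofHom (algebraMap k K₁)) :=
    (ConcreteCategory.isIso_iff_bijective _).2 hb
  refine ⟨inv (Spec.map (CommRingCat.ofHom (algebraMap k K₁))) ≫ s, ?_⟩
  rw [Category.assoc, hs, IsIso.inv_hom_id]

/-- A nonempty geometrically reduced scheme over a separably closed field has a rational point. -/
theorem exists_section {k : Type u} [Field k] [IsSepClosed k] {D : Scheme.{u}} (f : D ⟶ Spec (CommRingCat.of k))
    [LocallyOfFiniteType f] [GeometricallyReduced f] [Nonempty D] : ∃ x : Spec (CommRingCat.of k) ⟶ D, x ≫ f = 𝟙 _ := by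
  let _ : D.Over (Spec (CommRingCat.of k)) := ⟨f⟩
  have hr : IsReduced D := GeometricallyReduced.isReduced_of_flat_of_isLocallyNoetherian f
  have h1 : LocallyOfFiniteType (D ↘ Spec (CommRingCat.of k)) := ‹LocallyOfFiniteType f›
  have h2 : GeometricallyReduced (D ↘ Spec (CommRingCat.of k)) := ‹GeometricallyReduced f›
  obtain ⟨U, hU, hs⟩ := (S1549.result k D).1 h2
  have hs' : Smooth (U.ι ≫ f) := hs
  have hne : Nonempty (U : Scheme.{u}) := by
    obtain ⟨y, hy⟩ := hU.nonempty
    exact ⟨⟨y, hy⟩⟩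
  obtain ⟨x, hx⟩ := exists_section_of_smooth (U.ι ≫ f)
  exact ⟨x ≫ U.ι, by rw [Category.assoc, hx]⟩

section mm

variable {S S' : Scheme.{u}} (σ : S' ⟶ S) {C : Scheme.{u}} (g : C ⟶ S) (U : (pullback g σ).Opens)

theorem hqU : (U.ι ≫ pullback.fst g σ) ≫ g = (U.ι ≫ pullback.snd g σ) ≫ σ := by
  rw [Category.assoc, Category.assoc, pullback.condition]

/-- The projection `C ×_S T ⟶ C ×_S S'`. -/
noncomputable def prT (T : Over S') : PicF.XT g (Psi.dn σ T) ⟶ pullback g σ :=
  pullback.lift (pullback.fst g (T.hom ≫ σ)) (pullback.snd g (T.hom ≫ σ) ≫ T.hom) (by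
    rw [Category.assoc]
    exact pullback.condition)

theorem isPullback_prT (T : Over S') :
    IsPullback (prT σ g T) (pullback.snd g (T.hom ≫ σ)) (pullback.snd g σ) T.hom := by
  refine IsPullback.of_right ?_ (pullback.lift_snd _ _ _) (IsPullback.of_hasPullback g σ)
  rw [prT, pullback.lift_fst]
  exact IsPullback.of_hasPullback g (T.hom ≫ σ)

theorem isPullback_mm (T : Over S') :
    IsPullback (Psi.mm σ g (U.ι ≫ pullback.snd g σ) (U.ι ≫ pullback.fst g σ) (hqU σ g U) T)
      (pullback.fst (U.ι ≫ pullback.snd g σ) T.hom) (prT σ g T) U.ι := by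
  have hw : Psi.mm σ g (U.ι ≫ pullback.snd g σ) (U.ι ≫ pullback.fst g σ) (hqU σ g U) T ≫ prT σ g T =
      pullback.fst (U.ι ≫ pullback.snd g σ) T.hom ≫ U.ι := by
    apply pullback.hom_ext
    · rw [Category.assoc, prT, pullback.lift_fst]
      exact (Psi.mm_fst _ _ _ _ _ T).trans (Category.assoc _ _ _).symm
    · rw [Category.assoc, prT, pullback.lift_snd, Category.assoc, pullback.condition, ← Category.assoc]
      congr 1
      exact Psi.mm_XTproj _ _ _ _ _ T
  refine IsPullback.of_right ?_ hw (isPullback_prT σ g T).flip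
  have h1 : Psi.mm σ g (U.ι ≫ pullback.snd g σ) (U.ι ≫ pullback.fst g σ) (hqU σ g U) T ≫
      pullback.snd g (T.hom ≫ σ) = pullback.snd (U.ι ≫ pullback.snd g σ) T.hom := Psi.mm_XTproj _ _ _ _ _ T
  rw [h1]
  exact (IsPullback.of_hasPullback (U.ι ≫ pullback.snd g σ) T.hom).flip

instance isOpenImmersion_mm (T : Over S') :
    IsOpenImmersion (Psi.mm σ g (U.ι ≫ pullback.snd g σ) (U.ι ≫ pullback.fst g σ) (hqU σ g U) T) :=
  MorphismProperty.of_isPullback (P := @IsOpenImmersion) (isPullback_mm σ g U T).flip inferInstance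

theorem mem_range_mm (T : Over S') (z : PicF.XT g (Psi.dn σ T)) :
    z ∈ Set.range (Psi.mm σ g (U.ι ≫ pullback.snd g σ) (U.ι ≫ pullback.fst g σ) (hqU σ g U) T) ↔
      prT σ g T z ∈ U := by
  have hsq := isPullback_mm σ g U T
  constructor
  · rintro ⟨y, rfl⟩
    rw [← Scheme.Hom.comp_apply, hsq.w, Scheme.Hom.comp_apply]
    exact (pullback.fst (U.ι ≫ pullback.snd g σ) T.hom y).2
  · intro hz
    obtain ⟨z', hz', -⟩ := Scheme.Pullback.exists_preimage_pullback (f := prT σ g T) (g := U.ι) z ⟨_, hz⟩ rfl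
    refine ⟨hsq.isoPullback.inv z', ?_⟩
    rw [← Scheme.Hom.comp_apply, IsPullback.isoPullback_inv_fst]
    exact hz'

end mm

variable {κ k : Type u} [Field κ] [Field k] [Algebra κ k]

theorem exists_components [Algebra.IsSeparable κ k] [IsSepClosed k] {C : Scheme.{u}}
    (g : C ⟶ Spec (CommRingCat.of κ)) [IsProper g] [GeometricallyReduced g] (hC : Models.IsRegularScheme C) :
    ∃ (ι : Type u) (_ : Finite ι) (D : ι → Scheme.{u}) (f : ∀ i, D i ⟶ Spec (CommRingCat.of k)) (q : ∀ i, D i ⟶ C)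
      (hq : ∀ i, q i ≫ g = f i ≫ Spec.map (CommRingCat.ofHom (algebraMap κ k)))
      (x : ∀ i, Spec (CommRingCat.of k) ⟶ D i) (_ : ∀ i, x i ≫ f i = 𝟙 _),
      (∀ i, IsIntegral (D i)) ∧ (∀ i, IsLocallyNoetherian (D i)) ∧ (∀ i, Models.IsRegularScheme (D i)) ∧
      (∀ i, Inj (f i) (x i)) ∧
      (∀ i T, IsOpenImmersion (Psi.mm _ g (f i) (q i) (hq i) T)) ∧
      (∀ i j T, i ≠ j → Disjoint (Set.range (Psi.mm _ g (f i) (q i) (hq i) T))
        (Set.range (Psi.mm _ g (f j) (q j) (hq j) T))) ∧
      (∀ T (z : PicF.XT g (Psi.dn _ T)), ∃ i, z ∈ Set.range (Psi.mm _ g (f i) (q i) (hq i) T)) := by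
  have hgr : Algebra.IsGeometricallyReduced κ k := RegBC.isGeometricallyReduced_of_isSeparable κ k
  let σ := Spec.map (CommRingCat.ofHom (algebraMap κ k))
  have hreg : Models.IsRegularScheme (pullback g σ) := RegBC.isRegularScheme_pullback g hC
  have hXc : CompactSpace (pullback g σ : Scheme.{u}) := QuasiCompact.compactSpace_of_compactSpace (pullback.snd g σ)
  have hXn : IsLocallyNoetherian (pullback g σ) := LocallyOfFiniteType.isLocallyNoetherian (pullback.snd g σ)
  have hXN : IsNoetherian (pullback g σ) := {}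
  have hXs : NoetherianSpace (pullback g σ : Scheme.{u}) := inferInstance
  obtain ⟨ι, hfin, U, hcl, hcon, hdis, hcov⟩ := Pic13.H520.InjAA.exists_comps (pullback g σ)
  have hCI : ∀ i, IsClosedImmersion (U i).ι := fun i =>
    IsClosedImmersion.of_isPreimmersion _ (by simpa using hcl i)
  have hP : ∀ i, IsProper ((U i).ι ≫ pullback.snd g σ) := fun i => inferInstance
  have hGR : ∀ i, GeometricallyReduced ((U i).ι ≫ pullback.snd g σ) := fun i =>
    geometricallyReduced_comp _ _
  have hCon : ∀ i, ConnectedSpace (U i : Scheme.{u}) := fun i => isConnected_iff_connectedSpace.1 (hcon i)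
  have hlN : ∀ i, IsLocallyNoetherian (U i : Scheme.{u}) := fun i =>
    LocallyOfFiniteType.isLocallyNoetherian ((U i).ι ≫ pullback.snd g σ)
  have hregU : ∀ i, Models.IsRegularScheme (U i : Scheme.{u}) := fun i y => by
    have := hreg ((U i).ι y)
    exact IsRegularLocalRing.of_ringEquiv (asIso ((U i).ι.stalkMap y)).commRingCatIsoToRingEquiv
  have hint : ∀ i, IsIntegral (U i : Scheme.{u}) := fun i => by
    rw [Ega1.GenPts.isIntegral_iff]
    refine ⟨hCon i, fun y => ?_⟩
    have := hregU i y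
    exact (S2821.result _).1
  choose x hx using fun i => exists_section ((U i).ι ≫ pullback.snd g σ)
  refine ⟨ι, hfin, fun i => (U i : Scheme.{u}), fun i => (U i).ι ≫ pullback.snd g σ,
    fun i => (U i).ι ≫ pullback.fst g σ, fun i => hqU σ g (U i), x, hx, hint, hlN, hregU, fun i => ?_,
    fun i T => isOpenImmersion_mm σ g (U i) T, fun i j T hij => ?_, fun T z => ?_⟩
  · exact Pic13.H520.InjAA.inj_of_connected _ _
  · rw [Set.disjoint_left]
    intro z hz hz'
    rw [mem_range_mm] at hz hz'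
    exact Set.disjoint_left.1 (hdis i j hij) hz hz'
  · obtain ⟨i, hi⟩ := hcov (prT σ g T z)
    exact ⟨i, (mem_range_mm σ g (U i) T z).2 hi⟩

end K488.Comp
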