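import Groth.Agent.Neron.K488.PicZM

/-!
# `Pic⁰` of a proper curve over a field is smooth, separated, quasi-compact and geometrically irreducible
-/

set_option autoImplicit false

universe u

open CategoryTheory CategoryTheory.Limits AlgebraicGeometry TopologicalSpace Opposite

namespace K488.JS

theorem picZero_props {K : Type u} [Field K] {C : Scheme.{u}} (g : C ⟶ Spec (CommRingCat.of K)) [IsProper g]
    (hdimC : topologicalKrullDim C ≤ 1) (J : Over (Spec (CommRingCat.of K)))
    (φ : ∀ T : Over (Spec (CommRingCat.of K)), PicF.Cl (PicF.XT g T) → (T ⟶ J))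
    (hJ : AbDual.IsRelPicZeroK Scheme.fppfPrecoverage g J φ) :
    Smooth J.hom ∧ IsSeparated J.hom ∧ QuasiCompact J.hom ∧ GeometricallyIrreducible J.hom := by
  obtain ⟨P, i, -, -, -, -, -, -, h7, h8, h9⟩ := K488.PicZ.exists_pic_of_isRelPicZeroK g hJ
  exact ⟨K488.PicZ.smooth_of_dim_le_one g hdimC hJ, h9, h7, h8⟩

end K488.JS
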