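import Groth.Agent.Neron.K488.Psi
import Groth.Agent.Pic13.H520.DisjPic

/-!
# A morphism into the Jacobian is determined by its rigidified classes
-/

set_option autoImplicit false

universe v u

open CategoryTheory CategoryTheory.Limits AlgebraicGeometry TopologicalSpace Opposite
open Groth.Agent Groth.Agent.Grpsch Groth.Agent.Grpsch.PicGrp
open Groth.Agent.Fga.RigGrp (Rg mem_Rg pull_mem norm norm_mem norm_apply pull_norm norm_of_mem toCl toCl_injective
  isInvertibleCl_toCl exists_toCl toCl_pull secT_XTproj norm_pull_XTproj XTmap_comp XTmap_id XTmap_fst XTmap_XTproj)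
open Groth.Agent.Pic13.H602.Rig (Inj)

namespace K488.Psi

/-- Morphisms which agree on an fpqc covering are equal. -/
theorem hom_ext_of_fpqc {X Z : Scheme.{u}} {ι : Type v} {U : ι → Scheme.{u}} {v : ∀ i, U i ⟶ X}
    (hv : Presieve.ofArrows U v ∈ Scheme.fpqcPrecoverage X) {b b' : X ⟶ Z} (h : ∀ i, v i ≫ b = v i ≫ b') : b = b' := by
  have h1 := (GrothendieckTopology.Subcanonical.isSheaf_of_isRepresentable (J := Scheme.fpqcTopology)
    (yoneda.obj Z)).isSheafFor _ (Precoverage.generate_mem_toGrothendieck hv)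
  refine h1.isSeparatedFor.ext fun Y f hf => ?_
  obtain ⟨i⟩ := hf
  exact h i

variable {S S' : Scheme.{u}} {σ : S' ⟶ S}

theorem dnm_hom_ext {T : Over S'} {J : Over S} {ι : Type v} {V : ι → Over S'} {j : ∀ i, V i ⟶ T}
    (hj : Presieve.ofArrows (fun i => (V i).left) (fun i => (j i).left) ∈ Scheme.fpqcPrecoverage T.left)
    {b b' : dn σ T ⟶ J} (h : ∀ i, dnm σ (j i) ≫ b = dnm σ (j i) ≫ b') : b = b' := by
  ext
  exact hom_ext_of_fpqc hj fun i => congrArg (fun z => z.left) (h i)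

variable {C : Scheme.{u}} {g : C ⟶ S} {J : Over S} {φ : ∀ T : Over S, PicF.Cl (PicF.XT g T) → (T ⟶ J)}

/-- Finitely many classes on a scheme are simultaneously trivial locally. -/
theorem exists_open {ι : Type v} [Finite ι] {T : Scheme.{u}} (n : ι → Pic T) (t : T) :
    ∃ U : T.Opens, t ∈ U ∧ ∀ i, pull U.ι (n i) = 1 := by
  choose U hU h using fun i => Pic13.H520.RigCls.exists_pull_eq_one (n i) t
  have := Fintype.ofFinite ι
  refine ⟨⟨⋂ i, (U i : Set T), isOpen_iInter_of_finite fun i => (U i).isOpen⟩, ?_, fun i => ?_⟩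
  · change t ∈ ⋂ i, (U i : Set T)
    exact Set.mem_iInter.2 hU
  · have hle : (⟨⋂ i, (U i : Set T), isOpen_iInter_of_finite fun i => (U i).isOpen⟩ : T.Opens) ≤ U i :=
      fun x hx => Set.mem_iInter.1 hx i
    rw [← Scheme.homOfLE_ι T hle, pull_comp, h, map_one]

/-- **Injectivity.** -/
theorem eq_of_isPsi {ι : Type v} [Finite ι] {D : ι → Scheme.{u}} {f : ∀ i, D i ⟶ S'} {q : ∀ i, D i ⟶ C}
    (hq : ∀ i, q i ≫ g = f i ≫ σ) {x : ∀ i, S' ⟶ D i} (hx : ∀ i, x i ≫ f i = 𝟙 S')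
    (hP : AbDual.IsRelPicZeroK Scheme.fppfPrecoverage g J φ)
    (ho : ∀ i T, IsOpenImmersion (mm σ g (f i) (q i) (hq i) T))
    (hd : ∀ i j T, i ≠ j → Disjoint (Set.range (mm σ g (f i) (q i) (hq i) T)) (Set.range (mm σ g (f j) (q j) (hq j) T)))
    (hc : ∀ T (z : PicF.XT g (dn σ T)), ∃ i, z ∈ Set.range (mm σ g (f i) (q i) (hq i) T))
    {T : Over S'} {b b' : dn σ T ⟶ J} {r : ∀ i, Pic (PicF.XT (f i) T)}
    (h : ∀ i, IsPsi σ (q i) (hq i) φ (x i) (hx i) T b (r i)) (h' : ∀ i, IsPsi σ (q i) (hq i) φ (x i) (hx i) T b' (r i)) :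
    b = b' := by
  obtain ⟨α, V, j, hj, hV⟩ := exists_cover_surj σ hP T b
  choose c hc0 hφ using hV
  refine dnm_hom_ext (Scheme.fppfPrecoverage_le_fpqcPrecoverage _ hj) fun l => ?_
  obtain ⟨β, W, w, hw, hW⟩ := exists_cover_surj σ hP (V l) (dnm σ (j l) ≫ b')
  choose c' hc0' hφ' using hW
  refine dnm_hom_ext (Scheme.fppfPrecoverage_le_fpqcPrecoverage _ hw) fun m => ?_
  -- the two classes on `W m`
  let c₁ := pull (PicF.XTmap g (dnm σ (w m))) (c l)
  have hc₁ : PZ g _ c₁ := (hc0 l).pull _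
  have hφ₁ : φ _ (toCl c₁) = dnm σ (w m ≫ j l) ≫ b := by
    rw [phi_pull hP _ (hc0 l), hφ, dnm_comp, Category.assoc]
  have hφ₂ : φ _ (toCl (c' m)) = dnm σ (w m ≫ j l) ≫ b' := by
    rw [hφ', dnm_comp, Category.assoc]
  have hn : ∀ i, norm (f i) (x i) (hx i) (W m) (pull (mm σ g (f i) (q i) (hq i) (W m)) (c₁ / c' m)) = 1 := fun i => by
    rw [map_div, map_div, ← (h i).2 (W m) (w m ≫ j l) c₁ hc₁ hφ₁, ← (h' i).2 (W m) (w m ≫ j l) (c' m) (hc0' m) hφ₂,
      div_self']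
  -- trivialise locally on `W m`
  have hloc : ∀ t : (W m).left, ∃ U : (W m).left.Opens, t ∈ U ∧
      dnm σ (Over.homMk U.ι rfl : Over.mk (U.ι ≫ (W m).hom) ⟶ W m) ≫ φ _ (toCl c₁) =
        dnm σ (Over.homMk U.ι rfl : Over.mk (U.ι ≫ (W m).hom) ⟶ W m) ≫ φ _ (toCl (c' m)) := by
    intro t
    obtain ⟨U, htU, hU⟩ := exists_open (fun i => pull (PicF.secT (f i) (x i) (hx i) (W m))
      (pull (mm σ g (f i) (q i) (hq i) (W m)) (c₁ / c' m))) t
    refine ⟨U, htU, ?_⟩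
    rw [← phi_pull hP _ hc₁, ← phi_pull hP _ (hc0' m)]
    congr 2
    rw [← div_eq_one, ← map_div]
    refine Pic13.H520.DisjPic.eq_one_of_disjoint _ (fun i => mm σ g (f i) (q i) (hq i) _)
      (fun i i' hi => hd i i' _ hi) (hc _) _ fun i => ?_
    have h2 := hn i
    rw [norm_apply, div_eq_one] at h2
    rw [← pull_comp, ← XTmap_mm, pull_comp, h2, ← pull_comp, XTmap_XTproj, pull_comp]
    exact (congrArg _ (hU i)).trans (map_one _)
  choose U hU hU' using hloc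
  rw [← Category.assoc, ← Category.assoc, ← dnm_comp, ← hφ₁, ← hφ₂]
  refine dnm_hom_ext (V := fun t => Over.mk ((U t).ι ≫ (W m).hom)) (j := fun t => Over.homMk (U t).ι rfl) ?_ hU'
  apply Scheme.zariskiPrecoverage_le_fpqcPrecoverage
  rw [Scheme.ofArrows_mem_precoverage_iff]
  refine ⟨fun t => ⟨t, ⟨t, hU t⟩, rfl⟩, fun t => ?_⟩
  change IsOpenImmersion (U t).ι
  infer_instance

end K488.Psi
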