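import Groth.Agent.Neron.K488.Const

/-!
# A smooth group scheme over a field which is set-theoretically dominated by an algebraic point is trivial
-/

set_option autoImplicit false

universe v u

open CategoryTheory CategoryTheory.Limits AlgebraicGeometry TopologicalSpace Opposite MonObj
open Groth.Agent

namespace K488.Pt

/-- A point of `U` which is the image of `Spec κ → U` with `Spec κ → U → T` integral is closed. -/
theorem isClosed_singleton_of_integral {U T : Scheme.{u}} {κ : Type u} [Field κ]
    (c : Spec (CommRingCat.of κ) ⟶ U) (f : U ⟶ T) [IsIntegralHom (c ≫ f)] (t : ↥(Spec (CommRingCat.of κ))) :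
    IsClosed ({c t} : Set U) := by
  have key : ∀ v : U, c t ⤳ v → v = c t := by
    intro v hv
    obtain ⟨W, hW, hvW, -⟩ := exists_isAffineOpen_mem_and_subset (x := v) (U := ⊤) trivial
    have hcW : c t ∈ W := hv.mem_open W.isOpen hvW
    have hr : Set.range c ⊆ W := by
      rintro _ ⟨t', rfl⟩
      rw [Subsingleton.elim t' t]
      exact hcW
    let c' : Spec (CommRingCat.of κ) ⟶ (W : Scheme.{u}) := IsOpenImmersion.lift W.ι c (by simpa using hr)
    have hc' : c' ≫ W.ι = c := IsOpenImmersion.lift_fac _ _ _
    have hWa : IsAffine (W : Scheme.{u}) := hW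
    have h1 : IsIntegralHom (c' ≫ (W.ι ≫ f)) := by
      rw [← Category.assoc, hc']
      infer_instance
    have h2 : IsSeparated (W.ι ≫ f) := inferInstance
    have h3 : IsIntegralHom c' := IsIntegralHom.of_comp c' (W.ι ≫ f)
    have h4 : IsClosed (Set.range c') := c'.isClosedMap.isClosed_range
    have h5 : c' t ⤳ (⟨v, hvW⟩ : W) := by
      have h6 : W.ι (c' t) ⤳ W.ι (⟨v, hvW⟩ : W) := by
        rw [← Scheme.Hom.comp_apply, hc']
        exact hv
      exact W.ι.isOpenEmbedding.isInducing.specializes_iff.1 h6
    obtain ⟨t', ht'⟩ := h5.mem_closed h4 ⟨t, rfl⟩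
    have h7 : W.ι (c' t') = v := by rw [ht']; rfl
    rw [← h7, ← Scheme.Hom.comp_apply, hc', Subsingleton.elim t' t]
  rw [← closure_eq_iff_isClosed]
  ext v
  rw [← specializes_iff_mem_closure]
  exact ⟨key v, fun h => specializes_of_eq h.symm⟩

/-- A smooth scheme over a field is reduced. -/
theorem isReduced_of_smooth {κ : Type u} [Field κ] {X : Scheme.{u}} (f : X ⟶ Spec (CommRingCat.of κ)) [Smooth f] :
    IsReduced X := by
  have h1 : Models.IsRegularScheme X := Sga7.H732.Reg.isRegularScheme_of_smooth f (RegBC.isRegularScheme_Spec κ)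
  have : ∀ x : X, _root_.IsReduced (X.presheaf.stalk x) := fun x => by
    have := h1 x
    have := (S2821.result (X.presheaf.stalk x)).1
    infer_instance
  exact isReduced_of_isReduced_stalk X

/-- A group scheme over a field with one point and reduced is trivial. -/
theorem isIso_of_subsingleton {κ : Type u} [Field κ] (H : Over (Spec (CommRingCat.of κ))) [GrpObj H]
    [IsReduced H.left] (h : Subsingleton H.left) : IsIso H.hom := by
  let e : Spec (CommRingCat.of κ) ⟶ H.left := η[H].left
  have he : e ≫ H.hom = 𝟙 _ := Over.w η[H]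
  have h1 : IsClosedImmersion e := isClosedImmersion_of_comp_eq_id _ _ he
  have h2 : Surjective e := ⟨fun y => ⟨IsLocalRing.closedPoint κ, Subsingleton.elim _ _⟩⟩
  have h3 : IsIso e := isIso_of_isClosedImmersion_of_surjective e
  have h4 : H.hom = inv e := by rw [← cancel_epi e, he, IsIso.hom_inv_id]
  rw [h4]
  infer_instance

end K488.Pt
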