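import Groth.Agent.S5938
import Groth.Agent.Neron.K488.Pt
import Mathlib.AlgebraicGeometry.Morphisms.LocalFlatDescent
import Mathlib.AlgebraicGeometry.Cover.Sigma

/-!
# Descent along jointly surjective families of flat morphisms locally of finite presentation
-/

set_option autoImplicit false
set_option backward.isDefEq.respectTransparency.types false

universe v u

open CategoryTheory CategoryTheory.Limits AlgebraicGeometry TopologicalSpace Opposite
open Groth.Agent

namespace K488.FppfLoc

theorem prop_of_sigma (P : MorphismProperty Scheme.{u}) [P.IsStableUnderBaseChange]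
    [IsZariskiLocalAtTarget P] {X Y : Scheme.{u}} (f : X ⟶ Y) {ι : Type u} (U : ι → Scheme.{u})
    (g : ∀ i, U i ⟶ Y) (h : ∀ i, P (pullback.snd f (g i))) :
    P (pullback.snd f (Sigma.desc g)) := by
  rw [IsZariskiLocalAtTarget.iff_of_openCover (P := P) (sigmaOpenCover U)]
  intro i
  let e : pullback (pullback.snd f (Sigma.desc g)) (Sigma.ι U i) ≅
      pullback f (Sigma.ι U i ≫ Sigma.desc g) := pullbackLeftPullbackSndIso f (Sigma.desc g) _
  have he : pullback.snd (pullback.snd f (Sigma.desc g)) (Sigma.ι U i) =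
      e.hom ≫ pullback.snd f (Sigma.ι U i ≫ Sigma.desc g) := by
    exact (pullbackLeftPullbackSndIso_hom_snd _ _ _).symm
  change P (pullback.snd (pullback.snd f (Sigma.desc g)) (Sigma.ι U i))
  rw [he, P.cancel_left_of_respectsIso]
  have h2 : Sigma.ι U i ≫ Sigma.desc g = g i := Sigma.ι_desc _ _
  rw [h2]
  exact h i

/-- Smoothness is fppf local on the target. -/
theorem smooth_of_family {X Y : Scheme.{u}} (f : X ⟶ Y)
    (h : ∀ y : Y, ∃ (Z : Scheme.{u}) (z : Z ⟶ Y), Flat z ∧ LocallyOfFinitePresentation z ∧ y ∈ Set.range z ∧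
      Smooth (pullback.snd f z)) : Smooth f := by
  choose Z z h1 h2 h3 h4 using h
  have hs := prop_of_sigma @Smooth.{u} f Z z h4
  refine MorphismProperty.of_pullback_snd_of_descendsAlong (P := @Smooth.{u})
      (Q := @Surjective ⊓ @Flat ⊓ @LocallyOfFinitePresentation) (g := Sigma.desc z) ⟨⟨?_, ?_⟩, ?_⟩ hs
  · refine ⟨fun y => ?_⟩
    obtain ⟨x, hx⟩ := h3 y
    refine ⟨Sigma.ι Z y x, ?_⟩
    rw [← Scheme.Hom.comp_apply, Sigma.ι_desc]
    exact hx
  · exact IsZariskiLocalAtSource.sigmaDesc (P := @Flat) (fun _ => inferInstance)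
  · exact IsZariskiLocalAtSource.sigmaDesc (P := @LocallyOfFinitePresentation)
        (fun _ => inferInstance)

/-- Being locally of finite type descends along a morphism which has sections fppf locally. -/
theorem locallyOfFiniteType_of_family {E U V : Scheme.{u}} (f : E ⟶ U) (q : U ⟶ V)
    (h : ∀ y : U, ∃ (Z : Scheme.{u}) (z : Z ⟶ U), Flat z ∧ LocallyOfFinitePresentation z ∧ y ∈ Set.range z ∧
      ∃ l : Z ⟶ E, l ≫ f = z) (hf : LocallyOfFiniteType (f ≫ q)) : LocallyOfFiniteType q := by
  choose Z z h1 h2 h3 l hl using h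
  have key : ∀ y, LocallyOfFiniteType (z y ≫ q) := by
    intro y
    have a1 : LocallyOfFiniteType (pullback.fst f (z y) ≫ f ≫ q) := inferInstance
    let s : Z y ⟶ pullback f (z y) := pullback.lift (l y) (𝟙 _) (by rw [hl, Category.id_comp])
    have hs : s ≫ pullback.snd f (z y) = 𝟙 _ := pullback.lift_snd _ _ _
    have a2 : LocallyOfFiniteType (s ≫ pullback.snd f (z y)) := by rw [hs]; infer_instance
    have a3 : LocallyOfFiniteType s := locallyOfFiniteType_of_comp s (pullback.snd f (z y))
    rw [pullback.condition_assoc] at a1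
    have a4 : s ≫ pullback.snd f (z y) ≫ z y ≫ q = z y ≫ q := by
      rw [← Category.assoc, hs, Category.id_comp]
    rw [← a4]
    infer_instance
  have b1 : Surjective (Sigma.desc z) := by
    refine ⟨fun y => ?_⟩
    obtain ⟨x, hx⟩ := h3 y
    refine ⟨Sigma.ι Z y x, ?_⟩
    rw [← Scheme.Hom.comp_apply, Sigma.ι_desc]
    exact hx
  have b2 : Flat (Sigma.desc z) := IsZariskiLocalAtSource.sigmaDesc (P := @Flat) (fun _ => inferInstance)
  have b3 : LocallyOfFinitePresentation (Sigma.desc z) :=
    IsZariskiLocalAtSource.sigmaDesc (P := @LocallyOfFinitePresentation) (fun _ => inferInstance)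
  have b4 : LocallyOfFiniteType (Sigma.desc z ≫ q) := by
    rw [IsZariskiLocalAtSource.iff_of_openCover (P := @LocallyOfFiniteType) (sigmaOpenCover Z)]
    intro y
    change LocallyOfFiniteType (Sigma.ι Z y ≫ Sigma.desc z ≫ q)
    rw [Sigma.ι_desc_assoc]
    exact key y
  exact S5938.result (Sigma.desc z) q

/-- Reducedness descends along a morphism which has sections flat locally. -/
theorem isReduced_of_family {E U : Scheme.{u}} (f : E ⟶ U) [IsReduced E]
    (h : ∀ y : U, ∃ (Z : Scheme.{u}) (z : Z ⟶ U), Flat z ∧ y ∈ Set.range z ∧ ∃ l : Z ⟶ E, l ≫ f = z) :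
    IsReduced U := by
  have : ∀ y : U, _root_.IsReduced (U.presheaf.stalk y) := by
    intro y
    obtain ⟨Z, z, h1, ⟨x, rfl⟩, l, rfl⟩ := h y
    have h2 : ((l ≫ f).stalkMap x).hom.Flat := Flat.stalkMap (l ≫ f) x
    have h3 : Function.Injective ((l ≫ f).stalkMap x).hom := by
      algebraize [((l ≫ f).stalkMap x).hom]
      have : IsLocalHom (algebraMap (U.presheaf.stalk ((l ≫ f) x)) (Z.presheaf.stalk x)) :=
        inferInstanceAs (IsLocalHom ((l ≫ f).stalkMap x).hom)
      have : Module.FaithfullyFlat (U.presheaf.stalk ((l ≫ f) x)) (Z.presheaf.stalk x) :=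
        Module.FaithfullyFlat.of_flat_of_isLocalHom
      exact FaithfulSMul.algebraMap_injective _ _
    have h4 : Function.Injective (f.stalkMap (l x)).hom := by
      have h5 : (l ≫ f).stalkMap x = f.stalkMap (l x) ≫ l.stalkMap x := Scheme.Hom.stalkMap_comp l f x
      rw [h5] at h3
      exact Function.Injective.of_comp (f := (l.stalkMap x).hom) h3
    have h6 : _root_.IsReduced (E.presheaf.stalk (l x)) := inferInstance
    exact isReduced_of_injective (f.stalkMap (l x)).hom h4
  exact isReduced_of_isReduced_stalk U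

/-- Geometric reducedness descends along a smooth scheme with sections flat locally. -/
theorem geometricallyReduced_of_family {κ : Type u} [Field κ] {E U : Scheme.{u}} (f : E ⟶ U)
    (q : U ⟶ Spec (CommRingCat.of κ)) (hsm : Smooth (f ≫ q))
    (h : ∀ y : U, ∃ (Z : Scheme.{u}) (z : Z ⟶ U), Flat z ∧ y ∈ Set.range z ∧ ∃ l : Z ⟶ E, l ≫ f = z) :
    GeometricallyReduced q := by
  refine ⟨fun K _ y Z₀ fst snd hZ => ?_⟩
  -- the base change of `E`
  have hE : IsPullback (pullback.snd f fst) (pullback.fst f fst) fst f :=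
    (IsPullback.of_hasPullback f fst).flip
  have hE' : IsPullback (pullback.snd f fst ≫ snd) (pullback.fst f fst) y (f ≫ q) := hE.paste_horiz hZ.flip
  have hs : Smooth (pullback.snd f fst ≫ snd) := MorphismProperty.of_isPullback (P := @Smooth.{u}) hE'.flip hsm
  have hr : IsReduced (pullback f fst) := Pt.isReduced_of_smooth (pullback.snd f fst ≫ snd)
  refine isReduced_of_family (pullback.snd f fst) fun w => ?_
  obtain ⟨Z, z, h1, ⟨x, hx⟩, l, hl⟩ := h (fst w)
  obtain ⟨v, hv₁, hv₂⟩ := Scheme.Pullback.exists_preimage_pullback x w hx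
  refine ⟨pullback z fst, pullback.snd z fst, inferInstance, ⟨v, hv₂⟩,
    pullback.lift (pullback.fst z fst ≫ l) (pullback.snd z fst) ?_, pullback.lift_snd _ _ _⟩
  rw [Category.assoc, hl, pullback.condition]

end K488.FppfLoc
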