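import Groth.Agent.Neron.K488.RigFpqc
import Groth.Agent.AbVar.K530.PicZero

/-!
# The rigidified class attached to a morphism into the Jacobian

`J` represents the fppf-sheafified `Pic⁰` of `g : C ⟶ S` through `φ`; `σ : S' ⟶ S`, `f : D ⟶ S'` with a section `x` and
`q : D ⟶ C` over `σ`.  For an `S'`-scheme `T` and an `S`-morphism `b : T ⟶ J`, `IsPsi b r` says that `r` is the class on `D × T`
trivial along `x` which is locally the normalised restriction of the classes corresponding to `b`.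
-/

set_option autoImplicit false

universe v u

open CategoryTheory CategoryTheory.Limits AlgebraicGeometry TopologicalSpace Opposite
open Groth.Agent Groth.Agent.Grpsch Groth.Agent.Grpsch.PicGrp
open Groth.Agent.Fga.RigGrp (Rg mem_Rg pull_mem norm norm_mem norm_apply pull_norm norm_of_mem toCl toCl_injective
  isInvertibleCl_toCl exists_toCl toCl_pull secT_XTproj norm_pull_XTproj XTmap_comp XTmap_id XTmap_fst XTmap_XTproj)
open Groth.Agent.Pic13.H602.Rig (Inj)
open K530.PicZero (exists_toCl_of_isPicZeroCl isPicZeroCl_pullCl)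

namespace K488.Psi

/-! ### Small coverings -/

/-- A small covering family in a covering presieve. -/
theorem exists_small {X : Scheme.{u}} {R : Presieve X} (hR : R ∈ Scheme.fppfPrecoverage X) :
    ∃ (ι : Type u) (U : ι → Scheme.{u}) (v : ∀ i, U i ⟶ X), (∀ i, R (v i)) ∧
      Presieve.ofArrows U v ∈ Scheme.fppfPrecoverage X := by
  obtain ⟨ι, U, v, rfl⟩ := R.exists_eq_ofArrows
  obtain ⟨hR1, hR2⟩ := (Scheme.ofArrows_mem_precoverage_iff _).1 hR
  choose i hi using hR1
  refine ⟨X, fun x => U (i x), fun x => v (i x), fun x => ⟨i x⟩, ?_⟩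
  exact (Scheme.ofArrows_mem_precoverage_iff _).2 ⟨fun x => ⟨x, hi x⟩, fun x => hR2 _⟩

section dn

variable {S S' : Scheme.{u}} (σ : S' ⟶ S)

/-- Restriction of scalars. -/
abbrev dn (T : Over S') : Over S := Over.mk (T.hom ≫ σ)

/-- Restriction of scalars on morphisms. -/
abbrev dnm {T T' : Over S'} (a : T' ⟶ T) : dn σ T' ⟶ dn σ T := Over.homMk a.left (by
  change a.left ≫ T.hom ≫ σ = T'.hom ≫ σ
  rw [Over.w_assoc])

theorem dnm_comp {T T' T'' : Over S'} (a : T' ⟶ T) (b : T'' ⟶ T') : dnm σ (b ≫ a) = dnm σ b ≫ dnm σ a := by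
  ext
  rfl

theorem dnm_id (T : Over S') : dnm σ (𝟙 T) = 𝟙 (dn σ T) := by
  ext
  rfl

end dn

variable {S S' : Scheme.{u}} (σ : S' ⟶ S) {C D : Scheme.{u}} (g : C ⟶ S) (f : D ⟶ S') (q : D ⟶ C)
  (hq : q ≫ g = f ≫ σ)

/-- The morphism `D × T ⟶ C × T`. -/
noncomputable def mm (T : Over S') : PicF.XT f T ⟶ PicF.XT g (dn σ T) :=
  pullback.map f T.hom g (T.hom ≫ σ) q (𝟙 _) σ hq.symm (by simp)

@[reassoc]
theorem mm_fst (T : Over S') : mm σ g f q hq T ≫ pullback.fst g (dn σ T).hom = pullback.fst f T.hom ≫ q :=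
  pullback.lift_fst _ _ _

@[reassoc]
theorem mm_XTproj (T : Over S') : mm σ g f q hq T ≫ PicF.XTproj g (dn σ T) = PicF.XTproj f T :=
  (pullback.lift_snd _ _ _).trans (Category.comp_id _)

@[reassoc]
theorem XTmap_mm {T T' : Over S'} (a : T' ⟶ T) :
    PicF.XTmap f a ≫ mm σ g f q hq T = mm σ g f q hq T' ≫ PicF.XTmap g (dnm σ a) := by
  apply pullback.hom_ext
  · rw [Category.assoc, Category.assoc, XTmap_fst g (dnm σ a), mm_fst, mm_fst, ← Category.assoc, XTmap_fst]
  · have h1 := XTmap_XTproj g (dnm σ a)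
    have h2 := mm_XTproj σ g f q hq T
    have h3 := mm_XTproj σ g f q hq T'
    have h4 := XTmap_XTproj f a
    change (PicF.XTmap f a ≫ mm σ g f q hq T) ≫ PicF.XTproj g (dn σ T) =
      (mm σ g f q hq T' ≫ PicF.XTmap g (dnm σ a)) ≫ PicF.XTproj g (dn σ T)
    rw [Category.assoc, Category.assoc, h1, h2, h4, ← Category.assoc, h3]
    rfl

/-- `Pic⁰` classes. -/
def PZ (T : Over S) (c : Pic (PicF.XT g T)) : Prop := AbDual.IsPicZeroCl g T (toCl c)

variable {g} in
theorem PZ.pull {T T' : Over S} (a : T' ⟶ T) {c : Pic (PicF.XT g T)} (h : PZ g T c) :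
    PZ g T' (pull (PicF.XTmap g a) c) := by
  rw [PZ, toCl_pull]
  exact isPicZeroCl_pullCl g a h

variable {J : Over S} {φ : ∀ T : Over S, PicF.Cl (PicF.XT g T) → (T ⟶ J)}

section local_

variable {g}
variable (hP : AbDual.IsRelPicZeroK Scheme.fppfPrecoverage g J φ)

include hP

theorem phi_pull {T T' : Over S} (a : T' ⟶ T) {c : Pic (PicF.XT g T)} (h : PZ g T c) :
    φ T' (toCl (pull (PicF.XTmap g a) c)) = a ≫ φ T (toCl c) := by
  rw [toCl_pull]
  exact hP.natural T T' a _ h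

/-- Local surjectivity, over `S'`. -/
theorem exists_cover_surj (T : Over S') (b : dn σ T ⟶ J) :
    ∃ (ι : Type u) (V : ι → Over S') (j : ∀ i, V i ⟶ T),
      Presieve.ofArrows (fun i => (V i).left) (fun i => (j i).left) ∈ Scheme.fppfPrecoverage T.left ∧
      ∀ i, ∃ c : Pic (PicF.XT g (dn σ (V i))), PZ g _ c ∧ φ _ (toCl c) = dnm σ (j i) ≫ b := by
  obtain ⟨R, hR, hloc⟩ := hP.locallySurjective (dn σ T) b
  obtain ⟨ι, U, v, hRv, hv⟩ := exists_small hR
  refine ⟨ι, fun i => Over.mk (v i ≫ T.hom), fun i => Over.homMk (v i) rfl, hv, fun i => ?_⟩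
  obtain ⟨c, hc, hcφ⟩ := hloc (v i) (hRv i)
  obtain ⟨c', rfl⟩ := exists_toCl_of_isPicZeroCl g hc
  let e : dn σ (Over.mk (v i ≫ T.hom)) ⟶ AbDual.ovr (dn σ T) (v i) := Over.homMk (𝟙 _) (by simp)
  refine ⟨pull (PicF.XTmap g e) c', PZ.pull e hc, ?_⟩
  rw [phi_pull hP e hc, hcφ, ← Category.assoc]
  congr 1

/-- Local injectivity, over `S'`. -/
theorem exists_cover_inj (T : Over S') {c c' : Pic (PicF.XT g (dn σ T))} (hc : PZ g _ c) (hc' : PZ g _ c')
    (h : φ _ (toCl c) = φ _ (toCl c')) :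
    ∃ (ι : Type u) (V : ι → Over S') (j : ∀ i, V i ⟶ T),
      Presieve.ofArrows (fun i => (V i).left) (fun i => (j i).left) ∈ Scheme.fppfPrecoverage T.left ∧
      ∀ i, pull (PicF.XTmap g (dnm σ (j i))) c = pull (PicF.XTmap g (dnm σ (j i))) c' := by
  obtain ⟨R, hR, hloc⟩ := hP.locallyInjective (dn σ T) _ _ hc hc' h
  obtain ⟨ι, U, v, hRv, hv⟩ := exists_small hR
  refine ⟨ι, fun i => Over.mk (v i ≫ T.hom), fun i => Over.homMk (v i) rfl, hv, fun i => ?_⟩
  have h1 := hloc (v i) (hRv i)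
  rw [← toCl_pull, ← toCl_pull] at h1
  have h2 := toCl_injective h1
  let e : dn σ (Over.mk (v i ≫ T.hom)) ⟶ AbDual.ovr (dn σ T) (v i) := Over.homMk (𝟙 _) (by simp)
  have h3 : dnm σ (Over.homMk (v i) rfl : Over.mk (v i ≫ T.hom) ⟶ T) = e ≫ AbDual.ovrHom (dn σ T) (v i) := by
    ext
    exact (Category.id_comp _).symm
  rw [h3, XTmap_comp, pull_comp, pull_comp, h2]

end local_

variable {g f} (x : S' ⟶ D) (hx : x ≫ f = 𝟙 S')

variable (φ) in
/-- `r` is the rigidified class on `D × T` attached to `b : T ⟶ J`. -/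
def IsPsi (T : Over S') (b : dn σ T ⟶ J) (r : Pic (PicF.XT f T)) : Prop :=
  r ∈ Rg f x hx T ∧ ∀ (U : Over S') (v : U ⟶ T) (c : Pic (PicF.XT g (dn σ U))), PZ g _ c →
    φ _ (toCl c) = dnm σ v ≫ b → pull (PicF.XTmap f v) r = norm f x hx U (pull (mm σ g f q hq U) c)

variable {σ q hq x hx}

theorem IsPsi.pull {T T' : Over S'} (a : T' ⟶ T) {b : dn σ T ⟶ J} {r : Pic (PicF.XT f T)}
    (h : IsPsi σ q hq φ x hx T b r) : IsPsi σ q hq φ x hx T' (dnm σ a ≫ b) (pull (PicF.XTmap f a) r) := by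
  refine ⟨pull_mem a h.1, fun U v c hc hφ => ?_⟩
  rw [← pull_comp, ← XTmap_comp]
  apply h.2 U (v ≫ a) c hc
  rw [hφ, dnm_comp, Category.assoc]

variable (hI : Inj f x) (hP : AbDual.IsRelPicZeroK Scheme.fppfPrecoverage g J φ)

include hI hP

/-- Classes with the same image have the same normalised restriction. -/
theorem norm_eq {T : Over S'} {c c' : Pic (PicF.XT g (dn σ T))} (hc : PZ g _ c) (hc' : PZ g _ c')
    (h : φ _ (toCl c) = φ _ (toCl c')) :
    norm f x hx T (PicGrp.pull (mm σ g f q hq T) c) = norm f x hx T (PicGrp.pull (mm σ g f q hq T) c') := by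
  obtain ⟨ι, V, j, hj, hV⟩ := exists_cover_inj σ hP T hc hc' h
  refine RigFpqc.eq_of_cover hx hI (Scheme.fppfPrecoverage_le_fpqcPrecoverage _ hj) (norm_mem _ _ _ _ _)
    (norm_mem _ _ _ _ _) fun i => ?_
  rw [pull_norm, pull_norm, ← pull_comp, ← pull_comp, XTmap_mm, pull_comp, pull_comp, hV]

variable (q hq hx) in
/-- Existence. -/
theorem exists_isPsi (T : Over S') (b : dn σ T ⟶ J) : ∃ r, IsPsi σ q hq φ x hx T b r := by
  obtain ⟨ι, V, j, hj, hV⟩ := exists_cover_surj σ hP T b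
  choose c hc hφ using hV
  have hj' := Scheme.fppfPrecoverage_le_fpqcPrecoverage _ hj
  obtain ⟨r, hr, hrj⟩ := RigFpqc.exists_glue hx hI hj'
    (fun i => norm f x hx _ (PicGrp.pull (mm σ g f q hq (V i)) (c i))) (fun i => norm_mem _ _ _ _ _) (by
      intro i k W a b' hab
      rw [pull_norm, pull_norm, ← pull_comp, ← pull_comp, XTmap_mm, XTmap_mm, pull_comp, pull_comp]
      apply norm_eq hI hP ((hc i).pull _) ((hc k).pull _)
      rw [phi_pull hP _ (hc i), phi_pull hP _ (hc k), hφ, hφ, ← Category.assoc, ← Category.assoc, ← dnm_comp,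
        ← dnm_comp, hab])
  refine ⟨r, hr, fun U v d hd hdφ => ?_⟩
  -- the covering of `U`
  let W : ι → Over S' := fun i => Over.mk (pullback.fst v.left (j i).left ≫ U.hom)
  let w : ∀ i, W i ⟶ U := fun i => Over.homMk (pullback.fst v.left (j i).left) rfl
  let w' : ∀ i, W i ⟶ V i := fun i => Over.homMk (pullback.snd v.left (j i).left) (by
    change pullback.snd v.left (j i).left ≫ (V i).hom = pullback.fst v.left (j i).left ≫ U.hom
    rw [← Over.w (j i), ← Over.w v, pullback.condition_assoc])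
  have hww : ∀ i, w i ≫ v = w' i ≫ j i := fun i => by
    ext
    exact pullback.condition
  have hw : Presieve.ofArrows (fun i => (W i).left) (fun i => (w i).left) ∈ Scheme.fpqcPrecoverage U.left :=
    Precoverage.mem_coverings_of_isPullback _ hj' v.left _ (fun i => pullback.snd v.left (j i).left)
      (fun i => (IsPullback.of_hasPullback v.left (j i).left))
  refine RigFpqc.eq_of_cover hx hI hw (pull_mem v hr) (norm_mem _ _ _ _ _) fun i => ?_
  rw [← pull_comp, ← XTmap_comp, hww, XTmap_comp, pull_comp, hrj, pull_norm, pull_norm, ← pull_comp, ← pull_comp,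
    XTmap_mm, XTmap_mm, pull_comp, pull_comp]
  apply norm_eq hI hP ((hc i).pull _) (hd.pull _)
  rw [phi_pull hP _ (hc i), phi_pull hP _ hd, hφ, hdφ, ← Category.assoc, ← Category.assoc, ← dnm_comp, ← dnm_comp, hww]

/-- Uniqueness. -/
theorem IsPsi.unique {T : Over S'} {b : dn σ T ⟶ J} {r r' : Pic (PicF.XT f T)} (h : IsPsi σ q hq φ x hx T b r)
    (h' : IsPsi σ q hq φ x hx T b r') : r = r' := by
  obtain ⟨ι, V, j, hj, hV⟩ := exists_cover_surj σ hP T b
  choose c hc hφ using hV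
  refine RigFpqc.eq_of_cover hx hI (Scheme.fppfPrecoverage_le_fpqcPrecoverage _ hj) h.1 h'.1 fun i => ?_
  rw [h.2 _ _ _ (hc i) (hφ i), h'.2 _ _ _ (hc i) (hφ i)]

end K488.Psi
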