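import Groth.Agent.Neron.K488.AlgZero
import Groth.Agent.Neron.K488.FppfLoc
import Groth.Agent.Neron.K488.Psi

/-!
# The kernel of the pull back to the normalisation

`J`, `Jn` represent the fppf-sheafified `Pic⁰` of `C` and `Cn`, `ν : Cn ⟶ C` finite with conductor square `D`, `νt : J ⟶ Jn` the
pull back, `j : N ⟶ J` its kernel.
-/

set_option autoImplicit false

universe v u

open CategoryTheory CategoryTheory.Limits AlgebraicGeometry TopologicalSpace Opposite MonObj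
open CartesianMonoidalCategory
open SemiCartesianMonoidalCategory (toUnit)
open Groth.Agent Groth.Agent.Grpsch.PicGrp Groth.Agent.Picfga.OverRep Groth.Agent.Pic13.H508.SqMT
open Groth.Agent.Fga.RigGrp (toCl toCl_injective toCl_pull)
open K530.PicZero (exists_toCl_of_isPicZeroCl isPicZeroCl_pullCl isPicZeroCl_toCl_iff FibZero)

namespace K488.NormKer

open Psi (PZ phi_pull)

/-! ### Points of a scheme representing `Pic⁰` -/

section pt

variable {X S : Scheme.{u}} {f : X ⟶ S} {P : Over S} {φ : ∀ T : Over S, PicF.Cl (PicF.XT f T) → (T ⟶ P)}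
  (hP : AbDual.IsRelPicZeroK Scheme.fppfPrecoverage f P φ)

include hP

theorem exists_surj_pt (T : Over S) (b : T ⟶ P) (t : T.left) :
    ∃ (Z : Over S) (z : Z ⟶ T), Flat z.left ∧ LocallyOfFinitePresentation z.left ∧ t ∈ Set.range z.left ∧
      ∃ c : Pic (PicF.XT f Z), PZ f Z c ∧ φ Z (toCl c) = z ≫ b := by
  obtain ⟨R, hR, hloc⟩ := hP.locallySurjective T b
  obtain ⟨I, U, v, rfl⟩ := R.exists_eq_ofArrows
  obtain ⟨hR1, hR2⟩ := (Scheme.ofArrows_mem_precoverage_iff _).1 hR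
  obtain ⟨i, hi⟩ := hR1 t
  obtain ⟨c, hc, hφ⟩ := hloc (v i) ⟨i⟩
  obtain ⟨c', rfl⟩ := exists_toCl_of_isPicZeroCl f hc
  exact ⟨AbDual.ovr T (v i), AbDual.ovrHom T (v i), (hR2 i).1, (hR2 i).2, hi, c', hc, hφ⟩

theorem exists_inj_pt (T : Over S) {c c' : Pic (PicF.XT f T)} (hc : PZ f T c) (hc' : PZ f T c')
    (h : φ T (toCl c) = φ T (toCl c')) (t : T.left) :
    ∃ (Z : Over S) (z : Z ⟶ T), Flat z.left ∧ LocallyOfFinitePresentation z.left ∧ t ∈ Set.range z.left ∧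
      pull (PicF.XTmap f z) c = pull (PicF.XTmap f z) c' := by
  obtain ⟨R, hR, hloc⟩ := hP.locallyInjective T _ _ hc hc' h
  obtain ⟨I, U, v, rfl⟩ := R.exists_eq_ofArrows
  obtain ⟨hR1, hR2⟩ := (Scheme.ofArrows_mem_precoverage_iff _).1 hR
  obtain ⟨i, hi⟩ := hR1 t
  have h1 := hloc (v i) ⟨i⟩
  rw [← toCl_pull, ← toCl_pull] at h1
  exact ⟨AbDual.ovr T (v i), AbDual.ovrHom T (v i), (hR2 i).1, (hR2 i).2, hi, toCl_injective h1⟩

end pt

section mul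

variable {S : Scheme.{u}} {A At : Over S} [GrpObj At]
  {φ : ∀ T : Over S, PicF.Cl (PicF.XT A.hom T) → (T ⟶ At)}
  (hD : AbDual.IsDualAV Scheme.fppfPrecoverage A At φ)

theorem PZ.one {X S : Scheme.{u}} (f : X ⟶ S) (T : Over S) : PZ f T 1 :=
  (isPicZeroCl_toCl_iff f T 1).2 (FibZero.one _)

include hD

theorem phi_one (T : Over S) : φ T (toCl (1 : Pic (PicF.XT A.hom T))) = 1 := by
  have h : φ T (toCl ((1 : Pic (PicF.XT A.hom T)) * 1)) =
      φ T (toCl (1 : Pic (PicF.XT A.hom T))) * φ T (toCl (1 : Pic (PicF.XT A.hom T))) := by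
    obtain ⟨L, hL, h⟩ := exists_mk (1 : Pic (PicF.XT A.hom T))
    have h1 := PZ.one A.hom T
    rw [h] at h1 ⊢
    exact hD.mul T L L h1 h1
  rw [_root_.mul_one] at h
  exact mul_eq_left.1 h.symm

end mul

section main

variable {κ : Type u} [Field κ]


variable {C Cn : Scheme.{u}} {g : C ⟶ (Spec (CommRingCat.of κ))} {ν : Cn ⟶ C} {Y Y' : Scheme.{u}} {f₂ : Y ⟶ (Spec (CommRingCat.of κ))} {f₃ : Y' ⟶ (Spec (CommRingCat.of κ))}
  {i : Y ⟶ C} {i' : Y' ⟶ Cn} {π' : Y' ⟶ Y} (D : Sq.Data g (ν ≫ g) f₂ f₃ ν i i' π')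
  {J Jn : Over (Spec (CommRingCat.of κ))} [GrpObj J] [GrpObj Jn]
  {φ : ∀ T : Over (Spec (CommRingCat.of κ)), PicF.Cl (PicF.XT g T) → (T ⟶ J)} {φn : ∀ T : Over (Spec (CommRingCat.of κ)), PicF.Cl (PicF.XT (ν ≫ g) T) → (T ⟶ Jn)}
  (hJ : AbDual.IsDualAV Scheme.fppfPrecoverage (Over.mk g) J φ)
  (hJn : AbDual.IsDualAV Scheme.fppfPrecoverage (Over.mk (ν ≫ g)) Jn φn)
  {νt : J ⟶ Jn}
  (hνt : AbDual.IsTranspose (Over.homMk ν rfl : Over.mk (ν ≫ g) ⟶ Over.mk g) φn φ νt)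

include D in
/-- `Pic⁰` may be tested on the normalisation. -/
theorem pz_of_pull {T : Over (Spec (CommRingCat.of κ))} {c : Pic (PicF.XT g T)} (h : PZ (ν ≫ g) T (pull (mT ν D.hb T) c)) : PZ g T c :=
  (isPicZeroCl_toCl_iff g T c).2 (AlgZero.fibZero_of_pull D T c ((isPicZeroCl_toCl_iff (ν ≫ g) T _).1 h))

include hνt in
theorem transpose {T : Over (Spec (CommRingCat.of κ))} {c : Pic (PicF.XT g T)} (hc : PZ g T c) :
    φn T (toCl (pull (mT ν rfl T) c)) = φ T (toCl c) ≫ νt := by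
  rw [← hνt T (toCl c) hc, toCl_pull]
  rfl

include hJ in
theorem relPic : AbDual.IsRelPicZeroK Scheme.fppfPrecoverage g J φ := hJ.relPic

include hJn in
theorem relPicn : AbDual.IsRelPicZeroK Scheme.fppfPrecoverage (ν ≫ g) Jn φn := hJn.relPic

include D hJn hνt in
/-- Lifting of points of `Jn` to `J`, fppf locally. -/
theorem exists_lift_J (T : Over (Spec (CommRingCat.of κ))) (y : T ⟶ Jn) (t : T.left) :
    ∃ (Z : Over (Spec (CommRingCat.of κ))) (z : Z ⟶ T), Flat z.left ∧ LocallyOfFinitePresentation z.left ∧ t ∈ Set.range z.left ∧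
      ∃ x : Z ⟶ J, x ≫ νt = z ≫ y := by
  obtain ⟨Z, z, hz1, hz2, ⟨t', ht'⟩, c', hc', hφ⟩ := exists_surj_pt (relPicn hJn) T y t
  obtain ⟨U, htU, hU⟩ := D.exists_lift Z c' t'
  obtain ⟨c, hc⟩ := hU U le_rfl
  have hc0 : PZ (ν ≫ g) _ (pull (mT ν D.hb _) c) := by
    rw [hc]
    exact hc'.pull _
  have hcz : PZ g _ c := pz_of_pull D hc0
  refine ⟨Over.mk (U.ι ≫ Z.hom), res Z U ≫ z, ?_, ?_, ⟨⟨t', htU⟩, ?_⟩, φ _ (toCl c), ?_⟩
  · change Flat (U.ι ≫ z.left)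
    infer_instance
  · change LocallyOfFinitePresentation (U.ι ≫ z.left)
    infer_instance
  · exact ht'
  · rw [← transpose hνt hcz, hc, phi_pull (relPicn hJn) _ hc', hφ, Category.assoc]

variable (R : Sq.Univ D) {N : Over (Spec (CommRingCat.of κ))} [GrpObj N] {j : N ⟶ J} (hN : AlgGrp.IsKernel j νt)

theorem pz_δ : PZ g R.W R.δ := pz_of_pull D (by
  rw [R.pull_δ]
  exact PZ.one _ _)

include hJn hνt hN in
/-- The morphism `W ⟶ N`. -/
theorem exists_rho : ∃ ρ : R.W ⟶ N, ρ ≫ j = φ _ (toCl R.δ) := by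
  have h1 : φ _ (toCl R.δ) ≫ νt = toUnit _ ≫ η[Jn] := by
    have h2 := transpose hνt (pz_δ D R)
    have h3 : pull (mT ν rfl R.W) R.δ = 1 := R.pull_δ
    rw [h3] at h2
    rw [← h2]
    exact (phi_one hJn R.W).trans rfl
  exact ⟨hN.lift _ _ h1, hN.lift_fst _ _ _⟩

include hN in
theorem mono_j {T : Over (Spec (CommRingCat.of κ))} {a b : T ⟶ N} (h : a ≫ j = b ≫ j) : a = b :=
  hN.hom_ext h (toUnit_unique _ _)

include hJ hJn hνt hN in
/-- Points of `N` lift to `W`, fppf locally. -/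
theorem exists_lift_W {ρ : R.W ⟶ N} (hρ : ρ ≫ j = φ _ (toCl R.δ)) (T : Over (Spec (CommRingCat.of κ))) (y : T ⟶ N) (t : T.left) :
    ∃ (Z : Over (Spec (CommRingCat.of κ))) (z : Z ⟶ T), Flat z.left ∧ LocallyOfFinitePresentation z.left ∧ t ∈ Set.range z.left ∧
      ∃ x : Z ⟶ R.W, x ≫ ρ = z ≫ y := by
  obtain ⟨Z, z, hz1, hz2, ⟨t₁, ht₁⟩, c, hc, hφ⟩ := exists_surj_pt (relPic hJ) T (y ≫ j) t
  have hc' : PZ (ν ≫ g) Z (pull (mT ν rfl Z) c) := by
    have h0 : FibZero (PicF.XTproj g Z) c := (isPicZeroCl_toCl_iff g Z c).1 hc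
    refine (isPicZeroCl_toCl_iff (ν ≫ g) Z _).2 (h0.pull _ (𝟙 _) ?_)
    rw [Category.comp_id]
    exact mT_snd ν rfl Z
  have h1 : φn Z (toCl (pull (mT ν rfl Z) c)) = φn Z (toCl 1) := by
    rw [transpose hνt hc, hφ]
    have h2 : j ≫ νt = toUnit _ ≫ η[Jn] := hN.w
    have h3 : φn Z (toCl 1) = 1 := phi_one hJn Z
    rw [h3, Category.assoc, Category.assoc, h2]
    have h5 : (z ≫ y) ≫ toUnit N = toUnit Z := toUnit_unique _ _
    exact (Category.assoc (z ≫ y) (toUnit N) η[Jn]).symm.trans (congrArg (· ≫ η[Jn]) h5)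
  obtain ⟨Z₁, z₁, hz11, hz12, ⟨t₂, ht₂⟩, hpull⟩ := exists_inj_pt (relPicn hJn) Z hc' (PZ.one _ _) h1 t₁
  have h4 : pull (mT ν D.hb Z₁) (pull (PicF.XTmap g z₁) c) = 1 := by
    rw [← pull_comp, mT_XTmap, pull_comp, hpull, map_one]
  obtain ⟨U, htU, -, x, hx⟩ := R.exists_local Z₁ _ h4 t₂
  refine ⟨Over.mk (U.ι ≫ Z₁.hom), res Z₁ U ≫ z₁ ≫ z, ?_, ?_, ⟨⟨t₂, htU⟩, ?_⟩, x, ?_⟩
  · change Flat (U.ι ≫ z₁.left ≫ z.left)
    infer_instance
  · change LocallyOfFinitePresentation (U.ι ≫ z₁.left ≫ z.left)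
    infer_instance
  · change z.left (z₁.left t₂) = t
    rw [ht₂, ht₁]
  · apply mono_j hN
    rw [Category.assoc, hρ, ← phi_pull (relPic hJ) x (pz_δ D R), hx, phi_pull (relPic hJ) _ (hc.pull _),
      phi_pull (relPic hJ) _ hc, hφ]
    simp only [Category.assoc]

end main

end K488.NormKer
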