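import Groth.Agent.Pic13.H557.GlAbs
import Groth.Agent.Pic13.H17.PatchBridge
import Groth.Agent.Pic13.H508.SqMT
import Groth.Agent.Pic13.H945.PatchBC
import Groth.Agent.VarietyA.FinTriv
import Groth.Agent.AbVar.K530.RigInj

/-!
# Patching squares with a finite morphism: gluing of classes without finiteness hypotheses on the base
-/

set_option autoImplicit false
set_option backward.isDefEq.respectTransparency false

universe v u

open CategoryTheory CategoryTheory.Limits AlgebraicGeometry TopologicalSpace Opposite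
open Groth.Agent Groth.Agent.Fdesc Groth.Agent.Fdesc.LocGen Groth.Agent.Picfga.LineHom
  Groth.Agent.Picfga.LineDescent Groth.Agent.Picfga.LineFam Groth.Agent.Grpsch.PicGrp
  Groth.Agent.Pic13.H126.Patch Groth.Agent.Pic13.H126.PatchMain Groth.Agent.Pic13.H126.PatchGens
  Groth.Agent.Pic13.H17.Patch Groth.Agent.Pic13.H557.GlAbs Groth.Agent.Picfga.OverRep

namespace K488.FinGlue

section glue

variable {X X' Y Y' : Scheme.{u}} {b : X' ⟶ X} {i : Y ⟶ X} {i' : Y' ⟶ X'} {π' : Y' ⟶ Y}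

/-- Generators lift along closed immersions over a finite morphism. -/
theorem liftsAt [IsFinite b] [IsClosedImmersion i] (H : IsPullback i' π' b i)
    {L' : X'.Modules} {M : Y.Modules} {N : Y'.Modules} (hL' : PicF.IsInvertible L') (hM : PicF.IsInvertible M)
    (μ' : Fam i' L' N) (μ : Fam π' M N) (y : Y) : LiftsAt (π := b) (i := i) μ' μ y := by
  have ci' : IsClosedImmersion i' := MorphismProperty.of_isPullback H.flip inferInstance
  obtain ⟨W, e, hyW, -, he⟩ := VarietyA.FinTriv.exists_isGen_preimage b L' hL' (i y) ⊤ trivial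
  obtain ⟨W', m, hyW', -, hm⟩ := VarietyA.FinTriv.exists_isGen_preimage (𝟙 Y) M hM y ⊤ trivial
  obtain ⟨O, hO⟩ : ∃ O : X.Opens, i ⁻¹ᵁ O ≤ W' ∧ i y ∈ O := by
    obtain ⟨O, hOo, hO⟩ := (i.isClosedEmbedding.isInducing.isOpen_iff).1 W'.isOpen
    refine ⟨⟨O, hOo⟩, fun z hz => ?_, ?_⟩
    · have : z ∈ i ⁻¹' O := hz
      rw [hO] at this
      exact this
    · have : y ∈ i ⁻¹' O := by rw [hO]; exact hyW'
      exact this
  obtain ⟨U, hU, hyU, hUW⟩ := exists_isAffineOpen_mem_and_subset (x := i y) (U := W ⊓ O) ⟨hyW, hO.2⟩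
  have hU1 : U ≤ W := fun z hz => (hUW hz).1
  have hU2 : i ⁻¹ᵁ U ≤ W' := fun z hz => hO.1 (hUW hz).2
  have hle : i' ⁻¹ᵁ (b ⁻¹ᵁ U) ≤ π' ⁻¹ᵁ (i ⁻¹ᵁ U) := (PatchSq.preimage_eq H.w _).le
  have he1 := he.res (b.preimage_mono hU1)
  have hm1 := hm.res (V := i ⁻¹ᵁ U) hU2
  obtain ⟨a, ha⟩ := (μ'.gen he1).exists_eq (μ.on hle (LocGen.res M hU2 m))
  obtain ⟨c, hc⟩ := i'.app_surjective (b ⁻¹ᵁ U) (hU.preimage b) a
  refine ⟨U, c • LocGen.res L' (b.preimage_mono hU1) e, LocGen.res M hU2 m, hyU, hm1, fun h => ?_⟩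
  rw [μ'.smul, hc, ha]

/-- Gluing of classes: existence, for `b` finite. -/
theorem exists_glue [IsFinite b] [IsClosedImmersion i] (H : IsPullback i' π' b i)
    (h : IsPatch b i.ker) {c' : Pic X'} {d : Pic Y} (hcd : pull i' c' = pull π' d) :
    ∃ c : Pic X, pull b c = c' ∧ pull i c = d := by
  obtain ⟨L', hL', rfl⟩ := exists_mk c'
  obtain ⟨M, hM, rfl⟩ := exists_mk d
  let N := (Scheme.Modules.pullback i').obj L'
  have hN : PicF.IsInvertible N := isInvertible_pullback i' hL'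
  obtain ⟨μ⟩ := exists_fam_of_pull_eq (L' := N) hM hN (by rw [← hcd]; rfl)
  obtain ⟨L, θ', θ, hL, hc⟩ := Pic13.H17.PatchBridge.exists_patch h rfl H hL' hM (Fam.ofIso (Iso.refl _)) μ
    (fun y => liftsAt H hL' hM _ _ y)
  exact ⟨mk L hL, pull_eq_mk hL hL' θ', pull_eq_mk hL hM θ⟩

/-- Gluing of the trivial classes along a unit: existence, for `b` finite. -/
theorem exists_class [IsFinite b] [IsClosedImmersion i] (H : IsPullback i' π' b i)
    (h : IsPatch b i.ker) (v : Γ(Y', ⊤)ˣ) : ∃ c : Pic X, GlRel H.w v c := by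
  obtain ⟨L, θ', θ, hL, hc⟩ := Pic13.H17.PatchBridge.exists_patch h rfl H isInvertible_structureModule
    isInvertible_structureModule (Fam.can i') (sm v (Fam.can π'))
    (fun y => liftsAt H isInvertible_structureModule isInvertible_structureModule _ _ y)
  exact ⟨_, L, hL, θ', θ, rfl, (compat_iff_sim _ _ _ _ _).1 hc⟩

end glue

/-- The pull back of a class along a morphism with image in an open with a generator. -/
theorem pull_mk_eq_one {Z X : Scheme.{u}} (G : Z ⟶ X) {L : X.Modules} (hL : PicF.IsInvertible L) {V : X.Opens}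
    {e : Γ(L, V)} (he : IsGen e) (hV : ∀ z, G z ∈ V) : pull G (mk L hL) = 1 := by
  obtain ⟨w⟩ := K530.RigInj.trivial_of_isGen he
  have h1 : pull V.ι (mk L hL) = 1 := by
    rw [pull_mk, mk_eq_one_iff]
    exact ⟨(Scheme.Modules.restrictFunctorIsoPullback V.ι).symm.app L ≪≫ w⟩
  have h2 : G = IsOpenImmersion.lift V.ι G (by rintro _ ⟨z, rfl⟩; simpa using hV z) ≫ V.ι :=
    (IsOpenImmersion.lift_fac _ _ _).symm
  rw [h2, pull_comp, h1, map_one]

/-- Classes on a finite `T`-scheme are trivial locally on `T`. -/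
theorem exists_pull_eq_one {Y S : Scheme.{u}} (f : Y ⟶ S) [IsFinite f] (T : Over S) (d : Pic (PicF.XT f T)) (t : T.left) :
    ∃ U : T.left.Opens, t ∈ U ∧ pull (PicF.XTmap f (res T U)) d = 1 := by
  obtain ⟨L, hL, rfl⟩ := exists_mk d
  obtain ⟨U, e, htU, -, he⟩ := VarietyA.FinTriv.exists_isGen_preimage (pullback.snd f T.hom) L hL t ⊤ trivial
  refine ⟨U, htU, pull_mk_eq_one _ hL he fun z => ?_⟩
  change pullback.snd f T.hom (PicF.XTmap f (res T U) z) ∈ U
  rw [← Scheme.Hom.comp_apply, Pic13.H508.SqMT.XTmap_snd, Scheme.Hom.comp_apply]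
  exact (pullback.snd f (Over.mk (U.ι ≫ T.hom)).hom z).2

end K488.FinGlue
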