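import Groth.Agent.Neron.K488.Sq
import Groth.Agent.Pic13.H557.PatchFin
import Groth.Agent.S9683
import Groth.Agent.EGA4.K114.DimOne
import Groth.Agent.Etcore.CurveTop
import Groth.Agent.CurvesB.DimPts
import Groth.Agent.S10831
import Groth.Agent.S1549
import Groth.Prelude.Def_Pi1
import Groth.Prelude.Def_Models

/-!
# The conductor square of the normalisation of a curve
-/

set_option autoImplicit false

universe v u

open CategoryTheory CategoryTheory.Limits AlgebraicGeometry TopologicalSpace Opposite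
open Groth.Agent Groth.Agent.Pic13.H557.PatchFin

namespace K488.NormSq

variable {κ : Type u} [Field κ] {C Cn : Scheme.{u}} (g : C ⟶ Spec (CommRingCat.of κ)) (ν : Cn ⟶ C)

theorem dim_le (hdimC : ∀ W ∈ irreducibleComponents (C : Type u), topologicalKrullDim W = 1) :
    topologicalKrullDim C ≤ 1 := by
  rw [S10831.result]
  exact iSup₂_le fun W hW => (hdimC W hW).le

theorem surjective_of_dense [IsFinite ν] (U : C.Opens) (hU : Dense (U : Set C)) [IsIso (ν ∣_ U)] : Surjective ν := by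
  have h1 : (U : Set C) ⊆ Set.range ν := by
    intro x hx
    obtain ⟨y, hy⟩ := (ν ∣_ U).surjective ⟨x, hx⟩
    refine ⟨(ν ⁻¹ᵁ U).ι y, ?_⟩
    rw [← Scheme.Hom.comp_apply, ← morphismRestrict_ι, Scheme.Hom.comp_apply, hy]
    rfl
  have h2 : IsClosed (Set.range ν) := ν.isClosedMap.isClosed_range
  refine ⟨fun x => ?_⟩
  have h3 : closure (U : Set C) ⊆ Set.range ν := h2.closure_subset_iff.2 h1
  exact h3 (by rw [hU.closure_eq]; trivial)

theorem injective_app [Surjective ν] [IsReduced C] (U : C.Opens) : Function.Injective (ν.app U) := by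
  rw [injective_iff_map_eq_zero]
  intro a ha
  have h1 : ν ⁻¹ᵁ (C.basicOpen a) = ⊥ := by
    rw [Scheme.preimage_basicOpen, ha, Scheme.basicOpen_zero]
  rw [← basicOpen_eq_bot_iff]
  ext x
  constructor
  · intro hx
    obtain ⟨y, rfl⟩ := ν.surjective x
    have : y ∈ ν ⁻¹ᵁ (C.basicOpen a) := hx
    rw [h1] at this
    exact this
  · intro h
    exact absurd h (by simp)

/-- A closed subscheme of a proper curve contained in the complement of a dense open is finite over the field. -/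
theorem isFinite_of_range [IsProper g] (hdim : topologicalKrullDim C ≤ 1) (U : C.Opens) (hU : Dense (U : Set C))
    {Y : Scheme.{u}} (i : Y ⟶ C) [IsClosedImmersion i] (hY : ∀ y, i y ∉ U) : IsFinite (i ≫ g) := by
  have h1 : IsLocallyNoetherian C := LocallyOfFiniteType.isLocallyNoetherian g
  have h2 : CompactSpace C := QuasiCompact.compactSpace_of_compactSpace g
  have h3 : IsNoetherian C := {}
  have hfin := (Etcore.CurveTop.compl_finite C hdim U (fun W hW => by
    obtain ⟨o, ho, hne, hle⟩ := NoetherianSpace.exists_isOpen_nonempty_subset_irreducibleComponent W hW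
    obtain ⟨x, hx, hxU⟩ := hU.inter_open_nonempty o ho hne
    exact ⟨x, hxU, hle hx⟩)).1
  have hY' : (Set.univ : Set Y).Finite := by
    refine Set.Finite.of_finite_image (f := i) (hfin.subset ?_) i.isClosedEmbedding.injective.injOn
    rintro _ ⟨y, -, rfl⟩
    exact hY y
  have h4 : LocallyQuasiFinite (i ≫ g) := LocallyQuasiFinite.of_finite_preimage_singleton _ fun x =>
    hY'.subset (Set.subset_univ _)
  exact IsFinite.of_locallyQuasiFinite (i ≫ g)

/-- **The conductor square of the normalisation.** -/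
theorem exists_data [IsProper g] [IsReduced C] (hdim : topologicalKrullDim C ≤ 1)
    [IsFinite ν] (U : C.Opens) (hU : Dense (U : Set C)) (hiso : IsIso (ν ∣_ U)) :
    ∃ (Y Y' : Scheme.{u}) (i : Y ⟶ C) (i' : Y' ⟶ Cn) (π' : Y' ⟶ Y),
      Sq.Data g (ν ≫ g) (i ≫ g) (π' ≫ i ≫ g) ν i i' π' := by
  have hs : Surjective ν := surjective_of_dense ν U hU
  let i := (conductor ν).subschemeι
  have hk : i.ker = conductor ν := Scheme.IdealSheafData.ker_subschemeι _
  have hY : ∀ y, i y ∉ U := by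
    intro y hy
    have h1 := le_support_conductor_compl ν U hiso hy
    have h2 : i y ∈ Set.range i := ⟨y, rfl⟩
    rw [Scheme.IdealSheafData.range_subschemeι] at h2
    exact h1 h2
  have hf₂ : IsFinite (i ≫ g) := isFinite_of_range g hdim U hU i hY
  refine ⟨_, pullback ν i, i, pullback.fst ν i, pullback.snd ν i, ?_⟩
  exact {
    hb := rfl
    hi := rfl
    hi' := by
      rw [← Category.assoc, pullback.condition, Category.assoc]
    hπ := rfl
    H := IsPullback.of_hasPullback ν i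
    cl := inferInstance
    fin := inferInstance
    fin₂ := hf₂
    fin₃ := inferInstance
    patch := by
      rw [hk]
      exact isPatch_conductor ν fun V => injective_app ν V.1 }

/-- The normalisation of a curve is regular. -/
theorem isRegular [IsProper g] (hdim : topologicalKrullDim C ≤ 1) [IsFinite ν] (hn : Pi1.IsNormalScheme Cn) :
    Models.IsRegularScheme Cn := by
  intro x
  obtain ⟨h1, h2⟩ := hn x
  have h3 : IsLocallyNoetherian Cn := LocallyOfFiniteType.isLocallyNoetherian (ν ≫ g)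
  refine K114.DimOne.isRegular_of_normal _ ?_
  exact (CurvesB.DimPts.ringKrullDim_stalk_le x).trans ((S9683.result ν).1.trans hdim)

/-- The normalisation of a geometrically reduced curve is geometrically reduced. -/
theorem geometricallyReduced [IsProper g] [GeometricallyReduced g] [IsFinite ν] (hn : Pi1.IsNormalScheme Cn)
    (U : C.Opens) (hU : Dense (U : Set C)) (hU' : Dense ((ν ⁻¹ᵁ U : Cn.Opens) : Set Cn)) (hiso : IsIso (ν ∣_ U)) :
    GeometricallyReduced (ν ≫ g) := by
  have hr : IsReduced C := GeometricallyReduced.isReduced_of_flat_of_isLocallyNoetherian g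
  have hrn : IsReduced Cn := by
    have : ∀ x : Cn, _root_.IsReduced (Cn.presheaf.stalk x) := fun x => by
      obtain ⟨h1, -⟩ := hn x
      infer_instance
    exact isReduced_of_isReduced_stalk Cn
  obtain ⟨U₁, hU₁, hs⟩ : ∃ U₁ : C.Opens, Dense (U₁ : Set C) ∧ Smooth (U₁.ι ≫ g) := by
    let _ : C.Over (Spec (CommRingCat.of κ)) := ⟨g⟩
    have : LocallyOfFiniteType (C ↘ Spec (CommRingCat.of κ)) := inferInstanceAs (LocallyOfFiniteType g)
    exact (S1549.result κ C).1 ‹GeometricallyReduced g›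
  let U₂ : C.Opens := U ⊓ U₁
  have hle : U₂ ≤ U := inf_le_left
  have hiso₂ : IsIso (ν ∣_ U₂) := by
    have h := (MorphismProperty.isomorphisms Scheme.{u}).arrow_mk_iso_iff (morphismRestrictRestrict ν U (U.ι ⁻¹ᵁ U₂))
    have h1 : (MorphismProperty.isomorphisms Scheme.{u}) ((ν ∣_ U) ∣_ (U.ι ⁻¹ᵁ U₂)) :=
      IsZariskiLocalAtTarget.restrict (P := MorphismProperty.isomorphisms Scheme.{u}) hiso _
    have h2 := h.1 h1
    have h3 : U.ι ''ᵁ (U.ι ⁻¹ᵁ U₂) = U₂ := by
      rw [Scheme.Hom.image_preimage_eq_opensRange_inf, Scheme.Opens.opensRange_ι]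
      exact inf_eq_right.mpr hle
    rwa [h3] at h2
  have hsm : Smooth (U₂.ι ≫ g) := by
    have h1 : U₂.ι ≫ g = C.homOfLE (inf_le_right : U₂ ≤ U₁) ≫ U₁.ι ≫ g := by
      rw [Scheme.homOfLE_ι_assoc]
    rw [h1]
    infer_instance
  refine S1549.geometricallyReduced_of_dense κ (ν ≫ g) (ν ⁻¹ᵁ U₂) ?_ ?_
  · -- density
    rw [dense_iff_inter_open]
    intro O hO hne
    obtain ⟨x, hxO, hxU⟩ := hU'.inter_open_nonempty O hO hne
    -- the image of `O ∩ ν⁻¹U` in `U` is open
    let W : (ν ⁻¹ᵁ U : Scheme.{u}).Opens := (ν ⁻¹ᵁ U).ι ⁻¹ᵁ ⟨O, hO⟩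
    have h1 : IsOpen (U.ι '' ((ν ∣_ U) '' (W : Set _))) :=
      U.ι.isOpenEmbedding.isOpenMap _ ((ν ∣_ U).isOpenEmbedding.isOpenMap _ W.isOpen)
    obtain ⟨_, ⟨_, ⟨y, hy, rfl⟩, rfl⟩, hy₁⟩ := hU₁.inter_open_nonempty _ h1 ⟨_, ⟨_, ⟨⟨x, hxU⟩, hxO, rfl⟩, rfl⟩⟩
    refine ⟨(ν ⁻¹ᵁ U).ι y, hy, ?_⟩
    have h2 : ν ((ν ⁻¹ᵁ U).ι y) = U.ι ((ν ∣_ U) y) := by
      rw [← Scheme.Hom.comp_apply, ← morphismRestrict_ι, Scheme.Hom.comp_apply]
    change ν ((ν ⁻¹ᵁ U).ι y) ∈ U₂
    rw [h2]
    exact ⟨((ν ∣_ U) y).2, hy₁⟩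
  · have h1 : (ν ⁻¹ᵁ U₂).ι ≫ ν ≫ g = (ν ∣_ U₂) ≫ U₂.ι ≫ g := by
      rw [morphismRestrict_ι_assoc]
    rw [h1]
    infer_instance

end K488.NormSq
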