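import Groth.Agent.Neron.K488.Sq
import Groth.Agent.AbVar.K530.PicZero
import Groth.Agent.Sga3C.LocConn
import Mathlib.AlgebraicGeometry.AlgClosed.Basic

/-!
# Algebraic equivalence to zero may be tested on the partial normalisation

For a patching square over a field as in `K488.Sq.Data`, a class on `X_T` whose pull back to `X'_T` is algebraically
equivalent to zero on the geometric fibres is itself algebraically equivalent to zero on the geometric fibres.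
-/

set_option autoImplicit false
set_option backward.isDefEq.respectTransparency false

universe v u

open CategoryTheory CategoryTheory.Limits AlgebraicGeometry TopologicalSpace Opposite
open Groth.Agent Groth.Agent.Fdesc Groth.Agent.Fdesc.LocGen Groth.Agent.Grpsch.PicGrp
  Groth.Agent.Pic13.H126 Groth.Agent.Pic13.H126.Patch Groth.Agent.Pic13.H17.Patch Groth.Agent.Pic13.H557.GlAbs
  Groth.Agent.Picfga.OverRep Groth.Agent.Pic13.H508.SqMT Groth.Agent.Pic13.H547.SecSheaf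
  Groth.Agent.Pic13.H138.AlgEquiv Groth.Agent.Pic13.H138.Slice

namespace K488.AlgZero

open Sq K530.PicZero

section ac

variable {Ω : Type u} [Field Ω]


variable {X X' Y Y' : Scheme.{u}} {f : X ⟶ (Spec (CommRingCat.of Ω))} {f₁ : X' ⟶ (Spec (CommRingCat.of Ω))} {f₂ : Y ⟶ (Spec (CommRingCat.of Ω))} {f₃ : Y' ⟶ (Spec (CommRingCat.of Ω))}
    {b : X' ⟶ X} {i : Y ⟶ X} {i' : Y' ⟶ X'} {π' : Y' ⟶ Y}

/-- The trivial scheme over the base. -/
noncomputable abbrev T₀ (Ω : Type u) [Field Ω] : Over (Spec (CommRingCat.of Ω)) := Over.mk (𝟙 (Spec (CommRingCat.of Ω)))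

/-- Nonempty opens of affine spaces are connected. -/
theorem connectedSpace_of_point {n : ℕ} (V : (𝔸(ULift.{u} (Fin n); (Spec (CommRingCat.of Ω)))).Opens) (v : V) :
    ConnectedSpace (V : Scheme.{u}) := by
  have h0 : IrreducibleSpace 𝔸(ULift.{u} (Fin n); (Spec (CommRingCat.of Ω))) := inferInstance
  have : Nonempty (V : Scheme.{u}) := ⟨v⟩
  have h1 : IrreducibleSpace (V : Scheme.{u}) := {
    toPreirreducibleSpace := inferInstance
    toNonempty := ⟨v⟩ }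
  infer_instance

variable [IsAlgClosed Ω]

/-- Classes with trivial pull back to `X'` are algebraically equivalent to zero. -/
theorem mem_of_pull_eq_one (D : Data f f₁ f₂ f₃ b i i' π') (c : Pic X) (hc : pull b c = 1) :
    c ∈ @alg0 Ω _ X ⟨f⟩ _ := by
  letI : X.Over (Spec (CommRingCat.of Ω)) := ⟨f⟩
  obtain ⟨R⟩ := exists_univ D
  have key : ∀ c : Pic X, pull b c = 1 → ∃ p : (Spec (CommRingCat.of Ω)) ⟶ R.W.left, ∃ hp : p ≫ R.W.hom = 𝟙 _,
      fibCl Ω X R.W.hom p hp R.δ = c := by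
    intro c hc
    have hne : Nonempty (T₀ Ω).left := inferInstanceAs (Nonempty (Spec (CommRingCat.of Ω)))
    have hss : Subsingleton (T₀ Ω).left := inferInstanceAs (Subsingleton (Spec (CommRingCat.of Ω)))
    obtain ⟨p, hp⟩ := R.exists_of_subsingleton (T₀ Ω) (pull (pullback.fst f (T₀ Ω).hom) c) (by
      rw [← pull_comp, mT_fst, pull_comp, hc, map_one])
    refine ⟨p.left, Over.w p, ?_⟩
    let s : X ⟶ PicF.XT f (T₀ Ω) := pullback.lift (𝟙 X) f (by
      rw [Category.id_comp]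
      exact (Category.comp_id _).symm)
    have hs : Pic13.sliceAt Ω X R.W.hom p.left (Over.w p) = s ≫ PicF.XTmap f p := by
      apply pullback.hom_ext
      · rw [sliceAt_fst, Category.assoc]
        exact (pullback.lift_fst _ _ _).symm.trans (congrArg (s ≫ ·) (XTmap_fst p).symm)
      · rw [sliceAt_snd, Category.assoc]
        have h1 : PicF.XTmap f p ≫ pullback.snd f R.W.hom = pullback.snd f (T₀ Ω).hom ≫ p.left := XTmap_snd p
        have h2 : s ≫ pullback.snd f (T₀ Ω).hom = f := pullback.lift_snd _ _ _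
        exact ((congrArg (s ≫ ·) h1).trans (by rw [← Category.assoc, h2]; rfl)).symm
    have h3 : s ≫ pullback.fst f (T₀ Ω).hom = 𝟙 X := pullback.lift_fst _ _ _
    calc fibCl Ω X R.W.hom p.left (Over.w p) R.δ = pull (s ≫ PicF.XTmap f p) R.δ := congrArg (fun m => pull m R.δ) hs
      _ = pull s (pull (PicF.XTmap f p) R.δ) := pull_comp _ _ _
      _ = pull s (pull (pullback.fst f (T₀ Ω).hom) c) := by rw [hp]
      _ = c := by rw [← pull_comp, h3, pull_id]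
  obtain ⟨p, hp, hpc⟩ := key c hc
  obtain ⟨p₀, hp₀, hpc₀⟩ := key 1 (map_one _)
  rw [mem_alg0_iff]
  have hcon : ConnectedSpace R.W.left := connectedSpace_of_point R.V (p (IsLocalRing.closedPoint Ω))
  have hn : IsNoetherian (𝔸(ULift.{u} (Fin R.n); (Spec (CommRingCat.of Ω)))) := by
    have h1 : IsLocallyNoetherian (𝔸(ULift.{u} (Fin R.n); (Spec (CommRingCat.of Ω)))) :=
      LocallyOfFiniteType.isLocallyNoetherian (𝔸(ULift.{u} (Fin R.n); (Spec (CommRingCat.of Ω))) ↘ (Spec (CommRingCat.of Ω)))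
    exact {}
  have hl : LocallyOfFiniteType R.W.hom :=
    inferInstanceAs (LocallyOfFiniteType (R.V.ι ≫ (𝔸(ULift.{u} (Fin R.n); (Spec (CommRingCat.of Ω))) ↘ (Spec (CommRingCat.of Ω)))))
  have hq : QuasiCompact R.W.hom :=
    inferInstanceAs (QuasiCompact (R.V.ι ≫ (𝔸(ULift.{u} (Fin R.n); (Spec (CommRingCat.of Ω))) ↘ (Spec (CommRingCat.of Ω)))))
  exact ⟨R.W.left, R.W.hom, hcon, hl, hq, R.δ, p, p₀, hp, hp₀, hpc, hpc₀⟩

/-- A class whose pull back to `X'` is algebraically equivalent to zero is algebraically equivalent to zero. -/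
theorem mem_of_pull_mem (D : Data f f₁ f₂ f₃ b i i' π') (c : Pic X) (hc : pull b c ∈ @alg0 Ω _ X' ⟨f₁⟩ _) :
    c ∈ @alg0 Ω _ X ⟨f⟩ _ := by
  letI : X.Over (Spec (CommRingCat.of Ω)) := ⟨f⟩
  letI : X'.Over (Spec (CommRingCat.of Ω)) := ⟨f₁⟩
  obtain ⟨T, q, hcon, hft, hqc, c', t, t₀, ht, ht₀, htc, ht₀c⟩ := hc
  have hTn : IsLocallyNoetherian T := LocallyOfFiniteType.isLocallyNoetherian q
  have hTc : CompactSpace T := QuasiCompact.compactSpace_of_compactSpace q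
  have hTN : IsNoetherian T := {}
  have hlc : LocallyConnectedSpace T := Sga3C.LocConn.locallyConnectedSpace_of_isLocallyNoetherian T
  have hjac : JacobsonSpace T := LocallyOfFiniteType.jacobsonSpace q
  let pt : (Spec (CommRingCat.of Ω)) := IsLocalRing.closedPoint Ω
  have hbo : b ≫ (X ↘ (Spec (CommRingCat.of Ω))) = X' ↘ (Spec (CommRingCat.of Ω)) := D.hb
  let P : (s : (Spec (CommRingCat.of Ω)) ⟶ T) → s ≫ q = 𝟙 _ → Prop := fun s hs =>
    ∀ d : Pic X, pull b d = fibCl Ω X' q s hs c' → d ∈ alg0 Ω X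
  -- local constancy
  have loc : ∀ x : T, ∃ U : T.Opens, x ∈ U ∧ ∀ (s s' : (Spec (CommRingCat.of Ω)) ⟶ T) (hs : s ≫ q = 𝟙 _) (hs' : s' ≫ q = 𝟙 _),
      s pt ∈ U → s' pt ∈ U → P s hs → P s' hs' := by
    intro x
    obtain ⟨U₁, hxU, hU⟩ := D.exists_lift (Over.mk q) c' x
    let U : T.Opens := U₁
    obtain ⟨V, hVU, hVo, hxV, hVc⟩ := locallyConnectedSpace_iff_subsets_isOpen_isConnected.1 hlc x (U : Set T)
      (U.isOpen.mem_nhds hxU)
    let V' : T.Opens := ⟨V, hVo⟩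
    obtain ⟨m, hm⟩ := hU V' hVU
    refine ⟨V', hxV, fun s s' hs hs' hsV hsV' hP d hd => ?_⟩
    have lift : ∀ (s : (Spec (CommRingCat.of Ω)) ⟶ T), s ≫ q = 𝟙 _ → s pt ∈ V' → ∃ s₁ : (Spec (CommRingCat.of Ω)) ⟶ V', s₁ ≫ V'.ι = s ∧ s₁ ≫ (V'.ι ≫ q) = 𝟙 _ := by
      intro s hs hsV
      have hr : Set.range s ⊆ Set.range V'.ι := by
        rw [Scheme.Opens.range_ι]
        rintro _ ⟨z, rfl⟩
        rw [Subsingleton.elim z pt]
        exact hsV
      refine ⟨IsOpenImmersion.lift V'.ι s hr, IsOpenImmersion.lift_fac _ _ _, ?_⟩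
      rw [IsOpenImmersion.lift_fac_assoc, hs]
    obtain ⟨s₁, hs₁, hs₁q⟩ := lift s hs hsV
    obtain ⟨s₂, hs₂, hs₂q⟩ := lift s' hs' hsV'
    -- the fibres of `m`
    have fib : ∀ (s : (Spec (CommRingCat.of Ω)) ⟶ T) (hs : s ≫ q = 𝟙 _) (s₁ : (Spec (CommRingCat.of Ω)) ⟶ V') (h : s₁ ≫ V'.ι = s) (h' : s₁ ≫ (V'.ι ≫ q) = 𝟙 _),
        pull b (fibCl Ω X (V'.ι ≫ q) s₁ h' m) = fibCl Ω X' q s hs c' := by
      intro s hs s₁ h h'
      have h1 := fibCl_pull_prodMap Ω X b hbo (V'.ι ≫ q) s₁ h' m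
      rw [← h1]
      have h2 : prodMap Ω b hbo (V'.ι ≫ q) = mT b D.hb (Over.mk (V'.ι ≫ q)) := by
        apply pullback.hom_ext
        · exact (prodMap_fst Ω b hbo (V'.ι ≫ q)).trans (mT_fst b D.hb (Over.mk (V'.ι ≫ q))).symm
        · exact (prodMap_snd Ω b hbo (V'.ι ≫ q)).trans (mT_snd b D.hb (Over.mk (V'.ι ≫ q))).symm
      have h3 : PicF.XTmap f₁ (res (Over.mk q) V') = bcT Ω X' q (V'.ι ≫ q) V'.ι rfl := by
        apply pullback.hom_ext
        · exact (XTmap_fst (res (Over.mk q) V')).trans (bcT_fst Ω X' q (V'.ι ≫ q) V'.ι rfl).symm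
        · exact (XTmap_snd (res (Over.mk q) V')).trans (bcT_snd Ω X' q (V'.ι ≫ q) V'.ι rfl).symm
      have h4 : pull (prodMap Ω b hbo (V'.ι ≫ q)) m = pull (bcT Ω X' q (V'.ι ≫ q) V'.ι rfl) c' := by
        rw [h2, ← h3]
        exact hm
      rw [h4, fibCl_pull_bcT]
      exact fibCl_congr Ω X' q _ h c'
    have hconV : ConnectedSpace (V' : Scheme.{u}) := isConnected_iff_connectedSpace.1 hVc
    have hl : LocallyOfFiniteType (V'.ι ≫ q) := inferInstance
    have hqV : QuasiCompact (V'.ι ≫ q) := inferInstance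
    have hA : AlgEq Ω X (fibCl Ω X (V'.ι ≫ q) s₂ hs₂q m) (fibCl Ω X (V'.ι ≫ q) s₁ hs₁q m) :=
      ⟨V', V'.ι ≫ q, hconV, hl, hqV, m, s₂, s₁, hs₂q, hs₁q, rfl, rfl⟩
    have h1 : fibCl Ω X (V'.ι ≫ q) s₁ hs₁q m ∈ alg0 Ω X := hP _ (fib s hs s₁ hs₁ hs₁q)
    have h2 : fibCl Ω X (V'.ι ≫ q) s₂ hs₂q m ∈ alg0 Ω X := hA.trans h1
    have h3 : d / fibCl Ω X (V'.ι ≫ q) s₂ hs₂q m ∈ alg0 Ω X := mem_of_pull_eq_one D _ (by
      rw [map_div, hd, fib s' hs' s₂ hs₂ hs₂q, div_self'])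
    have h4 := mul_mem h3 h2
    rwa [div_mul_cancel] at h4
  -- the two open sets
  let A : Set T := {x | ∃ U : T.Opens, x ∈ U ∧ ∀ (s : (Spec (CommRingCat.of Ω)) ⟶ T) (hs : s ≫ q = 𝟙 _), s pt ∈ U → P s hs}
  let B : Set T := {x | ∃ U : T.Opens, x ∈ U ∧ ∀ (s : (Spec (CommRingCat.of Ω)) ⟶ T) (hs : s ≫ q = 𝟙 _), s pt ∈ U → ¬ P s hs}
  have hAo : IsOpen A := by
    rw [isOpen_iff_forall_mem_open]
    rintro x ⟨U, hxU, hU⟩
    exact ⟨U, fun y hy => ⟨U, hy, hU⟩, U.isOpen, hxU⟩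
  have hBo : IsOpen B := by
    rw [isOpen_iff_forall_mem_open]
    rintro x ⟨U, hxU, hU⟩
    exact ⟨U, fun y hy => ⟨U, hy, hU⟩, U.isOpen, hxU⟩
  have hex : ∀ U : T.Opens, (U : Set T).Nonempty → ∃ s : (Spec (CommRingCat.of Ω)) ⟶ T, s ≫ q = 𝟙 _ ∧ s pt ∈ U := by
    intro U hU
    obtain ⟨x, hxU, hx⟩ := nonempty_inter_closedPoints hU U.isOpen.isLocallyClosed
    refine ⟨pointOfClosedPoint q x hx, pointOfClosedPoint_comp q x hx, ?_⟩
    rw [pointOfClosedPoint_apply]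
    exact hxU
  have hcov : ∀ x, x ∈ A ∨ x ∈ B := by
    intro x
    obtain ⟨U, hxU, hU⟩ := loc x
    obtain ⟨s, hs, hsU⟩ := hex U ⟨x, hxU⟩
    by_cases hP : P s hs
    · exact Or.inl ⟨U, hxU, fun s' hs' hs'U => hU s s' hs hs' hsU hs'U hP⟩
    · exact Or.inr ⟨U, hxU, fun s' hs' hs'U hP' => hP (hU s' s hs' hs hs'U hsU hP')⟩
  have hdis : ∀ x, x ∈ A → x ∈ B → False := by
    rintro x ⟨U, hxU, hU⟩ ⟨U', hxU', hU'⟩
    obtain ⟨s, hs, hsU⟩ := hex (U ⊓ U') ⟨x, hxU, hxU'⟩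
    exact hU' s hs hsU.2 (hU s hs hsU.1)
  have hP₀ : P t₀ ht₀ := fun d hd => mem_of_pull_eq_one D d (hd.trans ht₀c)
  have hA : A = Set.univ := by
    have hBc : Aᶜ = B := by
      ext x
      exact ⟨fun h => (hcov x).resolve_left h, fun h h' => hdis x h' h⟩
    have hcl : IsClopen A := ⟨by rw [← isOpen_compl_iff, hBc]; exact hBo, hAo⟩
    refine hcl.eq_univ ⟨t₀ pt, ?_⟩
    refine (hcov (t₀ pt)).resolve_right ?_
    rintro ⟨U, hU, h⟩
    exact h t₀ ht₀ hU hP₀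
  obtain ⟨U, hU, h⟩ : t pt ∈ A := by rw [hA]; trivial
  exact h t ht hU c htc.symm

end ac

/-! ### Geometric fibres -/

variable {κ : Type u} [Field κ]


variable {X X' Y Y' : Scheme.{u}} {f : X ⟶ (Spec (CommRingCat.of κ))} {f₁ : X' ⟶ (Spec (CommRingCat.of κ))} {f₂ : Y ⟶ (Spec (CommRingCat.of κ))} {f₃ : Y' ⟶ (Spec (CommRingCat.of κ))}
    {b : X' ⟶ X} {i : Y ⟶ X} {i' : Y' ⟶ X'} {π' : Y' ⟶ Y}

theorem isFinite_snd {Y : Scheme.{u}} (f₂ : Y ⟶ (Spec (CommRingCat.of κ))) [IsFinite f₂] (T : Over (Spec (CommRingCat.of κ))) : IsFinite (pullback.snd f₂ T.hom) :=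
  inferInstance

/-- Base change of the data. -/
theorem data_T (D : Data f f₁ f₂ f₃ b i i' π') {Ω : Type u} [Field Ω] (σ : Spec (CommRingCat.of Ω) ⟶ (Spec (CommRingCat.of κ))) :
    Data (pullback.snd f σ) (pullback.snd f₁ σ) (pullback.snd f₂ σ) (pullback.snd f₃ σ)
      (mT b D.hb (Over.mk σ)) (mT i D.hi (Over.mk σ)) (mT i' D.hi' (Over.mk σ)) (mT π' D.hπ (Over.mk σ)) where
  hb := mT_snd b D.hb (Over.mk σ)
  hi := mT_snd i D.hi (Over.mk σ)
  hi' := mT_snd i' D.hi' (Over.mk σ)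
  hπ := mT_snd π' D.hπ (Over.mk σ)
  H := D.isPullback_T (Over.mk σ)
  cl := D.isClosedImmersion_T (Over.mk σ)
  fin := D.isFinite_T (Over.mk σ)
  fin₂ := by
    have := D.fin₂
    infer_instance
  fin₃ := by
    have := D.fin₃
    infer_instance
  patch := D.isPatch_T (Over.mk σ)

/-- **Pic⁰ may be tested on the partial normalisation.** -/
theorem fibZero_of_pull (D : Data f f₁ f₂ f₃ b i i' π') (T : Over (Spec (CommRingCat.of κ))) (c : Pic (PicF.XT f T))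
    (hc : FibZero (PicF.XTproj f₁ T) (pull (mT b D.hb T) c)) : FibZero (PicF.XTproj f T) c := by
  intro Ω _ _ σ
  let τ := σ ≫ T.hom
  let g : Over.mk τ ⟶ T := Over.homMk σ rfl
  have D' := data_T D τ
  -- the comparison maps
  let e : pullback (PicF.XTproj f T) σ ⟶ pullback f τ := pullback.lift (pullback.fst _ _ ≫ pullback.fst f T.hom)
    (pullback.snd _ _) (by
      rw [Category.assoc, pullback.condition]
      change pullback.fst (PicF.XTproj f T) σ ≫ PicF.XTproj f T ≫ T.hom = _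
      rw [pullback.condition_assoc])
  let e₁ : pullback f₁ τ ⟶ pullback (PicF.XTproj f₁ T) σ := pullback.lift (PicF.XTmap f₁ g) (pullback.snd _ _)
    (XTmap_snd g)
  have h1 := @pull_mem_alg0 Ω _ (pullback (PicF.XTproj f₁ T) σ) (fibOver (PicF.XTproj f₁ T) σ) _ (pullback f₁ τ)
    ⟨pullback.snd f₁ τ⟩ e₁ (pullback.lift_snd _ _ _) _ (hc Ω σ)
  have h2 : pull e₁ (pull (pullback.fst (PicF.XTproj f₁ T) σ) (pull (mT b D.hb T) c)) =
      pull (mT b D.hb (Over.mk τ)) (pull (PicF.XTmap f g) c) := by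
    rw [← pull_comp, pullback.lift_fst, ← pull_comp, ← pull_comp, mT_XTmap]
    rfl
  rw [h2] at h1
  have h3 : pull (PicF.XTmap f g) c ∈ @alg0 Ω _ (pullback f τ) ⟨pullback.snd f τ⟩ _ := mem_of_pull_mem D' _ h1
  have h4 := @pull_mem_alg0 Ω _ (pullback f τ) ⟨pullback.snd f τ⟩ _ (pullback (PicF.XTproj f T) σ)
    (fibOver (PicF.XTproj f T) σ) e (pullback.lift_snd _ _ _) _ h3
  replace h4 : pull (e ≫ PicF.XTmap f g) c ∈ @alg0 Ω _ (pullback (PicF.XTproj f T) σ) (fibOver (PicF.XTproj f T) σ) _ := by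
    rw [pull_comp]
    exact h4
  have h5 : e ≫ PicF.XTmap f g = pullback.fst (PicF.XTproj f T) σ := by
    apply pullback.hom_ext
    · rw [Category.assoc, XTmap_fst]
      exact pullback.lift_fst _ _ _
    · rw [Category.assoc, XTmap_snd]
      have h6 : e ≫ pullback.snd f τ = pullback.snd (PicF.XTproj f T) σ := pullback.lift_snd _ _ _
      have h7 : e ≫ pullback.snd f τ ≫ σ = pullback.snd (PicF.XTproj f T) σ ≫ σ := by
        rw [← Category.assoc, h6]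
      exact h7.trans pullback.condition.symm
  rwa [h5] at h4

end K488.AlgZero
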