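import Groth.Agent.Sga7.H76.PicLine
import Groth.Agent.Sga7.H732.Reg
import Groth.Agent.Pi1.H413.SecChart
import Groth.Agent.Models.H300.ExtPic
import Mathlib.AlgebraicGeometry.AffineSpace
import Groth.Prelude.Def_Pic

/-!
# `Pic(Y) → Pic(Y × V)` is surjective for `Y` regular integral and `V` open in an affine space
-/

set_option autoImplicit false
universe u

open CategoryTheory CategoryTheory.Limits AlgebraicGeometry TopologicalSpace Opposite
open Groth.Agent Groth.Agent.Grpsch.PicGrp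

namespace K488.PicAff

open AffineSpace

variable {k : Type u} [Field k]

/-- The element of global sections attached to a morphism to the affine line. -/
noncomputable def par {Z : Scheme.{u}} (b : Z ⟶ Spec (CommRingCat.of (Polynomial k))) : Γ(Z, ⊤) :=
  b.appTop ((Scheme.ΓSpecIso (CommRingCat.of (Polynomial k))).inv (Polynomial.X : Polynomial k))

theorem par_comp {Z Z' : Scheme.{u}} (h : Z' ⟶ Z) (b : Z ⟶ Spec (CommRingCat.of (Polynomial k))) :
    par (h ≫ b) = h.appTop (par b) := rfl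

theorem hom_ext_poly {Z : Scheme.{u}} {b b' : Z ⟶ Spec (CommRingCat.of (Polynomial k))}
    (h1 : b ≫ Spec.map (CommRingCat.ofHom (algebraMap k (Polynomial k))) =
      b' ≫ Spec.map (CommRingCat.ofHom (algebraMap k (Polynomial k))))
    (h2 : par b = par b') : b = b' := by
  apply ext_of_isAffine
  rw [← cancel_epi (Scheme.ΓSpecIso (CommRingCat.of (Polynomial k))).inv]
  apply CommRingCat.hom_ext
  apply Polynomial.ringHom_ext
  · intro a
    have h3 := congrArg (fun z => (Scheme.Hom.appTop z)) h1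
    have h4 := congr($h3 ((Scheme.ΓSpecIso (CommRingCat.of k)).inv a))
    have h5 : (Scheme.ΓSpecIso (CommRingCat.of (Polynomial k))).inv (Polynomial.C a) =
        (Spec.map (CommRingCat.ofHom (algebraMap k (Polynomial k)))).appTop
          ((Scheme.ΓSpecIso (CommRingCat.of k)).inv a) :=
      congr($(Scheme.ΓSpecIso_inv_naturality (CommRingCat.ofHom (algebraMap k (Polynomial k)))) a)
    change b.appTop ((Scheme.ΓSpecIso (CommRingCat.of (Polynomial k))).inv (Polynomial.C a)) =
      b'.appTop ((Scheme.ΓSpecIso (CommRingCat.of (Polynomial k))).inv (Polynomial.C a))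
    rw [h5]
    exact h4
  · exact h2

theorem exists_poly {Z : Scheme.{u}} (a : Z ⟶ Spec (CommRingCat.of k)) (t : Γ(Z, ⊤)) :
    ∃ b : Z ⟶ Spec (CommRingCat.of (Polynomial k)),
      b ≫ Spec.map (CommRingCat.ofHom (algebraMap k (Polynomial k))) = a ∧ par b = t := by
  let ψ : k →+* Γ(Z, ⊤) := ((Scheme.ΓSpecIso (CommRingCat.of k)).inv ≫ a.appTop).hom
  let Ψ : CommRingCat.of (Polynomial k) ⟶ Γ(Z, ⊤) := CommRingCat.ofHom (Polynomial.eval₂RingHom ψ t)
  have hΨ : (Scheme.ΓSpecIso (CommRingCat.of (Polynomial k))).inv ≫ (Z.toSpecΓ ≫ Spec.map Ψ).appTop = Ψ := by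
    rw [Scheme.Hom.comp_appTop, ← Scheme.ΓSpecIso_inv_naturality_assoc, Scheme.toSpecΓ_appTop, Iso.inv_hom_id,
      Category.comp_id]
  refine ⟨Z.toSpecΓ ≫ Spec.map Ψ, ?_, ?_⟩
  · apply ext_of_isAffine
    rw [← cancel_epi (Scheme.ΓSpecIso (CommRingCat.of k)).inv, Scheme.Hom.comp_appTop,
      ← Scheme.ΓSpecIso_inv_naturality_assoc, hΨ]
    apply CommRingCat.hom_ext
    ext c
    change (Polynomial.eval₂RingHom ψ t) (algebraMap k (Polynomial k) c) = ψ c
    rw [Polynomial.algebraMap_apply, Algebra.algebraMap_self, RingHom.id_apply, Polynomial.coe_eval₂RingHom,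
      Polynomial.eval₂_C]
  · have h1 := congr($hΨ (Polynomial.X : Polynomial k))
    refine h1.trans ?_
    change (Polynomial.eval₂RingHom ψ t) Polynomial.X = t
    rw [Polynomial.coe_eval₂RingHom, Polynomial.eval₂_X]

/-- The affine space on `Option ι` is the affine line over the affine space on `ι`. -/
theorem exists_isPullback_option (ι : Type u) (Y : Scheme.{u}) (f : Y ⟶ Spec (CommRingCat.of k)) :
    ∃ c : 𝔸(Option ι; Y) ⟶ Spec (CommRingCat.of (Polynomial k)),
      IsPullback (reindex some Y : 𝔸(Option ι; Y) ⟶ 𝔸(ι; Y)) c ((𝔸(ι; Y) ↘ Y) ≫ f)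
        (Spec.map (CommRingCat.ofHom (algebraMap k (Polynomial k)))) := by
  obtain ⟨c, hc1, hc2⟩ := exists_poly ((𝔸(Option ι; Y) ↘ Y) ≫ f) (coord Y none)
  refine ⟨c, ⟨⟨?_⟩, ⟨PullbackCone.IsLimit.mk _ (fun s => homOfVector (s.fst ≫ (𝔸(ι; Y) ↘ Y))
    (fun o => o.elim (par s.snd) (fun i => s.fst.appTop (coord Y i)))) ?_ ?_ ?_⟩⟩⟩
  · rw [hc1, reindex_over_assoc]
  · intro s
    apply hom_ext
    · rw [Category.assoc, reindex_over, homOfVector_over]
    · intro i
      rw [Scheme.Hom.comp_appTop, CommRingCat.comp_apply, reindex_appTop_coord, homOfVector_appTop_coord]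
      rfl
  · intro s
    apply hom_ext_poly
    · rw [Category.assoc, hc1, homOfVector_over_assoc, Category.assoc, s.condition]
    · rw [par_comp, hc2, homOfVector_appTop_coord]
      rfl
  · intro s m hm1 hm2
    apply hom_ext
    · rw [homOfVector_over, ← hm1, Category.assoc, reindex_over]
    · intro o
      rw [homOfVector_appTop_coord]
      rcases o with _ | i
      · change _ = par s.snd
        rw [← hm2, par_comp, hc2]
      · change _ = s.fst.appTop (coord Y i)
        rw [← hm1, Scheme.Hom.comp_appTop, CommRingCat.comp_apply, reindex_appTop_coord]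

instance isLocallyNoetherian_affineSpace (ι : Type u) [Finite ι] (Y : Scheme.{u}) [IsLocallyNoetherian Y] :
    IsLocallyNoetherian 𝔸(ι; Y) :=
  LocallyOfFiniteType.isLocallyNoetherian (𝔸(ι; Y) ↘ Y)

theorem isRegularScheme_affineSpace (ι : Type u) [Finite ι] (Y : Scheme.{u}) [IsLocallyNoetherian Y]
    (hY : Models.IsRegularScheme Y) : Models.IsRegularScheme 𝔸(ι; Y) := by
  have : Smooth (𝔸(ι; Y) ↘ Y) := Pi1.H413.SecChart.smooth_affineSpace ι Y
  exact Sga7.H732.Reg.isRegularScheme_of_smooth (𝔸(ι; Y) ↘ Y) hY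

variable (k) in
/-- **`Pic(Y) → Pic(𝔸ⁿ_Y)` is surjective** for `Y` regular. -/
theorem surjective_pull_affineSpace (ι : Type u) [Finite ι] : ∀ (Y : Scheme.{u}) [IsIntegral Y] [IsLocallyNoetherian Y]
    (_ : Models.IsRegularScheme Y) (_ : Y ⟶ Spec (CommRingCat.of k)),
    Function.Surjective (pull (𝔸(ι; Y) ↘ Y)) := by
  induction ι using Finite.induction_empty_option with
  | @of_equiv α β e ih =>
    intro Y _ _ hY f
    have h2 : (reindex e Y : 𝔸(β; Y) ⟶ 𝔸(α; Y)) ≫ (reindex e.symm Y : 𝔸(α; Y) ⟶ 𝔸(β; Y)) = 𝟙 _ := by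
      apply hom_ext
      · simp
      · intro i
        rw [Scheme.Hom.comp_appTop, CommRingCat.comp_apply, reindex_appTop_coord, reindex_appTop_coord,
          Scheme.Hom.id_appTop, e.apply_symm_apply]
        rfl
    intro L
    obtain ⟨M, hM⟩ := ih Y hY f (pull (reindex e.symm Y) L)
    refine ⟨M, ?_⟩
    have h3 : (𝔸(β; Y) ↘ Y) = reindex e Y ≫ (𝔸(α; Y) ↘ Y) := (reindex_over _ _).symm
    rw [h3, pull_comp, hM, ← pull_comp, h2, pull_id]
  | h_empty =>
    intro Y _ _ hY f
    intro L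
    refine ⟨pull (inv (𝔸(PEmpty; Y) ↘ Y)) L, ?_⟩
    rw [← pull_comp, IsIso.hom_inv_id, pull_id]
  | @h_option α _ ih =>
    intro Y _ _ hY f
    obtain ⟨c, hc⟩ := exists_isPullback_option α Y f
    have h1 := Sga7.H76.PicLine.surjective_pull_line (isRegularScheme_affineSpace α Y hY) _ _ c hc
    have h2 := ih Y hY f
    have h3 : (𝔸(Option α; Y) ↘ Y) = reindex some Y ≫ (𝔸(α; Y) ↘ Y) := (reindex_over _ _).symm
    rw [h3]
    intro L
    obtain ⟨M, rfl⟩ := h1 L
    obtain ⟨N, rfl⟩ := h2 M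
    exact ⟨N, pull_comp _ _ _⟩

/-- **`Pic(Y) → Pic(Y × V)` is surjective** for `Y` regular integral and `V` open in an affine space. -/
theorem surjective_pull_fst (ι : Type u) [Finite ι] {Y : Scheme.{u}} [IsIntegral Y] [IsLocallyNoetherian Y]
    (hY : Models.IsRegularScheme Y) (f : Y ⟶ Spec (CommRingCat.of k)) (T : Over (Spec (CommRingCat.of k)))
    (j : T.left ⟶ 𝔸(ι; Spec (CommRingCat.of k))) [IsOpenImmersion j] (hj : j ≫ (𝔸(ι; Spec (CommRingCat.of k)) ↘ _) = T.hom) :
    Function.Surjective (pull (pullback.fst f T.hom) : Pic Y → Pic (PicF.XT f T)) := by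
  have hsq := isPullback_map (n := ι) f
  have hw : (pullback.snd f T.hom ≫ j) ≫ (𝔸(ι; Spec (CommRingCat.of k)) ↘ _) = pullback.fst f T.hom ≫ f := by
    rw [Category.assoc, hj, pullback.condition]
  let i : pullback f T.hom ⟶ 𝔸(ι; Y) := hsq.lift (pullback.snd f T.hom ≫ j) (pullback.fst f T.hom) hw
  have hi1 : i ≫ map ι f = pullback.snd f T.hom ≫ j := hsq.lift_fst _ _ _
  have hi2 : i ≫ (𝔸(ι; Y) ↘ Y) = pullback.fst f T.hom := hsq.lift_snd _ _ _
  have hisq : IsPullback i (pullback.snd f T.hom) (map ι f) j := by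
    refine IsPullback.of_right ?_ hi1 hsq.flip
    rw [hi2, hj]
    exact IsPullback.of_hasPullback f T.hom
  have hio : IsOpenImmersion i := MorphismProperty.of_isPullback (P := @IsOpenImmersion) hisq.flip inferInstance
  have h1 : Function.Surjective (pull i) :=
    Models.H300.ExtPic.pull_surjective i (isRegularScheme_affineSpace ι Y hY)
  have h2 := surjective_pull_affineSpace k ι Y hY f
  intro L
  obtain ⟨M, rfl⟩ := h1 L
  obtain ⟨N, rfl⟩ := h2 M
  refine ⟨N, ?_⟩
  rw [← hi2, pull_comp]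

end K488.PicAff
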