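import Groth.Agent.Neron.K488.Comp
import Groth.Agent.Neron.K488.PicAff

/-!
# Morphisms from open subschemes of affine spaces to the Jacobian of a regular curve are constant
-/

set_option autoImplicit false

universe v u

open CategoryTheory CategoryTheory.Limits AlgebraicGeometry TopologicalSpace Opposite
open Groth.Agent Groth.Agent.Grpsch Groth.Agent.Grpsch.PicGrp

namespace K488.Const

variable {κ k : Type u} [Field κ] [Field k] [Algebra κ k]

/-- Let `k/κ` be separable algebraic with `k` separably closed, `C` a regular geometrically reduced proper scheme over `κ`,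
`J` representing the fppf-sheafified `Pic⁰` of `C`.  A `κ`-morphism to `J` from an open subscheme `T` of an affine
space over `k` is constant: for every `k`-morphism `e : T ⟶ T`, `e ≫ b = b`. -/
theorem comp_eq [Algebra.IsSeparable κ k] [IsSepClosed k] {C : Scheme.{u}}
    (g : C ⟶ Spec (CommRingCat.of κ)) [IsProper g] [GeometricallyReduced g] (hC : Models.IsRegularScheme C)
    (J : Over (Spec (CommRingCat.of κ)))
    (φ : ∀ T : Over (Spec (CommRingCat.of κ)), PicF.Cl (PicF.XT g T) → (T ⟶ J))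
    (hP : AbDual.IsRelPicZeroK Scheme.fppfPrecoverage g J φ)
    (ι : Type u) [Finite ι] (T : Over (Spec (CommRingCat.of k)))
    (j : T.left ⟶ 𝔸(ι; Spec (CommRingCat.of k))) [IsOpenImmersion j]
    (hj : j ≫ (𝔸(ι; Spec (CommRingCat.of k)) ↘ Spec (CommRingCat.of k)) = T.hom)
    (b : Psi.dn (Spec.map (CommRingCat.ofHom (algebraMap κ k))) T ⟶ J) (e : T ⟶ T) :
    Psi.dnm _ e ≫ b = b := by
  obtain ⟨α, hα, D, f, q, hq, x, hx, hint, hlN, hreg, hI, ho, hd, hc⟩ := Comp.exists_components (k := k) g hC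
  choose r hr using fun i => Psi.exists_isPsi (q i) (hq i) (hx i) (hI i) hP T b
  refine Psi.eq_of_isPsi hq hx hP ho hd hc (r := r) (fun i => ?_) hr
  have h1 := (hr i).pull e
  have h2 := PicAff.surjective_pull_fst ι (hreg i) (f i) T j hj
  obtain ⟨M, hM⟩ := h2 (r i)
  rwa [← hM, ← pull_comp, Fga.RigGrp.XTmap_fst, hM] at h1

/-- A morphism from a nonempty open subscheme of affine space to the Jacobian of a regular curve becomes constant over
the separable closure. -/
theorem exists_const [Algebra.IsSeparable κ k] [IsSepClosed k] {C : Scheme.{u}}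
    (g : C ⟶ Spec (CommRingCat.of κ)) [IsProper g] [GeometricallyReduced g] (hC : Models.IsRegularScheme C)
    (J : Over (Spec (CommRingCat.of κ)))
    (φ : ∀ T : Over (Spec (CommRingCat.of κ)), PicF.Cl (PicF.XT g T) → (T ⟶ J))
    (hP : AbDual.IsRelPicZeroK Scheme.fppfPrecoverage g J φ)
    (ι : Type u) [Finite ι] (V : (𝔸(ι; Spec (CommRingCat.of κ))).Opens) (hV : (V : Set (𝔸(ι; Spec (CommRingCat.of κ)))).Nonempty)
    (b : (V : Scheme.{u}) ⟶ J.left) (hb : b ≫ J.hom = V.ι ≫ (𝔸(ι; Spec (CommRingCat.of κ)) ↘ Spec (CommRingCat.of κ))) :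
    ∃ c : Spec (CommRingCat.of k) ⟶ J.left, c ≫ J.hom = Spec.map (CommRingCat.ofHom (algebraMap κ k)) ∧
      pullback.fst (V.ι ≫ (𝔸(ι; Spec (CommRingCat.of κ)) ↘ Spec (CommRingCat.of κ)))
        (Spec.map (CommRingCat.ofHom (algebraMap κ k))) ≫ b =
      pullback.snd (V.ι ≫ (𝔸(ι; Spec (CommRingCat.of κ)) ↘ Spec (CommRingCat.of κ)))
        (Spec.map (CommRingCat.ofHom (algebraMap κ k))) ≫ c := by
  set σ := Spec.map (CommRingCat.ofHom (algebraMap κ k)) with hσ
  set v := V.ι ≫ (𝔸(ι; Spec (CommRingCat.of κ)) ↘ Spec (CommRingCat.of κ)) with hv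
  let T : Over (Spec (CommRingCat.of k)) := Over.mk (pullback.snd v σ)
  have hsq := AffineSpace.isPullback_map (n := ι) σ
  let j : pullback v σ ⟶ 𝔸(ι; Spec (CommRingCat.of k)) := hsq.lift (pullback.fst v σ ≫ V.ι) (pullback.snd v σ) (by
    rw [Category.assoc]
    exact pullback.condition)
  have hj1 : j ≫ AffineSpace.map ι σ = pullback.fst v σ ≫ V.ι := hsq.lift_fst _ _ _
  have hj2 : j ≫ (𝔸(ι; Spec (CommRingCat.of k)) ↘ _) = pullback.snd v σ := hsq.lift_snd _ _ _
  have hjsq : IsPullback j (pullback.fst v σ) (AffineSpace.map ι σ) V.ι := by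
    refine IsPullback.of_right ?_ hj1 hsq.flip
    rw [hj2]
    exact (IsPullback.of_hasPullback v σ).flip
  have hjo : IsOpenImmersion j := MorphismProperty.of_isPullback (P := @IsOpenImmersion) hjsq.flip inferInstance
  have hsm : Smooth (𝔸(ι; Spec (CommRingCat.of κ)) ↘ Spec (CommRingCat.of κ)) :=
    Pi1.H413.SecChart.smooth_affineSpace ι _
  have hne : Nonempty (pullback v σ : Scheme.{u}) := by
    obtain ⟨y, hy⟩ := hV
    obtain ⟨z, -, -⟩ := Scheme.Pullback.exists_preimage_pullback (f := v) (g := σ) ⟨y, hy⟩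
      (IsLocalRing.closedPoint k) (Subsingleton.elim _ _)
    exact ⟨z⟩
  obtain ⟨t, ht⟩ := Comp.exists_section_of_smooth (pullback.snd v σ)
  let b' : Psi.dn σ T ⟶ J := Over.homMk (pullback.fst v σ ≫ b) (by
    change (pullback.fst v σ ≫ b) ≫ J.hom = pullback.snd v σ ≫ σ
    rw [Category.assoc, hb, pullback.condition])
  let e : T ⟶ T := Over.homMk (pullback.snd v σ ≫ t) (by
    change (pullback.snd v σ ≫ t) ≫ pullback.snd v σ = pullback.snd v σ
    rw [Category.assoc, ht, Category.comp_id])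
  have h1 := congrArg (fun z => z.left) (comp_eq g hC J φ hP ι T j hj2 b' e)
  have h2 : (pullback.snd v σ ≫ t) ≫ pullback.fst v σ ≫ b = pullback.fst v σ ≫ b := h1
  refine ⟨t ≫ pullback.fst v σ ≫ b, ?_, ?_⟩
  · rw [Category.assoc, Category.assoc, hb, pullback.condition, ← Category.assoc, ht, Category.id_comp]
  · exact h2.symm.trans (Category.assoc _ _ _)

end K488.Const
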