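import Groth.Agent.Neron.K488.NormKer
import Groth.Agent.Neron.K488.Pt
import Groth.Agent.AbSch.K449.Basic
import Groth.Agent.FlatA.EtaleSections
import Groth.Agent.S0346

/-!
# The pull back to the normalisation is smooth and surjective and its kernel is smooth, connected and unirational
-/

set_option autoImplicit false
set_option backward.isDefEq.respectTransparency.types false

universe v u

open CategoryTheory CategoryTheory.Limits AlgebraicGeometry TopologicalSpace Opposite MonObj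
open CartesianMonoidalCategory
open SemiCartesianMonoidalCategory (toUnit toUnit_unique)
open Groth.Agent Groth.Agent.Grpsch.PicGrp Groth.Agent.Picfga.OverRep Groth.Agent.Pic13.H508.SqMT
open Groth.Agent.Fga.RigGrp (toCl toCl_injective toCl_pull)
open K530.PicZero (exists_toCl_of_isPicZeroCl isPicZeroCl_pullCl isPicZeroCl_toCl_iff FibZero)

namespace K488.KerSm

open NormKer

/-! ### Torsors under the kernel -/

section tors

variable {S : Scheme.{u}} {J Q N : Over S} [GrpObj J] [GrpObj Q] [GrpObj N] (q : J ⟶ Q) [IsMonHom q] (j : N ⟶ J)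
  (hN : AlgGrp.IsKernel j q)

include hN in
theorem j_comp : j ≫ q = 1 := hN.w.trans rfl

include hN in
theorem exists_ker {T : Over S} (a : T ⟶ J) (h : a ≫ q = 1) : ∃ n : T ⟶ N, n ≫ j = a :=
  ⟨hN.lift a (toUnit T) (h.trans rfl), hN.lift_fst _ _ _⟩

include hN in
theorem ker_ext {T : Over S} {a b : T ⟶ N} (h : a ≫ j = b ≫ j) : a = b :=
  hN.hom_ext h (toUnit_unique _ _)

include hN in
/-- The fibres of a homomorphism are torsors under the kernel. -/
theorem isPullback_tors {Z : Over S} (z : Z ⟶ Q) (x : Z ⟶ J) (hx : x ≫ q = z) :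
    IsPullback ((fst Z N ≫ x) * (snd Z N ≫ j)) (fst Z N) q z := by
  have hw : ((fst Z N ≫ x) * (snd Z N ≫ j)) ≫ q = fst Z N ≫ z := by
    rw [MonObj.mul_comp, Category.assoc, Category.assoc, hx, j_comp q j hN, MonObj.comp_one, _root_.mul_one]
  refine ⟨⟨hw⟩, ⟨PullbackCone.IsLimit.mk _ (fun s => lift s.snd
    (Classical.choose (exists_ker q j hN ((s.snd ≫ x)⁻¹ * s.fst) ?_))) ?_ ?_ ?_⟩⟩
  · rw [MonObj.mul_comp, GrpObj.inv_comp, Category.assoc, hx, s.condition, inv_mul_cancel]
  · intro s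
    have h := Classical.choose_spec (exists_ker q j hN ((s.snd ≫ x)⁻¹ * s.fst) (by
      rw [MonObj.mul_comp, GrpObj.inv_comp, Category.assoc, hx, s.condition, inv_mul_cancel]))
    rw [MonObj.comp_mul, lift_fst_assoc, lift_snd_assoc, h, mul_inv_cancel_left]
  · intro s
    exact lift_fst _ _
  · intro s m h1 h2
    apply hom_ext
    · rw [h2, lift_fst]
    · rw [lift_snd]
      apply ker_ext q j hN
      have h := Classical.choose_spec (exists_ker q j hN ((s.snd ≫ x)⁻¹ * s.fst) (by
        rw [MonObj.mul_comp, GrpObj.inv_comp, Category.assoc, hx, s.condition, inv_mul_cancel]))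
      rw [h, ← h1, ← h2, MonObj.comp_mul]
      simp

include hN in
theorem smooth_snd [Smooth N.hom] {Z : Over S} (z : Z ⟶ Q) (x : Z ⟶ J) (hx : x ≫ q = z) :
    Smooth (pullback.snd q.left z.left) := by
  have h := (isPullback_tors q j hN z x hx).map (Over.forget S)
  have h1 : h.isoPullback.inv ≫ (fst Z N).left = pullback.snd q.left z.left := h.isoPullback_inv_snd
  have h2 : Smooth (fst Z N).left := inferInstanceAs (Smooth (pullback.fst Z.hom N.hom))
  rw [← h1]
  exact (MorphismProperty.cancel_left_of_respectsIso (P := @Smooth.{u}) h.isoPullback.inv (fst Z N).left).2 h2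

/-- A homomorphism which is fppf-locally surjective on points and has smooth kernel is smooth. -/
theorem smooth_surjective [Smooth N.hom] (h : ∀ t : Q.left, ∃ (Z : Over S) (z : Z ⟶ Q), Flat z.left ∧
    LocallyOfFinitePresentation z.left ∧ t ∈ Set.range z.left ∧ ∃ x : Z ⟶ J, x ≫ q = z) (hN : AlgGrp.IsKernel j q) :
    Smooth q.left ∧ Surjective q.left := by
  refine ⟨FppfLoc.smooth_of_family q.left fun t => ?_, ⟨fun t => ?_⟩⟩
  · obtain ⟨Z, z, h1, h2, h3, x, hx⟩ := h t
    exact ⟨Z.left, z.left, h1, h2, h3, smooth_snd q j hN z x hx⟩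
  · obtain ⟨Z, z, -, -, ⟨t', ht'⟩, x, hx⟩ := h t
    refine ⟨x.left t', ?_⟩
    rw [← ht', ← hx]
    rfl

end tors

/-! ### Étale-local sections -/

/-- A smooth surjective morphism has a section over an étale covering. -/
theorem exists_etale_cover {X S : Scheme.{u}} (f : X ⟶ S) [Smooth f] [Surjective f] :
    ∃ (W : Scheme.{u}) (q : W ⟶ S) (σ : W ⟶ X), Etale q ∧ Surjective q ∧ σ ≫ f = q := by
  choose V v v' hv hv' σ hσ using fun s : S =>
    Groth.Agent.FlatA.EtaleSections.exists_section f s (Surjective.surj (f := f) s)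
  refine ⟨∐ V, Sigma.desc v, Sigma.desc σ, IsZariskiLocalAtSource.sigmaDesc hv, ?_, ?_⟩
  · apply Surjective.sigmaDesc_of_union_range_eq_univ
    rw [Set.eq_univ_iff_forall]
    intro s
    exact Set.mem_iUnion.2 ⟨s, v' s, hv' s⟩
  · apply Sigma.hom_ext
    intro s
    simp [hσ]

/-- Points of the target of a smooth surjective morphism lift étale locally. -/
theorem exists_etale_lift {S : Scheme.{u}} {J Q : Over S} (q : J ⟶ Q) [Smooth q.left] [Surjective q.left]
    (T : Over S) (y : T ⟶ Q) :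
    ∃ (I : Type u) (U : I → T.left.Etale), EtCoh.Covers U ∧
        ∀ i, ∃ x : PicRel.ovr T (U i) ⟶ J, x ≫ q = PicRel.ovrHom T (U i) ≫ y := by
  obtain ⟨W, p, σ, h1, h2, h3⟩ := exists_etale_cover (pullback.snd q.left y.left)
  let U : T.left.Etale := MorphismProperty.Over.mk ⊤ p h1
  refine ⟨PUnit, fun _ => U, fun t => ?_, fun _ => ?_⟩
  · obtain ⟨w, hw⟩ := h2.surj t
    exact ⟨⟨⟩, w, hw⟩
  · have h4 : (σ ≫ pullback.fst q.left y.left) ≫ q.left = p ≫ y.left := by
      rw [Category.assoc, pullback.condition, ← Category.assoc, h3]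
    refine ⟨Over.homMk (σ ≫ pullback.fst q.left y.left) ?_, ?_⟩
    · change (σ ≫ pullback.fst q.left y.left) ≫ J.hom = p ≫ T.hom
      rw [← Over.w q, ← Category.assoc, h4, Category.assoc, Over.w y]
    · ext
      exact h4

/-! ### The kernel -/

section main

variable {κ : Type u} [Field κ]
variable {C Cn : Scheme.{u}} {g : C ⟶ (Spec (CommRingCat.of κ))} {ν : Cn ⟶ C} {Y Y' : Scheme.{u}}
  {f₂ : Y ⟶ (Spec (CommRingCat.of κ))} {f₃ : Y' ⟶ (Spec (CommRingCat.of κ))}
  {i : Y ⟶ C} {i' : Y' ⟶ Cn} {π' : Y' ⟶ Y} (D : Sq.Data g (ν ≫ g) f₂ f₃ ν i i' π')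
  {J Jn : Over (Spec (CommRingCat.of κ))} [GrpObj J] [GrpObj Jn]
  {φ : ∀ T : Over (Spec (CommRingCat.of κ)), PicF.Cl (PicF.XT g T) → (T ⟶ J)}
  {φn : ∀ T : Over (Spec (CommRingCat.of κ)), PicF.Cl (PicF.XT (ν ≫ g) T) → (T ⟶ Jn)}
  (hJ : AbDual.IsDualAV Scheme.fppfPrecoverage (Over.mk g) J φ)
  (hJn : AbDual.IsDualAV Scheme.fppfPrecoverage (Over.mk (ν ≫ g)) Jn φn)
  {νt : J ⟶ Jn} [IsMonHom νt]
  (hνt : AbDual.IsTranspose (Over.homMk ν rfl : Over.mk (ν ≫ g) ⟶ Over.mk g) φn φ νt)
  {N : Over (Spec (CommRingCat.of κ))} [GrpObj N] {j : N ⟶ J} (hN : AlgGrp.IsKernel j νt)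

include D hJ hJn hνt hN in
/-- The kernel is smooth, connected and unirational. -/
theorem ker_smooth : Smooth N.hom ∧ ConnectedSpace N.left ∧
      (∃ (n : ℕ) (V : (AffineSpace (ULift.{u} (Fin n)) (Spec (CommRingCat.of κ))).Opens)
          (ψ : (V : Scheme.{u}) ⟶ N.left),
        (V : Set (AffineSpace (ULift.{u} (Fin n)) (Spec (CommRingCat.of κ)))).Nonempty ∧ DenseRange ψ.base ∧
        ψ ≫ N.hom = V.ι ≫ (AffineSpace (ULift.{u} (Fin n)) (Spec (CommRingCat.of κ)) ↘ Spec (CommRingCat.of κ))) := by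
  obtain ⟨R⟩ := Sq.exists_univ D
  obtain ⟨ρ, hρ⟩ := exists_rho D hJn hνt R hN
  have hl : ∀ y : N.left, ∃ (Z : Scheme.{u}) (z : Z ⟶ N.left), Flat z ∧ LocallyOfFinitePresentation z ∧
      y ∈ Set.range z ∧ ∃ l : Z ⟶ R.W.left, l ≫ ρ.left = z := by
    intro y
    obtain ⟨Z, z, h1, h2, h3, x, hx⟩ := exists_lift_W D hJ hJn hνt R hN hρ N (𝟙 N) y
    refine ⟨Z.left, z.left, h1, h2, h3, x.left, ?_⟩
    rw [Category.comp_id] at hx
    exact congrArg (·.left) hx
  have hsmA : Smooth (AffineSpace (ULift.{u} (Fin R.n)) (Spec (CommRingCat.of κ)) ↘ Spec (CommRingCat.of κ)) :=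
    Pi1.H413.SecChart.smooth_affineSpace _ _
  have hsmW : Smooth (ρ.left ≫ N.hom) := by
    rw [Over.w ρ]
    change Smooth (R.V.ι ≫ (AffineSpace (ULift.{u} (Fin R.n)) (Spec (CommRingCat.of κ)) ↘ Spec (CommRingCat.of κ)))
    infer_instance
  have hft : LocallyOfFiniteType N.hom := FppfLoc.locallyOfFiniteType_of_family ρ.left N.hom hl inferInstance
  have hfp : LocallyOfFinitePresentation N.hom := LocallyOfFinitePresentation.iff_locallyOfFiniteType.2 hft
  have hgr : GeometricallyReduced N.hom := FppfLoc.geometricallyReduced_of_family ρ.left N.hom hsmW fun y => by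
    obtain ⟨Z, z, h1, -, h3, h4⟩ := hl y
    exact ⟨Z, z, h1, h3, h4⟩
  have hs : Function.Surjective ρ.left := by
    intro y
    obtain ⟨Z, z, -, -, ⟨t, ht⟩, l, hl⟩ := hl y
    refine ⟨l t, ?_⟩
    rw [← ht, ← hl]
    rfl
  obtain ⟨v, -⟩ := hs (η[N].left (IsLocalRing.closedPoint κ : ↥(Spec (CommRingCat.of κ))))
  have hcon : ConnectedSpace R.W.left := AlgZero.connectedSpace_of_point R.V v
  refine ⟨K449.Basic.smooth N, hs.connectedSpace ρ.left.continuous, R.n, R.V, ρ.left, ⟨v.1, v.2⟩, hs.denseRange, Over.w ρ⟩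

include D hJ hJn hνt hN in
/-- The pull back to the normalisation is smooth and surjective. -/
theorem pullback_smooth : Smooth νt.left ∧ Surjective νt.left := by
  have := (ker_smooth D hJ hJn hνt hN).1
  refine smooth_surjective νt j (fun t => ?_) hN
  obtain ⟨Z, z, h1, h2, h3, x, hx⟩ := exists_lift_J D hJn hνt Jn (𝟙 Jn) t
  exact ⟨Z, z, h1, h2, h3, x, hx.trans (Category.comp_id _)⟩

end main

/-! ### Unirational subgroups -/

section unir

variable {κ : Type u} [Field κ]

theorem isSeparated_of_grpObj (G : Over (Spec (CommRingCat.of κ))) [GrpObj G] : IsSeparated G.hom := by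
  rw [(S0346.result _ G).1]
  let e : Spec (CommRingCat.of κ) ⟶ G.left := η[G].left
  have he : e ≫ G.hom = 𝟙 _ := Over.w η[G]
  have h1 : IsClosedImmersion e := isClosedImmersion_of_comp_eq_id _ _ he
  exact h1

/-- A homomorphism from a smooth unirational group scheme to the Jacobian of a regular geometrically reduced curve is
trivial. -/
theorem eq_one_of_unirational {C : Scheme.{u}} (g : C ⟶ Spec (CommRingCat.of κ)) [IsProper g] [GeometricallyReduced g]
    (hC : Models.IsRegularScheme C) (J : Over (Spec (CommRingCat.of κ))) [GrpObj J]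
    (φ : ∀ T : Over (Spec (CommRingCat.of κ)), PicF.Cl (PicF.XT g T) → (T ⟶ J))
    (hP : AbDual.IsRelPicZeroK Scheme.fppfPrecoverage g J φ)
    (H : Over (Spec (CommRingCat.of κ))) [GrpObj H] [Smooth H.hom] (h : H ⟶ J) [IsMonHom h]
    (n : ℕ) (V : (AffineSpace (ULift.{u} (Fin n)) (Spec (CommRingCat.of κ))).Opens) (ψ : (V : Scheme.{u}) ⟶ H.left)
    (hV : (V : Set (AffineSpace (ULift.{u} (Fin n)) (Spec (CommRingCat.of κ)))).Nonempty) (hψ : DenseRange ψ.base)
    (hψH : ψ ≫ H.hom = V.ι ≫ (AffineSpace (ULift.{u} (Fin n)) (Spec (CommRingCat.of κ)) ↘ Spec (CommRingCat.of κ))) :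
    h = 1 := by
  let k := SeparableClosure κ
  have hψJ : (ψ ≫ h.left) ≫ J.hom =
      V.ι ≫ (AffineSpace (ULift.{u} (Fin n)) (Spec (CommRingCat.of κ)) ↘ Spec (CommRingCat.of κ)) := by
    rw [Category.assoc, Over.w h, hψH]
  obtain ⟨c, hc, hcV⟩ := Const.exists_const (k := k) g hC J φ hP (ULift.{u} (Fin n)) V hV (ψ ≫ h.left) hψJ
  set σ := Spec.map (CommRingCat.ofHom (algebraMap κ k)) with hσ
  set v := V.ι ≫ (AffineSpace (ULift.{u} (Fin n)) (Spec (CommRingCat.of κ)) ↘ Spec (CommRingCat.of κ)) with hv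
  let p := pullback.fst H.hom σ
  let r := pullback.snd H.hom σ
  have hred : IsReduced (pullback H.hom σ) := Pt.isReduced_of_smooth r
  have hsep : IsSeparated J.hom := isSeparated_of_grpObj J
  have hopen : UniversallyOpen σ := inferInstance
  have hop : UniversallyOpen p := inferInstance
  have hdom : IsDominant (pullback.snd ψ p) := by
    refine ⟨?_⟩
    rw [DenseRange, dense_iff_inter_open]
    rintro O hO ⟨o, ho⟩
    obtain ⟨_, ⟨o', ho', rfl⟩, w, hw⟩ := hψ.inter_open_nonempty _ (p.isOpenMap O hO) ⟨p o, o, ho, rfl⟩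
    obtain ⟨s, hs₁, hs₂⟩ := Scheme.Pullback.exists_preimage_pullback (f := ψ) (g := p) w o' hw
    exact ⟨o', ho', s, hs₂⟩
  have h1 : p ≫ h.left = r ≫ c := by
    refine ext_of_isDominant_of_isSeparated J.hom ?_ (pullback.snd ψ p) ?_
    · rw [Category.assoc, Over.w h, Category.assoc, hc]
      exact pullback.condition
    · have h2 : pullback.fst ψ p ≫ v = (pullback.snd ψ p ≫ r) ≫ σ := by
        rw [← hψH, pullback.condition_assoc, Category.assoc]
        exact congrArg _ pullback.condition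
      have h3 := congrArg (fun m => pullback.lift (pullback.fst ψ p) (pullback.snd ψ p ≫ r) h2 ≫ m) hcV
      simp only [pullback.lift_fst_assoc, pullback.lift_snd_assoc] at h3
      rw [← pullback.condition_assoc, h3, Category.assoc]
  have h2 : c = σ ≫ η[J].left := by
    let e : Spec (CommRingCat.of k) ⟶ pullback H.hom σ := pullback.lift (σ ≫ η[H].left) (𝟙 _) (by
      rw [Category.assoc, Over.w η[H], Category.id_comp]
      exact Category.comp_id _)
    have h3 : e ≫ p = σ ≫ η[H].left := pullback.lift_fst _ _ _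
    have h4 : e ≫ r = 𝟙 _ := pullback.lift_snd _ _ _
    have h5 := congrArg (fun m => e ≫ m) h1
    simp only [← Category.assoc, h3, h4, Category.id_comp] at h5
    rw [← h5, Category.assoc]
    exact congrArg (fun m => σ ≫ m.left) (IsMonHom.one_hom (f := h)).symm |>.symm
  have hep : Epi p := by
    have : Flat p := inferInstance
    have : Surjective p := inferInstance
    exact Flat.epi_of_flat_of_surjective p
  ext
  rw [← cancel_epi p, h1, h2, ← Category.assoc]
  have h6 : r ≫ σ = p ≫ H.hom := pullback.condition.symm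
  rw [h6, Category.assoc]
  rfl

end unir

end K488.KerSm
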