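import Groth.Agent.PicF.K247.PicZeroIso

/-!
# Morphisms between schemes representing `Pic⁰`
-/

set_option autoImplicit false
set_option backward.isDefEq.respectTransparency false

universe v u

open CategoryTheory CategoryTheory.Limits AlgebraicGeometry TopologicalSpace Opposite MonoidalCategory
  CartesianMonoidalCategory MonObj
open Groth.Agent Groth.Agent.Grpsch.PicGrp Groth.Agent.Fga.RigGrp K530.PicZero

namespace K488.PicZU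

open K732.Cov

variable {S : Scheme.{u}}

section one

variable {X : Scheme.{u}} {f : X ⟶ S} {P : Over S} {φ : ∀ T : Over S, PicF.Cl (PicF.XT f T) → (T ⟶ P)}
  (hP : AbDual.IsRelPicZeroK Scheme.fppfPrecoverage f P φ)

theorem FibZero.map {T T' : Over S} (g : T' ⟶ T) {c : Pic (PicF.XT f T)} (hc : FibZero (PicF.XTproj f T) c) :
    FibZero (PicF.XTproj f T') (pull (PicF.XTmap f g) c) := hc.pull _ _ (XTmap_XTproj f g)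

include hP

theorem nat₀ {T T' : Over S} (g : T' ⟶ T) {c : Pic (PicF.XT f T)} (hc : FibZero (PicF.XTproj f T) c) :
    φ T' (toCl (pull (PicF.XTmap f g) c)) = g ≫ φ T (toCl c) := by
  rw [toCl_pull, hP.natural _ _ g _ ((isPicZeroCl_toCl_iff f T c).2 hc)]

theorem exists_cover {T : Over S} (g : T ⟶ P) : ∃ 𝒰 : FCov T, ∀ i, ∃ c : Pic (PicF.XT f (𝒰.V i)),
    FibZero (PicF.XTproj f _) c ∧ φ _ (toCl c) = 𝒰.j i ≫ g := by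
  obtain ⟨𝒰, h⟩ := K247.PicZeroIso.exists_cov_cl₀ hP g
  refine ⟨𝒰, fun i => ?_⟩
  obtain ⟨c, hc, hφ⟩ := h i
  obtain ⟨d, rfl⟩ := exists_toCl_of_isPicZeroCl f hc
  exact ⟨d, (isPicZeroCl_toCl_iff f _ d).1 hc, hφ⟩

theorem exists_cover_eq {T : Over S} {c c' : Pic (PicF.XT f T)} (hc : FibZero (PicF.XTproj f T) c)
    (hc' : FibZero (PicF.XTproj f T) c') (h : φ T (toCl c) = φ T (toCl c')) :
    ∃ 𝒰 : FCov T, ∀ i, pull (PicF.XTmap f (𝒰.j i)) c = pull (PicF.XTmap f (𝒰.j i)) c' := by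
  obtain ⟨R, hR, h⟩ := hP.locallyInjective T _ _ ((isPicZeroCl_toCl_iff f T c).2 hc)
    ((isPicZeroCl_toCl_iff f T c').2 hc') h
  refine exists_cov hR (fun V v => pull (PicF.XTmap f v) c = pull (PicF.XTmap f v) c') fun U u hu => ?_
  have h1 := h u hu
  rw [← toCl_pull, ← toCl_pull] at h1
  exact toCl_injective h1

theorem hom_ext₀ {Y : Over S} {a b : P ⟶ Y} (h : ∀ (T : Over S) (c : Pic (PicF.XT f T)),
    FibZero (PicF.XTproj f T) c → φ T (toCl c) ≫ a = φ T (toCl c) ≫ b) : a = b := by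
  obtain ⟨𝒰, hU⟩ := exists_cover hP (𝟙 P)
  refine 𝒰.hom_ext fun i => ?_
  obtain ⟨c, hc, hφ⟩ := hU i
  rw [Category.comp_id] at hφ
  rw [← hφ]
  exact h _ c hc

end one

section two

variable {X₁ X₂ : Scheme.{u}} {f₁ : X₁ ⟶ S} {f₂ : X₂ ⟶ S} {P₁ P₂ : Over S}
  {φ₁ : ∀ T : Over S, PicF.Cl (PicF.XT f₁ T) → (T ⟶ P₁)} {φ₂ : ∀ T : Over S, PicF.Cl (PicF.XT f₂ T) → (T ⟶ P₂)}
  (hP₁ : AbDual.IsRelPicZeroK Scheme.fppfPrecoverage f₁ P₁ φ₁)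
  (hP₂ : AbDual.IsRelPicZeroK Scheme.fppfPrecoverage f₂ P₂ φ₂)
  (F : ∀ T : Over S, Pic (PicF.XT f₁ T) →* Pic (PicF.XT f₂ T))
  (hF : ∀ {T T' : Over S} (g : T' ⟶ T) (c : Pic (PicF.XT f₁ T)), F T' (pull (PicF.XTmap f₁ g) c) =
    pull (PicF.XTmap f₂ g) (F T c))
  (hF0 : ∀ (T : Over S) (c : Pic (PicF.XT f₁ T)), FibZero (PicF.XTproj f₁ T) c → FibZero (PicF.XTproj f₂ T) (F T c))

include hP₁ hP₂ hF hF0 in
theorem eq_of_eq {T : Over S} {c c' : Pic (PicF.XT f₁ T)} (hc : FibZero (PicF.XTproj f₁ T) c)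
    (hc' : FibZero (PicF.XTproj f₁ T) c') (h : φ₁ T (toCl c) = φ₁ T (toCl c')) :
    φ₂ T (toCl (F T c)) = φ₂ T (toCl (F T c')) := by
  obtain ⟨𝒰, hU⟩ := exists_cover_eq hP₁ hc hc' h
  refine 𝒰.hom_ext fun i => ?_
  rw [← nat₀ hP₂ _ (hF0 _ _ hc), ← nat₀ hP₂ _ (hF0 _ _ hc'), ← hF, ← hF, hU]

include hP₁ hP₂ hF hF0 in
/-- A natural homomorphism of `Pic⁰` classes induces a morphism of representing schemes. -/
theorem exists_hom : ∃ u : P₁ ⟶ P₂, ∀ (T : Over S) (c : Pic (PicF.XT f₁ T)), FibZero (PicF.XTproj f₁ T) c →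
    φ₁ T (toCl c) ≫ u = φ₂ T (toCl (F T c)) := by
  obtain ⟨𝒰, hU⟩ := exists_cover hP₁ (𝟙 P₁)
  choose c hc hφ using hU
  simp only [Category.comp_id] at hφ
  obtain ⟨u, hu⟩ := 𝒰.glue_hom (fun i => φ₂ _ (toCl (F _ (c i)))) (fun i k W a b hab => by
    rw [← nat₀ hP₂ a (hF0 _ _ (hc i)), ← nat₀ hP₂ b (hF0 _ _ (hc k)), ← hF, ← hF]
    refine eq_of_eq hP₁ hP₂ F hF hF0 (FibZero.map a (hc i)) (FibZero.map b (hc k)) ?_
    rw [nat₀ hP₁ a (hc i), nat₀ hP₁ b (hc k), hφ, hφ, hab])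
  refine ⟨u, fun T d hd => ?_⟩
  refine (pull 𝒰 (φ₁ T (toCl d))).hom_ext fun i => ?_
  have h1 := pull_w 𝒰 (φ₁ T (toCl d)) i
  rw [← Category.assoc, h1, Category.assoc, hu, ← nat₀ hP₂ _ (hF0 _ _ (hc i)), ← nat₀ hP₂ _ (hF0 _ _ hd), ← hF, ← hF]
  refine eq_of_eq hP₁ hP₂ F hF hF0 (FibZero.map _ (hc i)) (FibZero.map _ hd) ?_
  rw [nat₀ hP₁ _ (hc i), nat₀ hP₁ _ hd, hφ]
  exact h1.symm

end two

section mul

variable {X : Scheme.{u}} {f : X ⟶ S} {P : Over S} [GrpObj P] {φ : ∀ T : Over S, PicF.Cl (PicF.XT f T) → (T ⟶ P)}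
  (hP : AbDual.IsDualAV Scheme.fppfPrecoverage (Over.mk f) P φ)

include hP

theorem relPic : AbDual.IsRelPicZeroK Scheme.fppfPrecoverage f P φ := hP.relPic

theorem phi_mul {T : Over S} {c d : Pic (PicF.XT f T)} (hc : FibZero (PicF.XTproj f T) c)
    (hd : FibZero (PicF.XTproj f T) d) : φ T (toCl (c * d)) = φ T (toCl c) * φ T (toCl d) := by
  have hc' := (isPicZeroCl_toCl_iff f T c).2 hc
  have hd' := (isPicZeroCl_toCl_iff f T d).2 hd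
  obtain ⟨L, hL, rfl⟩ := exists_mk c
  obtain ⟨M, hM, rfl⟩ := exists_mk d
  exact hP.mul T L M hc' hd'

end mul

section hom

variable {X₁ X₂ : Scheme.{u}} {f₁ : X₁ ⟶ S} {f₂ : X₂ ⟶ S} {P₁ P₂ : Over S} [GrpObj P₁] [GrpObj P₂]
  {φ₁ : ∀ T : Over S, PicF.Cl (PicF.XT f₁ T) → (T ⟶ P₁)} {φ₂ : ∀ T : Over S, PicF.Cl (PicF.XT f₂ T) → (T ⟶ P₂)}
  (hP₁ : AbDual.IsDualAV Scheme.fppfPrecoverage (Over.mk f₁) P₁ φ₁)
  (hP₂ : AbDual.IsDualAV Scheme.fppfPrecoverage (Over.mk f₂) P₂ φ₂)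
  (F : ∀ T : Over S, Pic (PicF.XT f₁ T) →* Pic (PicF.XT f₂ T))
  (hF0 : ∀ (T : Over S) (c : Pic (PicF.XT f₁ T)), FibZero (PicF.XTproj f₁ T) c → FibZero (PicF.XTproj f₂ T) (F T c))

include hP₁ hP₂ hF0

theorem mul_comp_hom (u : P₁ ⟶ P₂) (hu : ∀ (T : Over S) (c : Pic (PicF.XT f₁ T)), FibZero (PicF.XTproj f₁ T) c →
    φ₁ T (toCl c) ≫ u = φ₂ T (toCl (F T c))) {T : Over S} (a b : T ⟶ P₁) : (a * b) ≫ u = (a ≫ u) * (b ≫ u) := by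
  obtain ⟨𝒰, hU⟩ := exists_cover (relPic hP₁) a
  refine 𝒰.hom_ext fun i => ?_
  obtain ⟨𝒱, hV⟩ := exists_cover (relPic hP₁) (𝒰.j i ≫ b)
  refine 𝒱.hom_ext fun k => ?_
  obtain ⟨c, hc, hφc⟩ := hU i
  obtain ⟨d, hd, hφd⟩ := hV k
  have hc' := FibZero.map (𝒱.j k) hc
  have h1 : 𝒱.j k ≫ 𝒰.j i ≫ a = φ₁ _ (toCl (Grpsch.PicGrp.pull (PicF.XTmap f₁ (𝒱.j k)) c)) := by
    rw [nat₀ (relPic hP₁) _ hc, hφc]
  have h2 : 𝒱.j k ≫ 𝒰.j i ≫ b = φ₁ _ (toCl d) := hφd.symm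
  have h3 : 𝒱.j k ≫ 𝒰.j i ≫ (a * b) ≫ u = (φ₁ _ (toCl (Grpsch.PicGrp.pull (PicF.XTmap f₁ (𝒱.j k)) c)) *
      φ₁ _ (toCl d)) ≫ u := by
    rw [← h1, ← h2, ← MonObj.comp_mul, ← MonObj.comp_mul]
    simp only [Category.assoc]
  have h4 : 𝒱.j k ≫ 𝒰.j i ≫ ((a ≫ u) * (b ≫ u)) = (φ₁ _ (toCl (Grpsch.PicGrp.pull (PicF.XTmap f₁ (𝒱.j k)) c)) ≫ u) *
      (φ₁ _ (toCl d) ≫ u) := by
    rw [← h1, ← h2, MonObj.comp_mul, MonObj.comp_mul]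
    simp only [Category.assoc]
  rw [h3, h4, ← phi_mul hP₁ hc' hd, hu _ _ (hc'.mul hd), hu _ _ hc', hu _ _ hd, map_mul,
    phi_mul hP₂ (hF0 _ _ hc') (hF0 _ _ hd)]

theorem isMonHom (u : P₁ ⟶ P₂) (hu : ∀ (T : Over S) (c : Pic (PicF.XT f₁ T)), FibZero (PicF.XTproj f₁ T) c →
    φ₁ T (toCl c) ≫ u = φ₂ T (toCl (F T c))) : IsMonHom u := by
  have hm : μ[P₁] ≫ u = (u ⊗ₘ u) ≫ μ[P₂] := by
    have h := mul_comp_hom hP₁ hP₂ F hF0 u hu (fst P₁ P₁) (snd P₁ P₁)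
    rw [Hom.mul_def, Hom.mul_def, lift_fst_snd, Category.id_comp] at h
    rw [h]
    congr 1
  refine ⟨?_, hm⟩
  have h := mul_comp_hom hP₁ hP₂ F hF0 u hu (1 : 𝟙_ (Over S) ⟶ P₁) 1
  rw [_root_.mul_one] at h
  have h' := left_eq_mul.1 h
  rw [one_eq_one, h', ← one_eq_one]

end hom

/-- Two schemes representing `Pic⁰` are isomorphic. -/
theorem exists_iso {X : Scheme.{u}} {f : X ⟶ S} {P₁ P₂ : Over S} {φ₁ : ∀ T : Over S, PicF.Cl (PicF.XT f T) → (T ⟶ P₁)}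
    {φ₂ : ∀ T : Over S, PicF.Cl (PicF.XT f T) → (T ⟶ P₂)}
    (hP₁ : AbDual.IsRelPicZeroK Scheme.fppfPrecoverage f P₁ φ₁)
    (hP₂ : AbDual.IsRelPicZeroK Scheme.fppfPrecoverage f P₂ φ₂) :
    ∃ e : P₁ ≅ P₂, ∀ (T : Over S) (c : Pic (PicF.XT f T)), FibZero (PicF.XTproj f T) c →
      φ₁ T (toCl c) ≫ e.hom = φ₂ T (toCl c) := by
  obtain ⟨u, hu⟩ := exists_hom hP₁ hP₂ (fun T => MonoidHom.id _) (fun _ _ => rfl) (fun _ _ h => h)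
  obtain ⟨v, hv⟩ := exists_hom hP₂ hP₁ (fun T => MonoidHom.id _) (fun _ _ => rfl) (fun _ _ h => h)
  simp only [MonoidHom.id_apply] at hu hv
  refine ⟨⟨u, v, hom_ext₀ hP₁ fun T c hc => ?_, hom_ext₀ hP₂ fun T c hc => ?_⟩, hu⟩
  · rw [← Category.assoc, hu _ _ hc, hv _ _ hc, Category.comp_id]
  · rw [← Category.assoc, hv _ _ hc, hu _ _ hc, Category.comp_id]

end K488.PicZU
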