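import Groth.Agent.Neron.K488.KerSm
import Groth.Agent.Neron.K488.PicZU
import Groth.Agent.Sga3B.KerGrp
import Mathlib.AlgebraicGeometry.Morphisms.FlatMono

/-!
# The pull back of `Pic⁰` to the normalisation; it is an isomorphism if there is no unirational subgroup
-/

set_option autoImplicit false
set_option backward.isDefEq.respectTransparency.types false

universe v u

open CategoryTheory CategoryTheory.Limits AlgebraicGeometry TopologicalSpace Opposite MonObj
open CartesianMonoidalCategory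
open SemiCartesianMonoidalCategory (toUnit toUnit_unique)
open Groth.Agent Groth.Agent.Grpsch.PicGrp Groth.Agent.Picfga.OverRep Groth.Agent.Pic13.H508.SqMT
open Groth.Agent.Fga.RigGrp (toCl toCl_injective toCl_pull)
open K530.PicZero (exists_toCl_of_isPicZeroCl isPicZeroCl_pullCl isPicZeroCl_toCl_iff FibZero)

namespace K488.NormIso

open NormKer

variable {κ : Type u} [Field κ]
variable {C Cn : Scheme.{u}} {g : C ⟶ (Spec (CommRingCat.of κ))} {ν : Cn ⟶ C}
  {J Jn : Over (Spec (CommRingCat.of κ))} [GrpObj J] [GrpObj Jn]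
  {φ : ∀ T : Over (Spec (CommRingCat.of κ)), PicF.Cl (PicF.XT g T) → (T ⟶ J)}
  {φn : ∀ T : Over (Spec (CommRingCat.of κ)), PicF.Cl (PicF.XT (ν ≫ g) T) → (T ⟶ Jn)}
  (hJ : AbDual.IsDualAV Scheme.fppfPrecoverage (Over.mk g) J φ)
  (hJn : AbDual.IsDualAV Scheme.fppfPrecoverage (Over.mk (ν ≫ g)) Jn φn)

theorem fibZero_pull {T : Over (Spec (CommRingCat.of κ))} {c : Pic (PicF.XT g T)}
    (h0 : FibZero (PicF.XTproj g T) c) : FibZero (PicF.XTproj (ν ≫ g) T) (pull (mT ν rfl T) c) := by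
  refine h0.pull _ (𝟙 _) ?_
  rw [Category.comp_id]
  exact mT_snd ν rfl T

include hJ hJn in
/-- The pull back along `ν` of `Pic⁰` classes is a homomorphism of group schemes. -/
theorem exists_transpose : ∃ νt : J ⟶ Jn, IsMonHom νt ∧
    AbDual.IsTranspose (Over.homMk ν rfl : Over.mk (ν ≫ g) ⟶ Over.mk g) φn φ νt := by
  have hF : ∀ {T T' : Over (Spec (CommRingCat.of κ))} (z : T' ⟶ T) (c : Pic (PicF.XT g T)),
      pull (mT ν rfl T') (pull (PicF.XTmap g z) c) = pull (PicF.XTmap (ν ≫ g) z) (pull (mT ν rfl T) c) := by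
    intro T T' z c
    rw [← pull_comp, mT_XTmap, pull_comp]
  obtain ⟨u, hu⟩ := PicZU.exists_hom (relPic hJ) (relPicn hJn) (fun T => pull (mT ν rfl T)) hF
    (fun T c h0 => fibZero_pull h0)
  refine ⟨u, PicZU.isMonHom hJ hJn (fun T => pull (mT ν rfl T)) (fun T c h0 => fibZero_pull h0) u hu, ?_⟩
  intro T c hc
  obtain ⟨c, rfl⟩ := exists_toCl_of_isPicZeroCl g hc
  have h1 := hu T c ((isPicZeroCl_toCl_iff g T c).1 hc)
  rw [← toCl_pull]
  exact h1.symm

variable {Y Y' : Scheme.{u}} {f₂ : Y ⟶ (Spec (CommRingCat.of κ))} {f₃ : Y' ⟶ (Spec (CommRingCat.of κ))}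
  {i : Y ⟶ C} {i' : Y' ⟶ Cn} {π' : Y' ⟶ Y} (D : Sq.Data g (ν ≫ g) f₂ f₃ ν i i' π')

theorem mono_of_isKernel {S : Scheme.{u}} {J Q N : Over S} [GrpObj J] [GrpObj Q] [GrpObj N] (q : J ⟶ Q) [IsMonHom q]
    (j : N ⟶ J) [IsMonHom j] (hN : AlgGrp.IsKernel j q) [IsIso N.hom] : Mono q := by
  refine ⟨fun {T} a b hab => ?_⟩
  obtain ⟨n, hn⟩ := KerSm.exists_ker q j hN (a * b⁻¹) (by
    rw [MonObj.mul_comp, GrpObj.inv_comp, hab, mul_inv_cancel])
  have h1 : n = 1 := by
    ext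
    rw [← cancel_mono N.hom]
    exact (Over.w n).trans (Over.w (1 : T ⟶ N)).symm
  rw [h1, MonObj.one_comp] at hn
  exact (mul_inv_eq_one.1 hn.symm)

include hJ hJn D in
theorem exists_iso
    (huni : ∀ (H : Over (Spec (CommRingCat.of κ))) [GrpObj H] (i : H ⟶ J) [IsMonHom i],
      IsClosedImmersion i.left → Smooth H.hom →
      (∃ (n : ℕ) (V : (AffineSpace (ULift.{u} (Fin n)) (Spec (CommRingCat.of κ))).Opens)
          (ψ : (V : Scheme.{u}) ⟶ H.left),
        (V : Set (AffineSpace (ULift.{u} (Fin n)) (Spec (CommRingCat.of κ)))).Nonempty ∧ DenseRange ψ.base ∧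
        ψ ≫ H.hom = V.ι ≫ (AffineSpace (ULift.{u} (Fin n)) (Spec (CommRingCat.of κ)) ↘ Spec (CommRingCat.of κ))) →
      IsIso H.hom) : ∃ e : J ≅ Jn, IsMonHom e.hom ∧
    AbDual.IsTranspose (Over.homMk ν rfl : Over.mk (ν ≫ g) ⟶ Over.mk g) φn φ e.hom := by
  obtain ⟨νt, hm, hνt⟩ := exists_transpose hJ hJn
  obtain ⟨hG, hι⟩ := Sga3B.KerGrp.exists_grpObj νt
  have hN : AlgGrp.IsKernel (Sga3B.KerGrp.kerι νt) νt := Sga3B.KerGrp.isPullback_ker νt
  have hsm := KerSm.ker_smooth D hJ hJn hνt hN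
  have hsep : IsSeparated Jn.hom := KerSm.isSeparated_of_grpObj Jn
  have hcl : IsClosedImmersion (Sga3B.KerGrp.kerι νt).left := inferInstance
  have hiso : IsIso (Sga3B.KerGrp.kerObj νt).hom := huni _ (Sga3B.KerGrp.kerι νt) hcl hsm.1 hsm.2.2
  have hmono : Mono νt := mono_of_isKernel νt (Sga3B.KerGrp.kerι νt) hN
  obtain ⟨h2, h3⟩ := KerSm.pullback_smooth D hJ hJn hνt hN
  have hml : Mono νt.left := inferInstance
  have hoi : IsOpenImmersion νt.left := IsOpenImmersion.of_flat_of_mono νt.left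
  have hil : IsIso νt.left := by
    have : Epi νt.left.base := (TopCat.epi_iff_surjective _).2 h3.surj
    exact IsOpenImmersion.isIso νt.left
  have hi : IsIso ((Over.forget _).map νt) := hil
  have hi' : IsIso νt := isIso_of_reflects_iso νt (Over.forget _)
  exact ⟨asIso νt, hm, hνt⟩

end K488.NormIso
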