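import Groth.Agent.Neron.K488.PicZM
import Groth.Agent.Neron.K488.NormIso
import Groth.Agent.Neron.K488.NormEx

/-!
# The Jacobian of a curve without unirational subgroups is the Jacobian of a regular curve
-/

set_option autoImplicit false
set_option backward.isDefEq.respectTransparency.types false

universe v u

open CategoryTheory CategoryTheory.Limits AlgebraicGeometry TopologicalSpace Opposite
open Groth.Agent

namespace K488.NormMain

variable {κ : Type u} [Field κ]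

/-- Existence of the normalisation of a proper geometrically reduced curve, its Jacobian and the pull back. -/
theorem exists_norm_jacobian {C : Scheme.{u}} (g : C ⟶ Spec (CommRingCat.of κ)) [IsProper g] [GeometricallyReduced g]
    (hdimC : ∀ W ∈ irreducibleComponents (C : Type u), topologicalKrullDim W = 1)
    (J : Over (Spec (CommRingCat.of κ))) [GrpObj J]
    (φ : ∀ T : Over (Spec (CommRingCat.of κ)), PicF.Cl (PicF.XT g T) → (T ⟶ J))
    (hJ : AbDual.IsDualAV Scheme.fppfPrecoverage (Over.mk g) J φ) :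
    ∃ (Cn : Scheme.{u}) (ν : Cn ⟶ C) (Jn : Over (Spec (CommRingCat.of κ))) (_ : GrpObj Jn) (_ : IsCommMonObj Jn)
      (φn : ∀ T : Over (Spec (CommRingCat.of κ)), PicF.Cl (PicF.XT (ν ≫ g) T) → (T ⟶ Jn)) (νt : J ⟶ Jn),
      IsFinite ν ∧ Pi1.IsNormalScheme Cn ∧
      (∃ U : C.Opens, Dense (U : Set C) ∧ Dense ((ν ⁻¹ᵁ U : Cn.Opens) : Set Cn) ∧ IsIso (ν ∣_ U)) ∧
      IsProper (ν ≫ g) ∧ GeometricallyReduced (ν ≫ g) ∧ (∀ x : Cn, IsRegularLocalRing (Cn.presheaf.stalk x)) ∧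
      (∀ W ∈ irreducibleComponents (Cn : Type u), topologicalKrullDim W = 1) ∧
      AbDual.IsDualAV Scheme.fppfPrecoverage (Over.mk (ν ≫ g)) Jn φn ∧ IsMonHom νt ∧
      AbDual.IsTranspose (Over.homMk ν rfl : Over.mk (ν ≫ g) ⟶ Over.mk g) φn φ νt := by
  obtain ⟨Cn, ν, h1, h2, h3, h4, h5, h6, h7⟩ := NormEx.exists_norm g hdimC
  obtain ⟨-, Jn, hg, hc, -, φn, -, -, -, -, -, -, -, -, h8⟩ := PicZ.exists_picZero (ν ≫ g)
  obtain ⟨νt, h9, h10⟩ := NormIso.exists_transpose hJ h8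
  exact ⟨Cn, ν, Jn, hg, hc, φn, νt, h1, h2, h3, h4, h5, h6, h7, h8, h9, h10⟩

/-- The Jacobian of a curve without unirational subgroups is the Jacobian of its normalisation. -/
theorem exists_regular {C : Scheme.{u}} (g : C ⟶ Spec (CommRingCat.of κ)) [IsProper g] [GeometricallyReduced g]
    (hdimC : ∀ W ∈ irreducibleComponents (C : Type u), topologicalKrullDim W = 1)
    (J : Over (Spec (CommRingCat.of κ))) [GrpObj J]
    (φ : ∀ T : Over (Spec (CommRingCat.of κ)), PicF.Cl (PicF.XT g T) → (T ⟶ J))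
    (hJ : AbDual.IsDualAV Scheme.fppfPrecoverage (Over.mk g) J φ)
    (huni : ∀ (H : Over (Spec (CommRingCat.of κ))) [GrpObj H] (i : H ⟶ J) [IsMonHom i],
      IsClosedImmersion i.left → Smooth H.hom →
      (∃ (n : ℕ) (V : (AffineSpace (ULift.{u} (Fin n)) (Spec (CommRingCat.of κ))).Opens)
          (ψ : (V : Scheme.{u}) ⟶ H.left),
        (V : Set (AffineSpace (ULift.{u} (Fin n)) (Spec (CommRingCat.of κ)))).Nonempty ∧ DenseRange ψ.base ∧
        ψ ≫ H.hom = V.ι ≫ (AffineSpace (ULift.{u} (Fin n)) (Spec (CommRingCat.of κ)) ↘ Spec (CommRingCat.of κ))) →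
      IsIso H.hom) :
    ∃ (Cn : Scheme.{u}) (gn : Cn ⟶ Spec (CommRingCat.of κ)) (Jn : Over (Spec (CommRingCat.of κ))) (_ : GrpObj Jn)
      (_ : IsCommMonObj Jn) (φn : ∀ T : Over (Spec (CommRingCat.of κ)), PicF.Cl (PicF.XT gn T) → (T ⟶ Jn)),
      IsProper gn ∧ GeometricallyReduced gn ∧ (∀ x : Cn, IsRegularLocalRing (Cn.presheaf.stalk x)) ∧
      (∀ W ∈ irreducibleComponents (Cn : Type u), topologicalKrullDim W = 1) ∧
      AbDual.IsDualAV Scheme.fppfPrecoverage (Over.mk gn) Jn φn ∧ Nonempty (J ≅ Jn) := by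
  obtain ⟨Cn, ν, h1, h2, ⟨U, hU, hU', hiso⟩, h4, h5, h6, h7⟩ := NormEx.exists_norm g hdimC
  obtain ⟨-, Jn, hg, hc, -, φn, -, -, -, -, -, -, -, -, h8⟩ := PicZ.exists_picZero (ν ≫ g)
  have hred : IsReduced C := GeometricallyReduced.isReduced_of_flat_of_isLocallyNoetherian g
  obtain ⟨Y, Y', i, i', π', D⟩ := K488.NormSq.exists_data g ν (K488.NormSq.dim_le hdimC) U hU hiso
  obtain ⟨e, -, -⟩ := NormIso.exists_iso hJ h8 D huni
  exact ⟨Cn, ν ≫ g, Jn, hg, hc, φn, h4, h5, h6, h7, h8, ⟨e⟩⟩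

end K488.NormMain
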