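import Groth.Agent.Neron.K488.AlgZero
import Groth.Agent.PicF.K247.PicZeroIso
import Groth.Agent.S2268

/-!
# The locus of the Picard scheme given by classes algebraically equivalent to zero

`(P, φ)` represents the fppf sheafified relative Picard functor of `f : X ⟶ Spec κ`.

* `mem_component` : the point of a `Pic⁰` class lies in the connected component of the origin;
* `fibZero_of_factor` : conversely.
-/

set_option autoImplicit false
set_option backward.isDefEq.respectTransparency false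

universe v u

open CategoryTheory CategoryTheory.Limits AlgebraicGeometry TopologicalSpace Opposite
open Groth.Agent Groth.Agent.Grpsch.PicGrp Groth.Agent.Fga.RigGrp
  Groth.Agent.Pic13.H138.AlgEquiv Groth.Agent.Pic13.H138.Slice K530.PicZero

namespace K488.PicZ

section conn

variable {Ω : Type u} [Field Ω] [IsAlgClosed Ω]

/-- A property of the rational points of a connected scheme over an algebraically closed field which is locally constant is
constant. -/
theorem forall_of_local {T : Scheme.{u}} (q : T ⟶ Spec (CommRingCat.of Ω)) [LocallyOfFiniteType q] [ConnectedSpace T]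
    (Q : (Spec (CommRingCat.of Ω) ⟶ T) → Prop)
    (loc : ∀ x : T, ∃ U : T.Opens, x ∈ U ∧ ∀ s s' : Spec (CommRingCat.of Ω) ⟶ T, s ≫ q = 𝟙 _ → s' ≫ q = 𝟙 _ →
      s (IsLocalRing.closedPoint Ω) ∈ U → s' (IsLocalRing.closedPoint Ω) ∈ U → Q s → Q s')
    (t₀ : Spec (CommRingCat.of Ω) ⟶ T) (ht₀ : t₀ ≫ q = 𝟙 _) (h₀ : Q t₀)
    (t : Spec (CommRingCat.of Ω) ⟶ T) (ht : t ≫ q = 𝟙 _) : Q t := by
  have hjac : JacobsonSpace T := LocallyOfFiniteType.jacobsonSpace q
  let pt : Spec (CommRingCat.of Ω) := IsLocalRing.closedPoint Ω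
  let A : Set T := {x | ∃ U : T.Opens, x ∈ U ∧ ∀ (s : Spec (CommRingCat.of Ω) ⟶ T), s ≫ q = 𝟙 _ → s pt ∈ U → Q s}
  let B : Set T := {x | ∃ U : T.Opens, x ∈ U ∧ ∀ (s : Spec (CommRingCat.of Ω) ⟶ T), s ≫ q = 𝟙 _ → s pt ∈ U → ¬ Q s}
  have hAo : IsOpen A := by
    rw [isOpen_iff_forall_mem_open]
    rintro x ⟨U, hxU, hU⟩
    exact ⟨U, fun y hy => ⟨U, hy, hU⟩, U.isOpen, hxU⟩
  have hBo : IsOpen B := by
    rw [isOpen_iff_forall_mem_open]
    rintro x ⟨U, hxU, hU⟩
    exact ⟨U, fun y hy => ⟨U, hy, hU⟩, U.isOpen, hxU⟩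
  have hex : ∀ U : T.Opens, (U : Set T).Nonempty → ∃ s : Spec (CommRingCat.of Ω) ⟶ T, s ≫ q = 𝟙 _ ∧ s pt ∈ U := by
    intro U hU
    obtain ⟨x, hxU, hx⟩ := nonempty_inter_closedPoints hU U.isOpen.isLocallyClosed
    refine ⟨pointOfClosedPoint q x hx, pointOfClosedPoint_comp q x hx, ?_⟩
    rw [pointOfClosedPoint_apply]
    exact hxU
  have hcov : ∀ x, x ∈ A ∨ x ∈ B := by
    intro x
    obtain ⟨U, hxU, hU⟩ := loc x
    obtain ⟨s, hs, hsU⟩ := hex U ⟨x, hxU⟩
    by_cases hP : Q s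
    · exact Or.inl ⟨U, hxU, fun s' hs' hs'U => hU s s' hs hs' hsU hs'U hP⟩
    · exact Or.inr ⟨U, hxU, fun s' hs' hs'U hP' => hP (hU s' s hs' hs hs'U hsU hP')⟩
  have hdis : ∀ x, x ∈ A → x ∈ B → False := by
    rintro x ⟨U, hxU, hU⟩ ⟨U', hxU', hU'⟩
    obtain ⟨s, hs, hsU⟩ := hex (U ⊓ U') ⟨x, hxU, hxU'⟩
    exact hU' s hs hsU.2 (hU s hs hsU.1)
  have hA : A = Set.univ := by
    have hBc : Aᶜ = B := by
      ext x
      exact ⟨fun h => (hcov x).resolve_left h, fun h h' => hdis x h' h⟩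
    have hcl : IsClopen A := ⟨by rw [← isOpen_compl_iff, hBc]; exact hBo, hAo⟩
    refine hcl.eq_univ ⟨t₀ pt, ?_⟩
    refine (hcov (t₀ pt)).resolve_right ?_
    rintro ⟨U, hU, h⟩
    exact h t₀ ht₀ hU h₀
  obtain ⟨U, hU, h⟩ : t pt ∈ A := by rw [hA]; trivial
  exact h t ht hU

/-- The slice `X ⟶ X ×_Ω T` at an `Ω`-point of `T`. -/
noncomputable def sl {X : Scheme.{u}} (f : X ⟶ Spec (CommRingCat.of Ω)) {T : Scheme.{u}}
    (q : T ⟶ Spec (CommRingCat.of Ω)) (t : Spec (CommRingCat.of Ω) ⟶ T) (ht : t ≫ q = 𝟙 _) :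
    X ⟶ PicF.XT f (Over.mk q) :=
  pullback.lift (𝟙 X) (f ≫ t) (by
    change 𝟙 X ≫ f = (f ≫ t) ≫ q
    rw [Category.assoc, ht, Category.id_comp, Category.comp_id])

theorem sl_fst {X : Scheme.{u}} (f : X ⟶ Spec (CommRingCat.of Ω)) {T : Scheme.{u}}
    (q : T ⟶ Spec (CommRingCat.of Ω)) (t : Spec (CommRingCat.of Ω) ⟶ T) (ht : t ≫ q = 𝟙 _) :
    sl f q t ht ≫ pullback.fst f (Over.mk q).hom = 𝟙 X := pullback.lift_fst _ _ _

theorem sl_proj {X : Scheme.{u}} (f : X ⟶ Spec (CommRingCat.of Ω)) {T : Scheme.{u}}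
    (q : T ⟶ Spec (CommRingCat.of Ω)) (t : Spec (CommRingCat.of Ω) ⟶ T) (ht : t ≫ q = 𝟙 _) :
    sl f q t ht ≫ PicF.XTproj f (Over.mk q) = f ≫ t := pullback.lift_snd _ _ _

theorem mem_alg0_iff' {X : Scheme.{u}} (f : X ⟶ Spec (CommRingCat.of Ω)) (c : Pic X) : c ∈ @alg0 Ω _ X ⟨f⟩ _ ↔
    ∃ (T : Scheme.{u}) (q : T ⟶ Spec (CommRingCat.of Ω)), ConnectedSpace T ∧ LocallyOfFiniteType q ∧
      QuasiCompact q ∧ ∃ (M : Pic (PicF.XT f (Over.mk q))) (t t₀ : Spec (CommRingCat.of Ω) ⟶ T)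
        (ht : t ≫ q = 𝟙 _) (ht₀ : t₀ ≫ q = 𝟙 _), pull (sl f q t ht) M = c ∧ pull (sl f q t₀ ht₀) M = 1 :=
  Iff.rfl

theorem algEq_iff' {X : Scheme.{u}} (f : X ⟶ Spec (CommRingCat.of Ω)) (c c₀ : Pic X) : @AlgEq Ω _ X ⟨f⟩ c c₀ ↔
    ∃ (T : Scheme.{u}) (q : T ⟶ Spec (CommRingCat.of Ω)), ConnectedSpace T ∧ LocallyOfFiniteType q ∧
      QuasiCompact q ∧ ∃ (M : Pic (PicF.XT f (Over.mk q))) (t t₀ : Spec (CommRingCat.of Ω) ⟶ T)
        (ht : t ≫ q = 𝟙 _) (ht₀ : t₀ ≫ q = 𝟙 _), pull (sl f q t ht) M = c ∧ pull (sl f q t₀ ht₀) M = c₀ :=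
  Iff.rfl

/-- A nonempty scheme locally of finite type over an algebraically closed field has a rational point. -/
theorem exists_point {X : Scheme.{u}} (f : X ⟶ Spec (CommRingCat.of Ω))
    [LocallyOfFiniteType f] [Nonempty X] : ∃ σ : Spec (CommRingCat.of Ω) ⟶ X, σ ≫ f = 𝟙 _ := by
  have : JacobsonSpace X := LocallyOfFiniteType.jacobsonSpace f
  obtain ⟨x, -, hx⟩ := nonempty_inter_closedPoints (Z := (Set.univ : Set X)) Set.univ_nonempty isClosed_univ.isLocallyClosed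
  exact ⟨pointOfClosedPoint f x hx, pointOfClosedPoint_comp f x hx⟩

/-- Lifting of rational points. -/
theorem exists_lift {V T : Scheme.{u}} (v : V ⟶ T) [LocallyOfFiniteType v] (s : Spec (CommRingCat.of Ω) ⟶ T)
    (h : s (IsLocalRing.closedPoint Ω) ∈ Set.range v) : ∃ s' : Spec (CommRingCat.of Ω) ⟶ V, s' ≫ v = s := by
  obtain ⟨w, hw⟩ := h
  obtain ⟨z, -, -⟩ := Scheme.Pullback.exists_preimage_pullback (f := s) (g := v) (IsLocalRing.closedPoint Ω) w hw.symm
  have : Nonempty ↥(pullback s v) := ⟨z⟩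
  obtain ⟨ρ, hρ⟩ := exists_point (pullback.fst s v)
  refine ⟨ρ ≫ pullback.snd s v, ?_⟩
  rw [Category.assoc, ← pullback.condition, ← Category.assoc, hρ, Category.id_comp]

/-- Connected quasi-compact neighbourhoods. -/
theorem exists_connected_nhd {U : Scheme.{u}} (q : U ⟶ Spec (CommRingCat.of Ω)) [LocallyOfFiniteType q] (x : U) :
    ∃ V : U.Opens, x ∈ V ∧ ConnectedSpace (V : Scheme.{u}) ∧ QuasiCompact (V.ι ≫ q) := by
  have hTn : IsLocallyNoetherian U := LocallyOfFiniteType.isLocallyNoetherian q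
  obtain ⟨W, hW, hxW, -⟩ := exists_isAffineOpen_mem_and_subset (x := x) (U := ⊤) trivial
  have : IsNoetherianRing Γ(U, W) := hTn.component_noetherian ⟨W, hW⟩
  have hWa : IsAffine (W : Scheme.{u}) := hW
  have hWn : IsNoetherian (W : Scheme.{u}) := {
    toIsLocallyNoetherian := inferInstance
    toCompactSpace := inferInstance }
  have hlc : LocallyConnectedSpace (W : Scheme.{u}) := Sga3C.LocConn.locallyConnectedSpace_of_isLocallyNoetherian _
  obtain ⟨V, -, hVo, hxV, hVc⟩ := locallyConnectedSpace_iff_subsets_isOpen_isConnected.1 hlc ⟨x, hxW⟩ Set.univ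
    Filter.univ_mem
  let V' : (W : Scheme.{u}).Opens := ⟨V, hVo⟩
  let V'' : U.Opens := W.ι ''ᵁ V'
  have e : (V' : Scheme.{u}) ≅ (V'' : Scheme.{u}) := W.ι.isoImage V'
  have hc : ConnectedSpace (V' : Scheme.{u}) := isConnected_iff_connectedSpace.1 hVc
  refine ⟨V'', ⟨⟨x, hxW⟩, hxV, rfl⟩, ?_, ?_⟩
  · exact (Scheme.homeoOfIso e).surjective.connectedSpace (Scheme.homeoOfIso e).continuous
  · have hcpt : CompactSpace (V' : Scheme.{u}) := isCompact_iff_compactSpace.1 (NoetherianSpace.isCompact V)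
    have : CompactSpace (V'' : Scheme.{u}) := (Scheme.homeoOfIso e).compactSpace
    exact inferInstance

end conn

/-- Every point is the image of a geometric point. -/
theorem exists_geomPt {T : Scheme.{u}} (x : T) : ∃ (Ω : Type u) (_ : Field Ω) (_ : IsAlgClosed Ω)
    (τ : Spec (CommRingCat.of Ω) ⟶ T), τ (IsLocalRing.closedPoint Ω) = x := by
  refine ⟨AlgebraicClosure (T.residueField x), inferInstance, inferInstance,
    Spec.map (CommRingCat.ofHom (algebraMap (T.residueField x) (AlgebraicClosure (T.residueField x)))) ≫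
      T.fromSpecResidueField x, ?_⟩
  rw [Scheme.Hom.comp_apply]
  exact Scheme.fromSpecResidueField_apply _ _

section main

variable {κ : Type u} [Field κ] {X : Scheme.{u}} {f : X ⟶ Spec (CommRingCat.of κ)}
  {P : Over (Spec (CommRingCat.of κ))}
  {φ : ∀ T : Over (Spec (CommRingCat.of κ)), PicF.Cl (PicF.XT f T) → (T ⟶ P)}
  (hP : AbDual.IsRelPicK Scheme.fppfPrecoverage f P φ)

include hP in
theorem phi_nat {T T' : Over (Spec (CommRingCat.of κ))} (g : T' ⟶ T) (c : Pic (PicF.XT f T)) :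
    φ T' (toCl (pull (PicF.XTmap f g) c)) = g ≫ φ T (toCl c) := by
  rw [toCl_pull, hP.natural _ _ g _ (isInvertibleCl_toCl _)]

variable (κ) in
/-- The base as a scheme over itself. -/
noncomputable abbrev I₀ : Over (Spec (CommRingCat.of κ)) := Over.mk (𝟙 _)

/-- The structure morphism. -/
noncomputable abbrev toI (T : Over (Spec (CommRingCat.of κ))) : T ⟶ I₀ κ := Over.homMk T.hom (Category.comp_id _)

include hP in
theorem phi_one_eq (T : Over (Spec (CommRingCat.of κ))) :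
    φ T (toCl (1 : Pic (PicF.XT f T))) = toI T ≫ φ (I₀ κ) (toCl 1) := by
  rw [← phi_nat hP, map_one]

include hP in
/-- The point of a `Pic⁰` class lies in the connected component of the origin. -/
theorem mem_component {T : Over (Spec (CommRingCat.of κ))} {c : Pic (PicF.XT f T)} (hc : FibZero (PicF.XTproj f T) c)
    (t : T.left) (pt : Spec (CommRingCat.of κ)) :
    (φ T (toCl c)).left t ∈ connectedComponent ((φ (I₀ κ) (toCl 1)).left pt) := by
  obtain ⟨Ω, _, _, τ, rfl⟩ := exists_geomPt t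
  let y : Spec (CommRingCat.of Ω) := IsLocalRing.closedPoint Ω
  let sZ : pullback (PicF.XTproj f T) τ ⟶ Spec (CommRingCat.of Ω) := pullback.snd _ _
  obtain ⟨T₁, q', h1, h2, h3, M, t₁, t₀, ht₁, ht₀, hM₁, hM₀⟩ := (mem_alg0_iff' sZ _).1 (hc Ω τ)
  let σ : Spec (CommRingCat.of Ω) ⟶ Spec (CommRingCat.of κ) := τ ≫ T.hom
  let R : Over (Spec (CommRingCat.of κ)) := Over.mk σ
  let T₁' : Over (Spec (CommRingCat.of κ)) := Over.mk (q' ≫ σ)
  let a : T₁' ⟶ T := Over.homMk (q' ≫ τ) (Category.assoc _ _ _)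
  let r : R ⟶ T := Over.homMk τ rfl
  let α : PicF.XT f R ⟶ pullback (PicF.XTproj f T) τ :=
    pullback.lift (PicF.XTmap f r) (PicF.XTproj f R) (XTmap_XTproj f r)
  let α₁ : PicF.XT f T₁' ⟶ pullback (PicF.XTproj f T) τ :=
    pullback.lift (PicF.XTmap f a) (PicF.XTproj f T₁' ≫ q') ((XTmap_XTproj f a).trans (Category.assoc _ _ _).symm)
  have hα₁ : α₁ ≫ sZ = PicF.XTproj f T₁' ≫ q' := pullback.lift_snd _ _ _
  let β : PicF.XT f T₁' ⟶ PicF.XT sZ (Over.mk q') := pullback.lift α₁ (PicF.XTproj f T₁') hα₁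
  let m := φ T₁' (toCl (pull β M))
  have key : ∀ (s : Spec (CommRingCat.of Ω) ⟶ T₁) (hs : s ≫ q' = 𝟙 _) (k : R ⟶ T₁') (hk : k.left = s),
      k ≫ m = φ R (toCl (pull α (pull (sl sZ q' s hs) M))) := by
    rintro s hs k rfl
    have h4 : PicF.XTmap f k ≫ β = α ≫ sl sZ q' k.left hs := by
      apply pullback.hom_ext
      · have e1 : β ≫ pullback.fst sZ (Over.mk q').hom = α₁ := pullback.lift_fst _ _ _
        rw [Category.assoc, Category.assoc, e1, sl_fst, Category.comp_id]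
        apply pullback.hom_ext
        · have e2 : α₁ ≫ pullback.fst _ _ = PicF.XTmap f a := pullback.lift_fst _ _ _
          have e3 : α ≫ pullback.fst _ _ = PicF.XTmap f r := pullback.lift_fst _ _ _
          rw [Category.assoc, e2, e3, ← XTmap_comp]
          congr 1
          ext
          change k.left ≫ q' ≫ τ = τ
          rw [← Category.assoc, hs]
          exact Category.id_comp _
        · have e2 : α ≫ pullback.snd _ _ = PicF.XTproj f R := pullback.lift_snd _ _ _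
          have e3 : α₁ ≫ pullback.snd (PicF.XTproj f T) τ = PicF.XTproj f T₁' ≫ q' := hα₁
          rw [Category.assoc, e3, e2, XTmap_XTproj_assoc, hs]
          exact Category.comp_id _
      · have e1 : β ≫ pullback.snd sZ (Over.mk q').hom = PicF.XTproj f T₁' := pullback.lift_snd _ _ _
        have e2 : sl sZ q' k.left hs ≫ pullback.snd sZ (Over.mk q').hom = sZ ≫ k.left := sl_proj sZ q' k.left hs
        rw [Category.assoc, Category.assoc, e1, e2, XTmap_XTproj]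
        have e3 : α ≫ sZ = PicF.XTproj f R := pullback.lift_snd _ _ _
        rw [← Category.assoc, e3]
    rw [← phi_nat hP, ← pull_comp, h4, pull_comp]
  let k₁ : R ⟶ T₁' := Over.homMk t₁ (by
    change t₁ ≫ q' ≫ σ = σ
    rw [← Category.assoc, ht₁, Category.id_comp])
  let k₀ : R ⟶ T₁' := Over.homMk t₀ (by
    change t₀ ≫ q' ≫ σ = σ
    rw [← Category.assoc, ht₀, Category.id_comp])
  have h5 := key t₁ ht₁ k₁ rfl
  have h6 := key t₀ ht₀ k₀ rfl
  rw [hM₁, ← pull_comp, pullback.lift_fst, phi_nat hP] at h5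
  rw [hM₀, map_one, phi_one_eq hP] at h6
  have h7 : m.left (t₁ y) = (φ T (toCl c)).left (τ y) := congrArg (fun z => z.left y) h5
  have h8 : m.left (t₀ y) = (φ (I₀ κ) (toCl 1)).left (σ y) := congrArg (fun z => z.left y) h6
  have h9 : pt = σ y := Subsingleton.elim _ _
  rw [h9, ← h8]
  change (φ T (toCl c)).left (τ y) ∈ _
  rw [← h7]
  have h10 : PreconnectedSpace ↥T₁'.left := inferInstanceAs (PreconnectedSpace T₁)
  exact (isPreconnected_range m.left.continuous).subset_connectedComponent ⟨_, rfl⟩ ⟨_, rfl⟩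

include hP in
/-- `φ` is injective over geometric points. -/
theorem phi_injective {Ω : Type u} [Field Ω] [IsAlgClosed Ω] (σ : Spec (CommRingCat.of Ω) ⟶ Spec (CommRingCat.of κ))
    {a b : Pic (PicF.XT f (Over.mk σ))} (h : φ (Over.mk σ) (toCl a) = φ (Over.mk σ) (toCl b)) : a = b := by
  obtain ⟨𝒰, hU⟩ := K247.PicZeroIso.exists_cov_eq hP (isInvertibleCl_toCl a) (isInvertibleCl_toCl b) h
  obtain ⟨i, y, hy⟩ := 𝒰.covers (IsLocalRing.closedPoint Ω : Spec (CommRingCat.of Ω))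
  obtain ⟨s, hs⟩ := exists_lift (𝒰.j i).left (𝟙 (Spec (CommRingCat.of Ω))) ⟨y, hy⟩
  have h2 := hU i
  rw [← toCl_pull, ← toCl_pull] at h2
  have h3 := toCl_injective h2
  let k : Over.mk σ ⟶ 𝒰.V i := Over.homMk s (by
    change s ≫ (𝒰.V i).hom = σ
    rw [← Over.w (𝒰.j i), ← Category.assoc, hs]
    exact Category.id_comp _)
  have hk : k ≫ 𝒰.j i = 𝟙 _ := Over.OverMorphism.ext hs
  have h4 := congrArg (pull (PicF.XTmap f k)) h3
  rw [← pull_comp, ← pull_comp, ← XTmap_comp, hk, XTmap_id, pull_id, pull_id] at h4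
  exact h4

include hP in
/-- Classes whose point lies in the neutral component are in `Pic⁰`. -/
theorem fibZero_of_factor {G : Over (Spec (CommRingCat.of κ))} (i : G ⟶ P) [LocallyOfFiniteType G.hom]
    (hG : GeometricallyConnected G.hom) (e : I₀ κ ⟶ G) (he : e ≫ i = φ (I₀ κ) (toCl 1))
    {T : Over (Spec (CommRingCat.of κ))} (c : Pic (PicF.XT f T)) (g : T ⟶ G) (hg : g ≫ i = φ T (toCl c)) :
    FibZero (PicF.XTproj f T) c := by
  intro Ω _ _ τ
  let pt : Spec (CommRingCat.of Ω) := IsLocalRing.closedPoint Ω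
  let σ : Spec (CommRingCat.of Ω) ⟶ Spec (CommRingCat.of κ) := τ ≫ T.hom
  let R : Over (Spec (CommRingCat.of κ)) := Over.mk σ
  let r : R ⟶ T := Over.homMk τ rfl
  let q : pullback G.hom σ ⟶ Spec (CommRingCat.of Ω) := pullback.snd _ _
  let p : pullback G.hom σ ⟶ G.left := pullback.fst _ _
  have hpq : p ≫ G.hom = q ≫ σ := pullback.condition
  have hcon : ConnectedSpace ↥(pullback G.hom σ) :=
    hG.geometrically_connectedSpace σ _ _ (IsPullback.of_hasPullback _ _)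
  let Q : (Spec (CommRingCat.of Ω) ⟶ pullback G.hom σ) → Prop := fun s =>
    ∀ d : Pic (PicF.XT f R), (φ R (toCl d)).left = s ≫ p ≫ i.left → d ∈ @alg0 Ω _ (PicF.XT f R) ⟨PicF.XTproj f R⟩ _
  -- local constancy
  have loc : ∀ x : ↥(pullback G.hom σ), ∃ U : (pullback G.hom σ).Opens, x ∈ U ∧
      ∀ s s' : Spec (CommRingCat.of Ω) ⟶ pullback G.hom σ, s ≫ q = 𝟙 _ → s' ≫ q = 𝟙 _ →
      s (IsLocalRing.closedPoint Ω) ∈ U → s' (IsLocalRing.closedPoint Ω) ∈ U → Q s → Q s' := by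
    intro x
    let G₁ : Over (Spec (CommRingCat.of κ)) := Over.mk (p ≫ G.hom)
    let i₁ : G₁ ⟶ P := Over.homMk (p ≫ i.left) (by
      change (p ≫ i.left) ≫ P.hom = p ≫ G.hom
      rw [Category.assoc, Over.w])
    obtain ⟨𝒰, hU⟩ := K247.PicZeroIso.exists_cov_cl hP i₁
    obtain ⟨l, y, hy⟩ := 𝒰.covers x
    obtain ⟨c₁, hc₁, hφ₁⟩ := hU l
    obtain ⟨c₁, rfl⟩ := exists_toCl hc₁
    let u : (𝒰.V l).left ⟶ pullback G.hom σ := (𝒰.j l).left
    have hu : u ≫ p ≫ G.hom = (𝒰.V l).hom := Over.w (𝒰.j l)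
    obtain ⟨V, hyV, hVc, hVq⟩ := exists_connected_nhd (u ≫ q) y
    let u' : (V : Scheme.{u}) ⟶ pullback G.hom σ := V.ι ≫ u
    refine ⟨⟨Set.range u', u'.isOpenMap.isOpen_range⟩, ⟨⟨y, hyV⟩, hy⟩, fun s s' hs hs' hsV hs'V hQ d hd => ?_⟩
    obtain ⟨v, hv⟩ := exists_lift u' s hsV
    obtain ⟨v', hv'⟩ := exists_lift u' s' hs'V
    let Vk : Over (Spec (CommRingCat.of κ)) := Over.mk ((V.ι ≫ u ≫ q) ≫ σ)
    let w : Vk ⟶ 𝒰.V l := Over.homMk V.ι (by
      change V.ι ≫ (𝒰.V l).hom = (V.ι ≫ u ≫ q) ≫ σ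
      rw [← hu, hpq]
      simp only [Category.assoc])
    let m := pull (PicF.XTmap f w) c₁
    have fib : ∀ (s : Spec (CommRingCat.of Ω) ⟶ pullback G.hom σ) (v : Spec (CommRingCat.of Ω) ⟶ (V : Scheme.{u}))
        (_ : v ≫ u' = s) (k : R ⟶ Vk) (_ : k.left = v), (φ R (toCl (pull (PicF.XTmap f k) m))).left = s ≫ p ≫ i.left := by
      rintro s v hvs k rfl
      rw [phi_nat hP, phi_nat hP, hφ₁]
      change k.left ≫ V.ι ≫ u ≫ p ≫ i.left = _
      rw [← hvs]
      simp only [u', Category.assoc]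
    have hvq : v ≫ (V.ι ≫ u ≫ q) = 𝟙 _ := by
      have : v ≫ (V.ι ≫ u ≫ q) = (v ≫ u') ≫ q := by simp only [u', Category.assoc]
      rw [this, hv, hs]
    have hvq' : v' ≫ (V.ι ≫ u ≫ q) = 𝟙 _ := by
      have : v' ≫ (V.ι ≫ u ≫ q) = (v' ≫ u') ≫ q := by simp only [u', Category.assoc]
      rw [this, hv', hs']
    let k : R ⟶ Vk := Over.homMk v (by
      change v ≫ (V.ι ≫ u ≫ q) ≫ σ = σ
      rw [← Category.assoc, hvq, Category.id_comp])
    let k' : R ⟶ Vk := Over.homMk v' (by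
      change v' ≫ (V.ι ≫ u ≫ q) ≫ σ = σ
      rw [← Category.assoc, hvq', Category.id_comp])
    have hk := fib s v hv k rfl
    have hk' := fib s' v' hv' k' rfl
    have hd' : d = pull (PicF.XTmap f k') m := phi_injective hP σ (by
      ext
      rw [hd, hk'])
    have h1 : pull (PicF.XTmap f k) m ∈ @alg0 Ω _ (PicF.XT f R) ⟨PicF.XTproj f R⟩ _ := hQ _ hk
    -- the comparison with the product over `Ω`
    let γ : PicF.XT (PicF.XTproj f R) (Over.mk (V.ι ≫ u ≫ q)) ⟶ PicF.XT f Vk :=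
      pullback.lift (pullback.fst _ _ ≫ pullback.fst f R.hom) (pullback.snd _ _) (by
        rw [Category.assoc, pullback.condition]
        change pullback.fst (PicF.XTproj f R) (V.ι ≫ u ≫ q) ≫ PicF.XTproj f R ≫ σ =
          pullback.snd (PicF.XTproj f R) (V.ι ≫ u ≫ q) ≫ (V.ι ≫ u ≫ q) ≫ σ
        rw [pullback.condition_assoc])
    have hγ : ∀ (v : Spec (CommRingCat.of Ω) ⟶ (V : Scheme.{u})) (hvq : v ≫ (V.ι ≫ u ≫ q) = 𝟙 _) (k : R ⟶ Vk)
        (_ : k.left = v), sl (PicF.XTproj f R) (V.ι ≫ u ≫ q) v hvq ≫ γ = PicF.XTmap f k := by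
      rintro v hvq k rfl
      apply pullback.hom_ext
      · have e1 : γ ≫ pullback.fst f Vk.hom = pullback.fst _ _ ≫ pullback.fst f R.hom := pullback.lift_fst _ _ _
        rw [Category.assoc, e1, ← Category.assoc, XTmap_fst]
        have e2 := sl_fst (PicF.XTproj f R) (V.ι ≫ u ≫ q) k.left hvq
        exact (congrArg (· ≫ pullback.fst f R.hom) e2).trans (Category.id_comp _)
      · have e1 : γ ≫ pullback.snd f Vk.hom = pullback.snd _ _ := pullback.lift_snd _ _ _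
        rw [Category.assoc, e1]
        exact (sl_proj (PicF.XTproj f R) (V.ι ≫ u ≫ q) k.left hvq).trans (XTmap_XTproj f k).symm
    have hA : @AlgEq Ω _ (PicF.XT f R) ⟨PicF.XTproj f R⟩ (pull (PicF.XTmap f k') m) (pull (PicF.XTmap f k) m) := by
      rw [algEq_iff']
      refine ⟨V, V.ι ≫ u ≫ q, hVc, inferInstance, hVq, pull γ m, v', v, hvq', hvq, ?_, ?_⟩
      · rw [← pull_comp, hγ v' hvq' k' rfl]
      · rw [← pull_comp, hγ v hvq k rfl]
    rw [hd']
    exact @AlgEq.trans Ω _ (PicF.XT f R) ⟨PicF.XTproj f R⟩ _ _ _ _ hA h1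
  -- the origin
  let t₀ : Spec (CommRingCat.of Ω) ⟶ pullback G.hom σ := pullback.lift (σ ≫ e.left) (𝟙 _) (by
    rw [Category.assoc, Over.w e, Category.id_comp]
    exact Category.comp_id _)
  have ht₀ : t₀ ≫ q = 𝟙 _ := pullback.lift_snd _ _ _
  have ht₀p : t₀ ≫ p = σ ≫ e.left := pullback.lift_fst _ _ _
  have h₀ : Q t₀ := by
    intro d hd
    have h1 : d = 1 := phi_injective hP σ (by
      ext
      rw [hd, phi_one_eq hP, ← he, ← Category.assoc, ht₀p]
      rfl)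
    rw [h1]
    exact one_mem _
  let t : Spec (CommRingCat.of Ω) ⟶ pullback G.hom σ := pullback.lift (τ ≫ g.left) (𝟙 _) (by
    rw [Category.assoc, Over.w g, Category.id_comp])
  have ht : t ≫ q = 𝟙 _ := pullback.lift_snd _ _ _
  have htp : t ≫ p = τ ≫ g.left := pullback.lift_fst _ _ _
  have h1 : pull (PicF.XTmap f r) c ∈ @alg0 Ω _ (PicF.XT f R) ⟨PicF.XTproj f R⟩ _ := by
    refine forall_of_local q Q loc t₀ ht₀ h₀ t ht _ ?_
    rw [phi_nat hP, ← hg]
    change τ ≫ g.left ≫ i.left = t ≫ p ≫ i.left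
    rw [← Category.assoc, ← Category.assoc, htp]
  -- transport
  let ε : pullback (PicF.XTproj f T) τ ⟶ PicF.XT f R := pullback.lift (pullback.fst _ _ ≫ pullback.fst f T.hom)
    (pullback.snd _ _) (by
      rw [Category.assoc, pullback.condition]
      change pullback.fst (PicF.XTproj f T) τ ≫ PicF.XTproj f T ≫ T.hom = _
      rw [pullback.condition_assoc]
      rfl)
  have h4 := @pull_mem_alg0 Ω _ (PicF.XT f R) ⟨PicF.XTproj f R⟩ _ (pullback (PicF.XTproj f T) τ)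
    (fibOver (PicF.XTproj f T) τ) ε (pullback.lift_snd _ _ _) _ h1
  replace h4 : pull (ε ≫ PicF.XTmap f r) c ∈ @alg0 Ω _ (pullback (PicF.XTproj f T) τ) (fibOver (PicF.XTproj f T) τ) _ := by
    rw [pull_comp]
    exact h4
  have h5 : ε ≫ PicF.XTmap f r = pullback.fst (PicF.XTproj f T) τ := by
    apply pullback.hom_ext
    · rw [Category.assoc, XTmap_fst]
      exact pullback.lift_fst _ _ _
    · have h6 : ε ≫ pullback.snd f σ = pullback.snd (PicF.XTproj f T) τ := pullback.lift_snd _ _ _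
      have h7 : ε ≫ pullback.snd f σ ≫ τ = pullback.snd (PicF.XTproj f T) τ ≫ τ := by
        rw [← Category.assoc, h6]
      rw [Category.assoc]
      exact (congrArg (ε ≫ ·) (XTmap_XTproj f r)).trans (h7.trans pullback.condition.symm)
  rwa [h5] at h4

end main

end K488.PicZ
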