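import Groth.Agent.Neron.K488.PicZ
import Groth.Agent.Pic13.H965.RelGrp
import Groth.Agent.FGA.K275.IdProper

/-!
# The neutral component of the Picard scheme represents `Pic⁰`
-/

set_option autoImplicit false
set_option backward.isDefEq.respectTransparency false

universe v u

open CategoryTheory CategoryTheory.Limits AlgebraicGeometry TopologicalSpace Opposite MonoidalCategory
  CartesianMonoidalCategory MonObj
open Groth.Agent Groth.Agent.Grpsch.PicGrp Groth.Agent.Fga.RigGrp K530.PicZero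
open Groth.Agent.Pic13.H965.RelGrp (cm exists_grpObj)

namespace K488.PicZ

theorem mem_fppf {T : Scheme.{u}} {J : Type u} {U : J → T.Etale} (hU : EtCoh.Covers U) :
    Presieve.ofArrows (fun i => (U i).left) (fun i => (U i).hom) ∈ Scheme.fppfPrecoverage T := by
  rw [Scheme.fppfPrecoverage, Scheme.ofArrows_mem_precoverage_iff]
  refine ⟨fun t => hU t, fun i => ?_⟩
  have : Etale (U i).hom := (U i).prop
  exact ⟨inferInstance, inferInstance⟩

/-- The étale Picard scheme represents the fppf sheafification. -/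
theorem isRelPicK {X S : Scheme.{u}} {f : X ⟶ S} {P : Over S}
    {φ : ∀ T : Over S, PicF.Cl (PicF.XT f T) → (T ⟶ P)} (h : PicRel.IsRelPic f P φ) :
    AbDual.IsRelPicK Scheme.fppfPrecoverage f P φ where
  natural := h.natural
  locallySurjective T g := by
    obtain ⟨_, U, hU, hs⟩ := h.locallySurjective T g
    refine ⟨_, mem_fppf hU, ?_⟩
    rintro _ _ ⟨i⟩
    exact hs i
  locallyInjective T c c' hc hc' e := by
    obtain ⟨_, U, hU, hs⟩ := h.locallyInjective T c c' hc hc' e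
    refine ⟨_, mem_fppf hU, ?_⟩
    rintro _ _ ⟨i⟩
    exact hs i

theorem geometricallyConnected_of_irreducible {X Y : Scheme.{u}} (f : X ⟶ Y) [GeometricallyIrreducible f] :
    GeometricallyConnected f := by
  refine ⟨fun K _ y Z fst snd h => ?_⟩
  have : IrreducibleSpace Z := GeometricallyIrreducible.geometrically_irreducibleSpace y fst snd h
  infer_instance

theorem exists_fibZero {X S : Scheme.{u}} {f : X ⟶ S} {T : Over S} {c : PicF.Cl (PicF.XT f T)}
    (h : AbDual.IsPicZeroCl f T c) : ∃ d : Pic (PicF.XT f T), toCl d = c ∧ FibZero (PicF.XTproj f T) d := by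
  obtain ⟨d, rfl⟩ := exists_toCl_of_isPicZeroCl f h
  exact ⟨d, rfl, (isPicZeroCl_toCl_iff f T d).1 h⟩

theorem isInvertible_of_isPicZeroCl {X S : Scheme.{u}} {f : X ⟶ S} {T : Over S} {L : (PicF.XT f T).Modules}
    (h : AbDual.IsPicZeroCl f T (PicF.cl L)) : PicF.IsInvertible L := by
  obtain ⟨L', h5, h6, -⟩ := h
  obtain ⟨e⟩ := (cl_eq_iff _ _).1 h5
  exact Groth.Agent.Pic13.H138.AlgEquiv.isInvertible_of_iso e h6

variable {κ : Type u} [Field κ] {X : Scheme.{u}} {f : X ⟶ Spec (CommRingCat.of κ)}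
  {P : Over (Spec (CommRingCat.of κ))}
  {φ : ∀ T : Over (Spec (CommRingCat.of κ)), PicF.Cl (PicF.XT f T) → (T ⟶ P)}

/-- **The neutral component of the Picard scheme represents `Pic⁰`.** -/
theorem exists_zero (hE : PicRel.IsRelPic f P φ) [LocallyOfFiniteType P.hom] :
    ∃ (J : Over (Spec (CommRingCat.of κ))) (_ : GrpObj J) (_ : IsCommMonObj J) (i : J ⟶ P)
      (φ₀ : ∀ T : Over (Spec (CommRingCat.of κ)), PicF.Cl (PicF.XT f T) → (T ⟶ J)),
      IsOpenImmersion i.left ∧ IsClosedImmersion i.left ∧ LocallyOfFiniteType J.hom ∧ QuasiCompact J.hom ∧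
      GeometricallyIrreducible J.hom ∧ AbDual.IsDualAV Scheme.fppfPrecoverage (Over.mk f) J φ₀ ∧
      ∀ (T : Over (Spec (CommRingCat.of κ))) (c : PicF.Cl (PicF.XT f T)), AbDual.IsPicZeroCl f T c →
        φ₀ T c ≫ i = φ T c := by
  classical
  have hP := isRelPicK hE
  obtain ⟨hG, hmul, hone, hcomm⟩ := exists_grpObj hE
  obtain ⟨J, hJ, i, hi, hic, hio, hlft, hqc, hconn, hgi, hr⟩ := K275.IdProper.exists_idComp κ P
  have hmono : Mono i := Over.mono_of_mono_left i
  have hgc : GeometricallyConnected J.hom := geometricallyConnected_of_irreducible J.hom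
  have he : φ (I₀ κ) (toCl 1) = η[P] := (hone (I₀ κ)).trans (one_eq_one P).symm
  have he' : (η[J] : I₀ κ ⟶ J) ≫ i = φ (I₀ κ) (toCl 1) := (IsMonHom.one_hom (f := i)).trans he.symm
  -- `Pic⁰` classes factor
  have hfac : ∀ (T : Over (Spec (CommRingCat.of κ))) (c : PicF.Cl (PicF.XT f T)), AbDual.IsPicZeroCl f T c →
      ∃ l : T ⟶ J, l ≫ i = φ T c := by
    intro T c hc
    obtain ⟨d, rfl, hd⟩ := exists_fibZero hc
    have h4 : Set.range (φ T (toCl d)).left ⊆ Set.range i.left := by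
      rintro _ ⟨t, rfl⟩
      have h5 := mem_component hP hd t (IsLocalRing.closedPoint κ : Spec (CommRingCat.of κ))
      rw [he] at h5
      have h6 := hr (IsLocalRing.closedPoint κ : Spec (CommRingCat.of κ))
      exact (Set.ext_iff.1 h6 _).2 h5
    refine ⟨Over.homMk (IsOpenImmersion.lift i.left (φ T (toCl d)).left h4) ?_, ?_⟩
    · rw [← Over.w i, IsOpenImmersion.lift_fac_assoc, Over.w]
    · ext
      exact IsOpenImmersion.lift_fac _ _ _
  let φ₀ : ∀ T : Over (Spec (CommRingCat.of κ)), PicF.Cl (PicF.XT f T) → (T ⟶ J) := fun T c =>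
    if h : ∃ l : T ⟶ J, l ≫ i = φ T c then h.choose else 1
  have hφ₀ : ∀ (T : Over (Spec (CommRingCat.of κ))) (c : PicF.Cl (PicF.XT f T)), AbDual.IsPicZeroCl f T c →
      φ₀ T c ≫ i = φ T c := by
    intro T c hc
    have h := hfac T c hc
    simp only [φ₀, dif_pos h]
    exact h.choose_spec
  refine ⟨J, hJ, ⟨?_⟩, i, φ₀, hio, hic, hlft, hqc, hgi, ⟨⟨?_, ?_, ?_⟩, ?_⟩, hφ₀⟩
  · rw [← cancel_mono i, Category.assoc, IsMonHom.mul_hom, ← Category.assoc,
      ← BraidedCategory.braiding_naturality, Category.assoc, IsCommMonObj.mul_comm]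
  · intro T T' g c hc
    have hc' : AbDual.IsPicZeroCl f T' (PicF.pullCl (PicF.XTmap f g) c) := isPicZeroCl_pullCl f g hc
    rw [← cancel_mono i]
    exact (hφ₀ _ _ hc').trans ((hP.natural _ _ g c (K247.PicZeroIso.isInvertibleCl_of_isPicZeroCl hc)).trans
      ((congrArg (g ≫ ·) (hφ₀ _ _ hc).symm).trans (Category.assoc _ _ _).symm))
  · intro T g
    obtain ⟨R, hR, h⟩ := hP.locallySurjective T (g ≫ i)
    refine ⟨R, hR, fun U u hu => ?_⟩
    obtain ⟨c, hc, hφc⟩ := h u hu
    obtain ⟨d, rfl⟩ := exists_toCl hc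
    have h0 : AbDual.IsPicZeroCl f (AbDual.ovr T u) (toCl d) :=
      (isPicZeroCl_toCl_iff f _ d).2 (fibZero_of_factor hP i hgc η[J] he' d (AbDual.ovrHom T u ≫ g)
        ((Category.assoc _ _ _).trans hφc.symm))
    refine ⟨toCl d, h0, ?_⟩
    rw [← cancel_mono i]
    exact (hφ₀ _ _ h0).trans (hφc.trans (Category.assoc _ _ _).symm)
  · intro T c c' hc hc' h
    refine hP.locallyInjective T c c' (K247.PicZeroIso.isInvertibleCl_of_isPicZeroCl hc)
      (K247.PicZeroIso.isInvertibleCl_of_isPicZeroCl hc') ?_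
    exact (hφ₀ _ _ hc).symm.trans ((congrArg (· ≫ i) h).trans (hφ₀ _ _ hc'))
  · intro T L M hL hM
    have hLi : PicF.IsInvertible L := isInvertible_of_isPicZeroCl hL
    have hMi : PicF.IsInvertible M := isInvertible_of_isPicZeroCl hM
    have hL0 := (isPicZeroCl_toCl_iff f T (Grpsch.PicGrp.mk L hLi)).1 hL
    have hM0 := (isPicZeroCl_toCl_iff f T (Grpsch.PicGrp.mk M hMi)).1 hM
    have hLM : AbDual.IsPicZeroCl f T (toCl (Grpsch.PicGrp.mk L hLi * Grpsch.PicGrp.mk M hMi)) :=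
      (isPicZeroCl_toCl_iff f T _).2 (hL0.mul hM0)
    rw [← cancel_mono i, MonObj.mul_comp]
    have h1 : φ T (toCl (Grpsch.PicGrp.mk L hLi * Grpsch.PicGrp.mk M hMi)) = φ T (PicF.cl L) * φ T (PicF.cl M) := hmul T (Grpsch.PicGrp.mk L hLi) (Grpsch.PicGrp.mk M hMi)
    exact (hφ₀ T _ hLM).trans (h1.trans (congrArg₂ (· * ·) (hφ₀ T _ hL).symm (hφ₀ T _ hM).symm))

end K488.PicZ
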