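import Groth.Agent.Neron.K488.PicZE
import Groth.Agent.Neron.K488.PicZU
import Groth.Agent.Neron.K488.KerSm
import Groth.Agent.S4289
import Groth.Agent.S5687
import Groth.Agent.S0458

/-!
# Existence, uniqueness and smoothness of `Pic⁰` of a proper scheme over a field
-/

set_option autoImplicit false
set_option backward.isDefEq.respectTransparency.types false

universe v u

open CategoryTheory CategoryTheory.Limits AlgebraicGeometry TopologicalSpace Opposite MonoidalCategory
  CartesianMonoidalCategory MonObj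
open Groth.Agent Groth.Agent.Grpsch.PicGrp Groth.Agent.Fga.RigGrp K530.PicZero

namespace K488.PicZ

variable {κ : Type u} [Field κ]

/-- The second cohomology of the structure sheaf of the fibres of a curve vanishes. -/
theorem subsingleton_HH_two {X : Scheme.{u}} (f : X ⟶ Spec (CommRingCat.of κ)) [IsProper f]
    (hdim : topologicalKrullDim X ≤ 1) (s : Spec (CommRingCat.of κ)) :
    Subsingleton (Coh.HH (pullback f ((Spec (CommRingCat.of κ)).fromSpecResidueField s)) (Coh.structureModule _) 2) := by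
  let Z := pullback f ((Spec (CommRingCat.of κ)).fromSpecResidueField s)
  have h1 : IsLocallyNoetherian Z := LocallyOfFiniteType.isLocallyNoetherian
    (pullback.snd f ((Spec (CommRingCat.of κ)).fromSpecResidueField s))
  have h2 : CompactSpace Z := QuasiCompact.compactSpace_of_compactSpace
    (pullback.snd f ((Spec (CommRingCat.of κ)).fromSpecResidueField s))
  have h3 : IsNoetherian Z := {}
  have h4 : IsPreimmersion (pullback.fst f ((Spec (CommRingCat.of κ)).fromSpecResidueField s)) := inferInstance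
  have h5 : topologicalKrullDim Z ≤ 1 :=
    (Topology.IsInducing.topologicalKrullDim_le
      (pullback.fst f ((Spec (CommRingCat.of κ)).fromSpecResidueField s)).isEmbedding.toIsInducing).trans hdim
  have : NoetherianSpace (Z.toTopCat) := inferInstanceAs (NoetherianSpace Z)
  exact S0458.result (X := Z.toTopCat) 1 (by exact_mod_cast h5) (Coh.toAb (Coh.structureModule Z)) 2 (by decide)

/-- The Picard scheme of a proper scheme of dimension at most one over a field is smooth. -/
theorem smooth_pic {X : Scheme.{u}} (f : X ⟶ Spec (CommRingCat.of κ)) [IsProper f]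
    (hdim : topologicalKrullDim X ≤ 1) (P : Over (Spec (CommRingCat.of κ))) [LocallyOfFiniteType P.hom]
    (hP : PicRel.RepresentedBy f P) : Smooth P.hom := by
  have hfl : Flat f := inferInstance
  obtain ⟨U, hU, hsm⟩ := S5687.result f P hP (IsLocalRing.closedPoint κ : Spec (CommRingCat.of κ))
    (subsingleton_HH_two f hdim _)
  have h1 : P.hom ⁻¹ᵁ U = ⊤ := by
    rw [eq_top_iff]
    intro x _
    change P.hom x ∈ U
    rwa [Subsingleton.elim (P.hom x) (IsLocalRing.closedPoint κ : Spec (CommRingCat.of κ))]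
  rw [h1] at hsm
  have h2 : (⊤ : P.left.Opens).ι ≫ P.hom = (Scheme.topIso P.left).hom ≫ P.hom := rfl
  rw [h2] at hsm
  exact (MorphismProperty.cancel_left_of_respectsIso (P := @Smooth.{u}) (Scheme.topIso P.left).hom P.hom).1 hsm

/-- **Existence of `Pic⁰`** of a proper scheme over a field. -/
theorem exists_picZero {X : Scheme.{u}} (f : X ⟶ Spec (CommRingCat.of κ)) [IsProper f] :
    ∃ (P J : Over (Spec (CommRingCat.of κ))) (_ : GrpObj J) (_ : IsCommMonObj J) (i : J ⟶ P)
      (φ : ∀ T : Over (Spec (CommRingCat.of κ)), PicF.Cl (PicF.XT f T) → (T ⟶ J)),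
      PicRel.RepresentedBy f P ∧ IsSeparated P.hom ∧ LocallyOfFiniteType P.hom ∧
      IsOpenImmersion i.left ∧ IsClosedImmersion i.left ∧ LocallyOfFiniteType J.hom ∧ QuasiCompact J.hom ∧
      GeometricallyIrreducible J.hom ∧ AbDual.IsDualAV Scheme.fppfPrecoverage (Over.mk f) J φ := by
  let _ : X.Over (Spec (CommRingCat.of κ)) := ⟨f⟩
  have : IsProper (X ↘ Spec (CommRingCat.of κ)) := inferInstanceAs (IsProper f)
  obtain ⟨P, hP, hsep, hlft⟩ := S4289.result κ X
  obtain ⟨φ, hφ⟩ := hP
  obtain ⟨J, hJ, hJc, i, φ₀, h1, h2, h3, h4, h5, h6, -⟩ := exists_zero (f := f) hφ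
  exact ⟨P, J, hJ, hJc, i, φ₀, ⟨φ, hφ⟩, hsep, hlft, h1, h2, h3, h4, h5, h6⟩

/-- Every scheme representing `Pic⁰` is the neutral component of the Picard scheme. -/
theorem exists_pic_of_isRelPicZeroK {X : Scheme.{u}} (f : X ⟶ Spec (CommRingCat.of κ)) [IsProper f]
    {J : Over (Spec (CommRingCat.of κ))}
    {φ : ∀ T : Over (Spec (CommRingCat.of κ)), PicF.Cl (PicF.XT f T) → (T ⟶ J)}
    (hJ : AbDual.IsRelPicZeroK Scheme.fppfPrecoverage f J φ) :
    ∃ (P : Over (Spec (CommRingCat.of κ))) (i : J ⟶ P),
      PicRel.RepresentedBy f P ∧ IsSeparated P.hom ∧ LocallyOfFiniteType P.hom ∧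
      IsOpenImmersion i.left ∧ IsClosedImmersion i.left ∧ LocallyOfFiniteType J.hom ∧ QuasiCompact J.hom ∧
      GeometricallyIrreducible J.hom ∧ IsSeparated J.hom := by
  obtain ⟨P, J', hg, hc, i, φ', h0, h1, h2, h3, h4, h5, h6, h7, h8⟩ := exists_picZero f
  obtain ⟨e, -⟩ := PicZU.exists_iso hJ h8.relPic
  have he : IsIso e.hom.left := inferInstanceAs (IsIso ((Over.forget _).map e.hom))
  have hw : e.hom.left ≫ J'.hom = J.hom := Over.w e.hom
  refine ⟨P, e.hom ≫ i, h0, h1, h2, ?_, ?_, ?_, ?_, ?_, ?_⟩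
  · rw [Over.comp_left]
    infer_instance
  · rw [Over.comp_left]
    infer_instance
  · rw [← hw]
    infer_instance
  · rw [← hw]
    infer_instance
  · rw [← hw]
    exact (MorphismProperty.cancel_left_of_respectsIso (P := @GeometricallyIrreducible.{u}) e.hom.left J'.hom).2 h7
  · have hs : IsSeparated J'.hom := KerSm.isSeparated_of_grpObj J'
    rw [← hw]
    infer_instance

/-- `Pic⁰` of a proper scheme of dimension at most one over a field is smooth. -/
theorem smooth_of_dim_le_one {X : Scheme.{u}} (f : X ⟶ Spec (CommRingCat.of κ)) [IsProper f]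
    (hdim : topologicalKrullDim X ≤ 1) {J : Over (Spec (CommRingCat.of κ))}
    {φ : ∀ T : Over (Spec (CommRingCat.of κ)), PicF.Cl (PicF.XT f T) → (T ⟶ J)}
    (hJ : AbDual.IsRelPicZeroK Scheme.fppfPrecoverage f J φ) : Smooth J.hom := by
  obtain ⟨P, i, h0, h1, h2, h3, h4, h5, h6, h7, h8⟩ := exists_pic_of_isRelPicZeroK f hJ
  have h9 : Smooth P.hom := smooth_pic f hdim P h0
  rw [← Over.w i]
  infer_instance

end K488.PicZ
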