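import Groth.Agent.Neron.K131.Asm
import Groth.Agent.Neron.K131.SHBdd
import Groth.Agent.Neron.K531.PD
import Groth.Agent.Neron.K531.PG
import Groth.Agent.Neron.K488.JS
import Groth.Agent.Neron.K488.NormSq

/-!
# The Néron model of `Pic⁰` of a regular curve (assembly of the team's parts)
-/

set_option autoImplicit false

universe u

open CategoryTheory AlgebraicGeometry

namespace K488.Reg52

theorem main
    {S : Scheme.{u}} [IsIntegral S] [IsNoetherian S] [S.IsSeparated]
    (hreg : ∀ s : S, IsRegularLocalRing (S.presheaf.stalk s)) (hdimS : topologicalKrullDim S = 1)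
    (hexc : ∀ U : S.affineOpens, EGA4.IsExcellent Γ(S, U))
    {C : Scheme.{u}} (g : C ⟶ Spec (CommRingCat.of S.functionField)) [IsProper g] [GeometricallyReduced g]
    (hC : ∀ x : C, IsRegularLocalRing (C.presheaf.stalk x))
    (hdimC : ∀ W ∈ irreducibleComponents (C : Type u), topologicalKrullDim W = 1)
    (J : Over (Spec (CommRingCat.of S.functionField))) [GrpObj J] [IsCommMonObj J]
    (φ : ∀ T : Over (Spec (CommRingCat.of S.functionField)), PicF.Cl (PicF.XT g T) → (T ⟶ J))
    (hJ : AbDual.IsRelPicZeroK Scheme.fppfPrecoverage g J φ) :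
    ∃ (N : Over S) (e : (Over.pullback (S.fromSpecStalk (genericPoint S))).obj N ≅ J),
      Smooth N.hom ∧ IsSeparated N.hom ∧ QuasiCompact N.hom ∧
      ∀ Y : Over S, Smooth Y.hom →
        Function.Bijective (fun h : Y ⟶ N => (Over.pullback (S.fromSpecStalk (genericPoint S))).map h ≫ e.hom) := by
  obtain ⟨h1, h2, h3, h4⟩ := K488.JS.picZero_props g (K488.NormSq.dim_le hdimC) J φ hJ
  obtain ⟨L, _, _, hfd, hsep, n, Z, c, hc, W, h, hw, hmem, hsurj⟩ := K531.PD.main g hC hdimC J φ hJ
  let D : K131.ParData.Par J.hom := K131.SHBdd.ofOver J.hom L c W h hw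
    (fun F _ _ _ z hz => by
      rintro _ ⟨p, rfl⟩
      exact hmem F z hz p)
    (fun F _ _ _ _ _ y hy => by
      obtain ⟨z, hz1, hz2⟩ := hsurj F y (by
        rw [hy, ← Spec.map_comp, ← CommRingCat.ofHom_comp, ← IsScalarTower.algebraMap_eq])
      exact ⟨z, hz2, hz1⟩)
  exact K131.Asm.exists_neron hreg hdimS hexc J D fun G γ _ _ _ κ hκ e he =>
    K531.PG.main hreg hdimS hexc g hC hdimC J φ hJ γ κ hκ e he

end K488.Reg52
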