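import Groth.Agent.Pic13.H520.RigCls

/-!
# Classes rigidified along a section: gluing and separatedness for fpqc coverings

`f : X ⟶ S` with a section `σ`, such that `Γ(X_T) → Γ(S_T)` is injective for all `T` (`Rig.Inj f σ`): the fpqc versions
of `Pic13.H520.RigCls.eq_of_cover` and `exists_glue`.
-/

set_option autoImplicit false
set_option backward.isDefEq.respectTransparency false

universe v u

open CategoryTheory CategoryTheory.Limits AlgebraicGeometry TopologicalSpace Opposite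
open Groth.Agent Groth.Agent.Grpsch Groth.Agent.Grpsch.PicGrp Groth.Agent.Fdesc.LocGen
open Groth.Agent.Picfga.LineFam
open Groth.Agent.Fga.RigGrp (Rg mem_Rg pull_mem norm norm_mem norm_apply pull_norm norm_of_mem toCl toCl_injective
  isInvertibleCl_toCl exists_toCl toCl_pull secT_XTproj norm_pull_XTproj)
open Groth.Agent.Pic13.H602.Rig Groth.Agent.Pic13.H520.RigCls

namespace K488.RigFpqc

variable {X S : Scheme.{u}} {f : X ⟶ S} {σ : S ⟶ X} (hσ : σ ≫ f = 𝟙 S) (hI : Inj f σ)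

include hI

/-- Separatedness. -/
theorem eq_of_cover {T : Over S} {ι : Type u} {V : ι → Over S} {j : ∀ i, V i ⟶ T}
    (hj : Presieve.ofArrows (fun i ↦ (V i).left) (fun i ↦ (j i).left) ∈ Scheme.fpqcPrecoverage T.left)
    {c c' : Pic (PicF.XT f T)} (hc : c ∈ Rg f σ hσ T)
    (hc' : c' ∈ Rg f σ hσ T) (h : ∀ i, pull (PicF.XTmap f (j i)) c = pull (PicF.XTmap f (j i)) c') : c = c' := by
  obtain ⟨r, hr⟩ := exists_rcl hσ hc
  obtain ⟨r', hr'⟩ := exists_rcl hσ hc'
  have h1 : r = r' := cls_eq_of_fpqc hI hj (fun i => rcl_ext hσ hI (by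
    rw [cl_map, cl_map, hr, hr', ← toCl_pull, ← toCl_pull]
    exact congrArg _ (h i)))
  apply toCl_injective
  rw [← hr, ← hr', h1]

/-- Gluing. -/
theorem exists_glue {T : Over S} {ι : Type u} {V : ι → Over S} {j : ∀ i, V i ⟶ T}
    (hj : Presieve.ofArrows (fun i ↦ (V i).left) (fun i ↦ (j i).left) ∈ Scheme.fpqcPrecoverage T.left)
    (c : ∀ i, Pic (PicF.XT f (V i)))
    (hc : ∀ i, c i ∈ Rg f σ hσ (V i))
    (h : ∀ (i k : ι) (W : Over S) (a : W ⟶ V i) (b : W ⟶ V k), a ≫ j i = b ≫ j k →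
      pull (PicF.XTmap f a) (c i) = pull (PicF.XTmap f b) (c k)) :
    ∃ d ∈ Rg f σ hσ T, ∀ i, pull (PicF.XTmap f (j i)) d = c i := by
  choose r hr using fun i => exists_rcl hσ (hc i)
  obtain ⟨y, hy⟩ := exists_of_fpqc hI hj r (fun i k U a b e => rcl_ext hσ hI (by
    rw [cl_map, cl_map, hr, hr, ← toCl_pull, ← toCl_pull]
    exact congrArg _ (h i k U a b e)))
  obtain ⟨d, hd⟩ := exists_toCl (RCl.isInvertibleCl y)
  refine ⟨d, ?_, fun i => toCl_injective ?_⟩
  · obtain ⟨R, rfl⟩ := RCl.exists_rep y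
    obtain ⟨L, hL, rfl⟩ := exists_mk d
    rw [← pull_wT_eq_one_iff, pull_mk, mk_eq_one_iff]
    have h1 : Nonempty (R.L ≅ L) := (Fga.RigGrp.cl_eq_iff _ _).1 hd.symm
    obtain ⟨e⟩ := h1
    obtain ⟨ψ, -⟩ := Fam.exists_ofIso R.inv R.ρ
    exact ⟨(Scheme.Modules.pullback _).mapIso e.symm ≪≫ ψ⟩
  · rw [toCl_pull, hd, ← hr, ← hy]
    exact (cl_map _ _).symm

end K488.RigFpqc
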