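import Groth.Agent.S2451
import Groth.Agent.Flat2B.SmoothGeom
import Mathlib.RingTheory.DiscreteValuationRing.TFAE
import Mathlib.RingTheory.Smooth.Basic
import Mathlib.RingTheory.Localization.AtPrime.Basic
import Groth.Agent.Dix.NormalLoc

/-!
# Local rings of codimension one on a smooth scheme over a discrete valuation ring
-/

set_option autoImplicit false

universe u

open IsLocalRing TensorProduct

namespace K488.SHLocal

/-- The residue field of a formally smooth local algebra with `𝔪_R A = 𝔪_A` is separable. -/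
theorem isGeometricallyReduced_residueField (R A : Type u) [CommRing R] [IsLocalRing R] [CommRing A]
    [IsLocalRing A] [Algebra R A] [IsLocalHom (algebraMap R A)] [Algebra.FormallySmooth R A]
    (hm : (maximalIdeal R).map (algebraMap R A) = maximalIdeal A) :
    Algebra.IsGeometricallyReduced (ResidueField R) (ResidueField A) := by
  rw [← Groth.Agent.S2451.result]
  let f : ResidueField R ⊗[R] A →ₐ[ResidueField R] ResidueField A :=
    Algebra.TensorProduct.lift (Algebra.ofId _ _) (IsScalarTower.toAlgHom R A (ResidueField A))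
      (fun _ _ => Commute.all _ _)
  have hf1 : ∀ a : A, f (1 ⊗ₜ a) = residue A a := by
    intro a
    simp [f]
  have hsurj : Function.Surjective f := by
    intro z
    obtain ⟨a, rfl⟩ := residue_surjective z
    exact ⟨1 ⊗ₜ a, hf1 a⟩
  have hone : ∀ z : ResidueField R ⊗[R] A, ∃ a : A, z = 1 ⊗ₜ a := by
    intro z
    induction z using TensorProduct.induction_on with
    | zero => exact ⟨0, by simp⟩
    | tmul x a =>
      obtain ⟨r, rfl⟩ := residue_surjective x
      refine ⟨r • a, ?_⟩
      rw [TensorProduct.tmul_smul, TensorProduct.smul_tmul', Algebra.smul_def, _root_.mul_one]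
      rfl
    | add x y hx hy =>
      obtain ⟨a, rfl⟩ := hx
      obtain ⟨b, rfl⟩ := hy
      exact ⟨a + b, (TensorProduct.tmul_add _ _ _).symm⟩
  have hinj : Function.Injective f := by
    rw [injective_iff_map_eq_zero]
    intro z hz
    obtain ⟨a, rfl⟩ := hone z
    rw [hf1, residue_eq_zero_iff, ← hm] at hz
    refine Submodule.span_induction (p := fun a _ => (1 : ResidueField R) ⊗ₜ[R] a = 0) ?_ ?_ ?_ ?_ hz
    · rintro _ ⟨r, hr, rfl⟩
      rw [Algebra.algebraMap_eq_smul_one, TensorProduct.tmul_smul, TensorProduct.smul_tmul',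
        Algebra.smul_def, _root_.mul_one]
      have h1 : algebraMap R (ResidueField R) r = 0 := (residue_eq_zero_iff r).mpr hr
      rw [h1, TensorProduct.zero_tmul]
    · simp
    · intro x y _ _ hx hy
      rw [TensorProduct.tmul_add, hx, hy, _root_.add_zero]
    · intro c x _ hx
      have h2 : (1 : ResidueField R) ⊗ₜ[R] (c • x) = (1 ⊗ₜ[R] c) * (1 ⊗ₜ[R] x) := by
        rw [Algebra.TensorProduct.tmul_mul_tmul, _root_.one_mul, smul_eq_mul]
      rw [h2, hx, mul_zero]
  exact Algebra.FormallySmooth.of_equiv (AlgEquiv.ofBijective f ⟨hinj, hsurj⟩)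

/-- If `B` is smooth over `R` and `a ^ n ∈ π B` with `R / π` a field, then `a ∈ π B`. -/
theorem mem_span_of_pow_mem {R B : Type u} [CommRing R] [IsDomain R] [IsDiscreteValuationRing R] [CommRing B]
    [Algebra R B] [Algebra.Smooth R B] (b : B) (n : ℕ)
    (h : b ^ n ∈ (maximalIdeal R).map (algebraMap R B)) : b ∈ (maximalIdeal R).map (algebraMap R B) := by
  have h1 : IsReduced (ResidueField R ⊗[R] B) :=
    Groth.Agent.Flat2B.SmoothGeom.isReduced_of_smooth_field (ResidueField R) (ResidueField R ⊗[R] B)
  -- the kernel of `B → k ⊗ B` is `𝔪 B`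
  let ψ : B →+* ResidueField R ⊗[R] B := ((Algebra.TensorProduct.includeRight : B →ₐ[R] ResidueField R ⊗[R] B) : B →+* ResidueField R ⊗[R] B)
  have hker : RingHom.ker ψ = (maximalIdeal R).map (algebraMap R B) := by
    apply le_antisymm
    · -- map back
      let g₁ : ResidueField R →ₐ[R] B ⧸ (maximalIdeal R).map (algebraMap R B) :=
        Ideal.Quotient.liftₐ (maximalIdeal R)
            (Algebra.ofId R (B ⧸ (maximalIdeal R).map (algebraMap R B))) (by
              intro a ha
              rw [Algebra.ofId_apply, IsScalarTower.algebraMap_apply R B]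
              exact Ideal.Quotient.eq_zero_iff_mem.mpr (Ideal.mem_map_of_mem _ ha))
      let g : ResidueField R ⊗[R] B →ₐ[R] B ⧸ (maximalIdeal R).map (algebraMap R B) :=
        Algebra.TensorProduct.lift g₁ (Ideal.Quotient.mkₐ R _) (fun _ _ => Commute.all _ _)
      intro x hx
      have h2 : g (ψ x) = Ideal.Quotient.mk _ x := by
        change g (1 ⊗ₜ x) = _
        rw [Algebra.TensorProduct.lift_tmul, map_one, _root_.one_mul]
        rfl
      rw [RingHom.mem_ker.mp hx, map_zero] at h2
      exact Ideal.Quotient.eq_zero_iff_mem.mp h2.symm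
    · rw [Ideal.map_le_iff_le_comap]
      intro r hr
      rw [Ideal.mem_comap, RingHom.mem_ker]
      change (1 : ResidueField R) ⊗ₜ[R] (algebraMap R B r) = 0
      rw [Algebra.algebraMap_eq_smul_one, TensorProduct.tmul_smul, TensorProduct.smul_tmul',
        Algebra.smul_def, _root_.mul_one]
      have h1 : algebraMap R (ResidueField R) r = 0 := (residue_eq_zero_iff r).mpr hr
      rw [h1, TensorProduct.zero_tmul]
  rw [← hker, RingHom.mem_ker] at h ⊢
  rw [map_pow] at h
  exact IsReduced.eq_zero _ ⟨n, h⟩

/-- At a point of codimension one of the closed fibre, a uniformizer generates the maximal ideal. -/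
theorem map_maximalIdeal {R B A : Type u} [CommRing R] [IsDomain R] [IsDiscreteValuationRing R] [CommRing B]
    [IsDomain B]
    [Algebra R B] [Algebra.Smooth R B] [CommRing A] [Algebra B A] [Algebra R A] [IsScalarTower R B A]
    (y : Ideal B) [y.IsPrime] [IsLocalization.AtPrime A y] [IsLocalRing A]
    (hy : (maximalIdeal R).map (algebraMap R B) ≤ y)
    (hinj : Function.Injective (algebraMap R A))
    (hd : ∀ P : Ideal A, P ≠ ⊥ → P.IsPrime → P = maximalIdeal A) :
    (maximalIdeal R).map (algebraMap R A) = maximalIdeal A := by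
  obtain ⟨ϖ, hϖ⟩ := IsDiscreteValuationRing.exists_irreducible R
  have hA : (maximalIdeal R).map (algebraMap R A) = ((maximalIdeal R).map (algebraMap R B)).map (algebraMap B A) := by
    rw [Ideal.map_map, ← IsScalarTower.algebraMap_eq]
  have hle : (maximalIdeal R).map (algebraMap R A) ≤ maximalIdeal A := by
    rw [hA, Ideal.map_le_iff_le_comap]
    intro b hb
    rw [Ideal.mem_comap, mem_maximalIdeal, mem_nonunits_iff,
      IsLocalization.AtPrime.isUnit_to_map_iff A y b]
    intro h
    exact h (hy hb)
  refine le_antisymm hle ?_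
  intro a ha
  -- `a` is nilpotent modulo `ϖ`
  have h1 : a ∈ ((maximalIdeal R).map (algebraMap R A)).radical := by
    rw [Ideal.radical_eq_sInf, Ideal.mem_sInf]
    rintro P ⟨hP1, hP2⟩
    have h2 : P ≠ ⊥ := by
      rintro rfl
      have h3 : algebraMap R A ϖ ∈ (maximalIdeal R).map (algebraMap R A) :=
        Ideal.mem_map_of_mem _ (by rw [mem_maximalIdeal]; exact hϖ.not_isUnit)
      have h4 := hP1 h3
      rw [Ideal.mem_bot, map_eq_zero_iff _ hinj] at h4
      exact hϖ.ne_zero h4
    rw [hd P h2 hP2]
    exact ha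
  obtain ⟨n, hn⟩ := h1
  obtain ⟨⟨b, s⟩, hbs⟩ := IsLocalization.surj y.primeCompl a
  dsimp only at hbs
  have h2 : algebraMap B A (b ^ n) ∈ ((maximalIdeal R).map (algebraMap R B)).map (algebraMap B A) := by
    rw [← hA, map_pow, ← hbs, mul_pow]
    exact Ideal.mul_mem_right _ _ hn
  rw [IsLocalization.algebraMap_mem_map_algebraMap_iff y.primeCompl] at h2
  obtain ⟨t, ht, htb⟩ := h2
  have h3 : t * b ∈ (maximalIdeal R).map (algebraMap R B) := by
    rcases Nat.eq_zero_or_pos n with rfl | hn0
    · rw [pow_zero, _root_.mul_one] at htb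
      exact Ideal.mul_mem_right _ _ htb
    · refine mem_span_of_pow_mem (t * b) n ?_
      obtain ⟨m, rfl⟩ : ∃ m, n = m + 1 := ⟨n - 1, by omega⟩
      rw [mul_pow, pow_succ t, mul_assoc]
      exact Ideal.mul_mem_left _ _ htb
  have h4 : algebraMap B A (t * b) ∈ (maximalIdeal R).map (algebraMap R A) := by
    rw [hA]
    exact Ideal.mem_map_of_mem _ h3
  have hus : IsUnit (algebraMap B A s) := IsLocalization.map_units A s
  have hut : IsUnit (algebraMap B A t) := IsLocalization.map_units A (⟨t, ht⟩ : y.primeCompl)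
  rw [map_mul, ← hbs] at h4
  have h5 := (Ideal.unit_mul_mem_iff_mem _ hut).mp h4
  exact (Ideal.mul_unit_mem_iff_mem _ hus).mp h5

end K488.SHLocal
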