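import Groth.Agent.Pic13.H547.UnitGrp
import Mathlib.AlgebraicGeometry.AffineSpace
import Mathlib.AlgebraicGeometry.Morphisms.Finite

/-!
# The units of a finite scheme over a field are parametrised by an open subscheme of an affine space
-/

set_option autoImplicit false

universe v u

open CategoryTheory CategoryTheory.Limits AlgebraicGeometry TopologicalSpace Opposite
open Groth.Agent Groth.Agent.Pic13.H547.UnitGrp Groth.Agent.Pic13.H547.SecSheaf
open Groth.Agent.Picfga.HilbPull (XTmap_fst XTmap_snd XTmap_comp)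
open scoped TensorProduct

namespace K488.UnitAff

section cf

variable {κ : Type u} [Field κ] {Y : Scheme.{u}} (f : Y ⟶ Spec (CommRingCat.of κ))

theorem isPushout_of_flat {X S : Scheme.{u}} (f : X ⟶ S) [IsAffine S] [QuasiCompact f] [QuasiSeparated f]
    (T : Over S) [IsAffine T.left] [Flat T.hom] :
    IsPushout f.appTop T.hom.appTop (pullback.fst f T.hom).appTop (pullback.snd f T.hom).appTop := by
  have hc : CompactSpace X := QuasiCompact.compactSpace_of_compactSpace f
  have hq : QuasiSeparatedSpace X := quasiSeparatedSpace_of_quasiSeparated f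
  have h := isIso_pushoutSection_of_isQuasiSeparated_of_flat_right
    (IsPullback.of_hasPullback f T.hom) (US := ⊤) (UT := ⊤) (UX := ⊤) (UY := ⊤) le_top le_top (by simp)
    (isAffineOpen_top S) (isAffineOpen_top T.left) isCompact_univ isQuasiSeparated_univ
  have h2 := (isIso_pushoutSection_iff (IsPullback.of_hasPullback f T.hom) (US := ⊤) (UT := ⊤) (UX := ⊤)
    (UY := ⊤) le_top le_top (by simp)).mp h
  have e1 : f.appLE ⊤ ⊤ le_top = f.appTop := Scheme.Hom.appLE_eq_app f
  have e2 : T.hom.appLE ⊤ ⊤ le_top = T.hom.appTop := Scheme.Hom.appLE_eq_app T.hom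
  have e3 : (pullback.fst f T.hom).appLE ⊤ ⊤ le_top = (pullback.fst f T.hom).appTop :=
    Scheme.Hom.appLE_eq_app _
  have e4 : (pullback.snd f T.hom).appLE ⊤ ⊤ le_top = (pullback.snd f T.hom).appTop :=
    Scheme.Hom.appLE_eq_app _
  rw [← e1, ← e2, ← e3, ← e4]
  exact h2

/-- Finite schemes over a field are cohomologically flat in degree zero. -/
theorem cf [IsFinite f] : Pic13.H943.CF f := by
  have hF : IsField Γ(Spec (CommRingCat.of κ), ⊤) :=
    ((Scheme.ΓSpecIso (CommRingCat.of κ)).commRingCatIsoToRingEquiv.toMulEquiv).isField (Field.toIsField κ)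
  refine ⟨inferInstance, f.finite_app ⊤ (isAffineOpen_top _), ?_, fun T hT => isPushout_of_flat f T⟩
  let _ : Algebra Γ(Spec (CommRingCat.of κ), ⊤) Γ(Y, ⊤) := f.appTop.hom.toAlgebra
  let _ := hF.toField
  exact Module.Projective.of_free

end cf

/-- In a tensor product every element is a combination of generators of the second factor. -/
theorem exists_sum_tmul {R A M : Type*} [CommRing R] [CommRing A] [Algebra R A] [AddCommGroup M] [Module R M] {n : ℕ}
    (s : Fin n → M) (hs : Submodule.span R (Set.range s) = ⊤) (z : A ⊗[R] M) : ∃ b : Fin n → A, z = ∑ a, b a ⊗ₜ s a := by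
  induction z using TensorProduct.induction_on with
  | zero => exact ⟨0, by simp⟩
  | add x y hx hy =>
    obtain ⟨b, hb⟩ := hx
    obtain ⟨c, hc⟩ := hy
    exact ⟨b + c, by rw [hb, hc, ← Finset.sum_add_distrib]; simp [TensorProduct.add_tmul]⟩
  | tmul x y =>
    obtain ⟨r, hr⟩ := (Submodule.mem_span_range_iff_exists_fun R).1 (hs ▸ Submodule.mem_top : y ∈ Submodule.span R (Set.range s))
    refine ⟨fun a => r a • x, ?_⟩
    rw [← hr, TensorProduct.tmul_sum]
    exact Finset.sum_congr rfl fun a _ => by rw [TensorProduct.tmul_smul, TensorProduct.smul_tmul']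

theorem isUnit_of_forall {X : Scheme.{u}} (f : Γ(X, ⊤)) (h : ∀ x : X, x ∈ X.basicOpen f) : IsUnit f :=
  RingedSpace.isUnit_of_isUnit_germ (X := X.toRingedSpace) ⊤ f fun x hx => (X.mem_basicOpen f x hx).1 (h x)

theorem mem_basicOpen_of_isUnit {X : Scheme.{u}} (f : Γ(X, ⊤)) (h : IsUnit f) (x : X) : x ∈ X.basicOpen f := by
  rw [Scheme.basicOpen_of_isUnit X h]
  trivial

theorem mem_basicOpen_appTop {X X' : Scheme.{u}} (g : X' ⟶ X) (f : Γ(X, ⊤)) (x : X') :
    x ∈ X'.basicOpen (g.appTop f) ↔ g x ∈ X.basicOpen f := by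
  have h := Scheme.preimage_basicOpen g f
  have h2 : X'.basicOpen (g.appTop f) = g ⁻¹ᵁ X.basicOpen f := h.symm
  rw [h2]
  rfl

variable {κ : Type u} [Field κ] {Y : Scheme.{u}} (f : Y ⟶ Spec (CommRingCat.of κ)) [IsFinite f]

/-- The locus where a function on `Y_A` is a unit. -/
theorem exists_unitLocus (A : Over (Spec (CommRingCat.of κ))) (ω : Γ(PicF.XT f A, ⊤)) :
    ∃ V : A.left.Opens, IsUnit ((PicF.XTmap f (Over.homMk V.ι rfl : Over.mk (V.ι ≫ A.hom) ⟶ A)).appTop ω) ∧
      ∀ (T : Over (Spec (CommRingCat.of κ))) (g : T ⟶ A), IsUnit ((PicF.XTmap f g).appTop ω) →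
        Set.range g.left ⊆ Set.range V.ι := by
  have hcl : IsClosed ((pullback.snd f A.hom) '' ((PicF.XT f A).basicOpen ω : Set _)ᶜ) :=
    (pullback.snd f A.hom).isClosedMap _ ((PicF.XT f A).basicOpen ω).isOpen.isClosed_compl
  let V : A.left.Opens := ⟨_, hcl.isOpen_compl⟩
  refine ⟨V, isUnit_of_forall _ fun z => ?_, fun T g₁ hx => ?_⟩
  · rw [mem_basicOpen_appTop]
    by_contra hz
    let m : Over.mk (V.ι ≫ A.hom) ⟶ A := Over.homMk V.ι rfl
    refine (pullback.snd f (Over.mk (V.ι ≫ A.hom)).hom z).2 ⟨PicF.XTmap f m z, hz, ?_⟩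
    rw [← Scheme.Hom.comp_apply]
    exact congr($(XTmap_snd f m) z)
  · rw [Scheme.Opens.range_ι]
    rintro _ ⟨t, rfl⟩ ⟨z, hz, hzt⟩
    obtain ⟨z', hz', -⟩ := Scheme.Pullback.exists_preimage_pullback (f := pullback.snd f A.hom) (g := g₁.left) z t hzt
    -- the point of `Y ×_κ T`
    have h5 : (pullback.fst (pullback.snd f A.hom) g₁.left ≫ pullback.fst f A.hom) ≫ f =
        (pullback.snd (pullback.snd f A.hom) g₁.left) ≫ T.hom := by
      rw [Category.assoc, pullback.condition, pullback.condition_assoc, Over.w g₁]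
    have h4 : pullback.lift (pullback.fst (pullback.snd f A.hom) g₁.left ≫ pullback.fst f A.hom)
        (pullback.snd (pullback.snd f A.hom) g₁.left) h5 ≫ PicF.XTmap f g₁ =
        pullback.fst (pullback.snd f A.hom) g₁.left := by
      apply pullback.hom_ext
      · rw [Category.assoc, XTmap_fst, pullback.lift_fst]
      · rw [Category.assoc, XTmap_snd, pullback.lift_snd_assoc]
        exact pullback.condition.symm
    have h3 := congr($h4 z')
    rw [Scheme.Hom.comp_apply] at h3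
    apply hz
    rw [← hz', ← h3, SetLike.mem_coe, ← mem_basicOpen_appTop]
    exact mem_basicOpen_of_isUnit _ hx _

/-- The affine space over the base. -/
noncomputable abbrev AA (κ : Type u) [Field κ] (n : ℕ) : Over (Spec (CommRingCat.of κ)) :=
  Over.mk (𝔸(ULift.{u} (Fin n); Spec (CommRingCat.of κ)) ↘ Spec (CommRingCat.of κ))

/-- The projection of an open subscheme of affine space, as a scheme over the base. -/
noncomputable abbrev VT {n : ℕ} (V : (𝔸(ULift.{u} (Fin n); Spec (CommRingCat.of κ))).Opens) :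
    Over (Spec (CommRingCat.of κ)) :=
  Over.mk (V.ι ≫ (𝔸(ULift.{u} (Fin n); Spec (CommRingCat.of κ)) ↘ Spec (CommRingCat.of κ)))

theorem exists_hom {S T : Scheme.{u}} (t : T ⟶ S) {n : ℕ} (b : Fin n → Γ(T, ⊤)) :
    ∃ g₀ : T ⟶ 𝔸(ULift.{u} (Fin n); S), g₀ ≫ (𝔸(ULift.{u} (Fin n); S) ↘ S) = t ∧
      ∀ a : Fin n, g₀.appTop (AffineSpace.coord S (ULift.up a)) = b a := by
  let v : ULift.{u} (Fin n) → Γ(T, ⊤) := fun a => b a.down
  refine ⟨AffineSpace.homOfVector t v, AffineSpace.homOfVector_over _ _, ?_⟩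
  intro a
  have h := AffineSpace.homOfVector_appTop_coord t v (ULift.up a)
  exact h

/-- Functions on `Y ×_κ T` are parametrised by an affine space. -/
theorem exists_function : ∃ (n : ℕ) (ω : Γ(PicF.XT f (AA κ n), ⊤)),
    ∀ (T : Over (Spec (CommRingCat.of κ))) [IsAffine T.left] (x : Γ(PicF.XT f T, ⊤)),
      ∃ g : T ⟶ AA κ n, (PicF.XTmap f g).appTop ω = x := by
  have hcf := cf f
  have hfin : Module.Finite Γ(Spec (CommRingCat.of κ), ⊤) (BT (Over.mk f)) := hcf.fin
  obtain ⟨n, s, hs⟩ := Module.Finite.exists_fin (R := Γ(Spec (CommRingCat.of κ), ⊤)) (M := BT (Over.mk f))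
  let co : Fin n → BT (AA κ n) := fun a => AffineSpace.coord (Spec (CommRingCat.of κ)) (ULift.up a)
  refine ⟨n, θ f (AA κ n) (∑ a, co a ⊗ₜ s a), fun T _ x => ?_⟩
  obtain ⟨y, hy⟩ := (θ_bijective f hcf T).2 x
  obtain ⟨b, hb⟩ := exists_sum_tmul s hs y
  obtain ⟨g₀, hg₀, hg₀'⟩ := exists_hom T.hom b
  let g₁ : T ⟶ AA κ n := Over.homMk g₀ hg₀
  have hb' : ∀ a : Fin n, BTmap g₁ (co a) = b a := hg₀'
  have hz : Algebra.TensorProduct.map (BTmap g₁) (AlgHom.id _ _) (∑ a, co a ⊗ₜ s a) = y := by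
    rw [hb, map_sum]
    refine Finset.sum_congr rfl fun a _ => ?_
    rw [Algebra.TensorProduct.map_tmul, hb']
    rfl
  refine ⟨g₁, ?_⟩
  rw [← hy, ← hz]
  exact θ_nat f g₁ _

/-- **A parametrisation of the units of `Y ×_κ T`.** -/
theorem exists_units_space : ∃ (n : ℕ) (V : (𝔸(ULift.{u} (Fin n); Spec (CommRingCat.of κ))).Opens)
    (w : Γ(PicF.XT f (VT V), ⊤)ˣ), ∀ (T : Over (Spec (CommRingCat.of κ))) [IsAffine T.left] (x : Γ(PicF.XT f T, ⊤)ˣ),
      ∃ g : T ⟶ VT V, upu f g w = x := by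
  obtain ⟨n, ω, hω⟩ := exists_function f
  obtain ⟨V, hV, hV'⟩ := exists_unitLocus f (AA κ n) ω
  refine ⟨n, V, hV.unit, fun T _ x => ?_⟩
  obtain ⟨g₁, hg₁⟩ := hω T (x : Γ(PicF.XT f T, ⊤))
  have h2 := hV' T g₁ (by rw [hg₁]; exact x.isUnit)
  let g : T ⟶ VT V := Over.homMk (IsOpenImmersion.lift V.ι g₁.left h2) (by
    rw [← Over.w g₁]
    exact IsOpenImmersion.lift_fac_assoc _ _ _ _)
  have hg : g ≫ (Over.homMk V.ι rfl : VT V ⟶ AA κ n) = g₁ := by
    ext
    exact IsOpenImmersion.lift_fac _ _ _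
  refine ⟨g, Units.ext ?_⟩
  rw [← hg₁, ← hg, upu_val, XTmap_comp, Scheme.Hom.comp_appTop]
  rfl

end K488.UnitAff
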