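import Groth.Agent.Neron.K488.FinGlue
import Groth.Agent.Neron.K488.UnitAff

/-!
# Patching squares over a field with finite centre: the classes which become trivial on the partial normalisation

For a patching square `Y' ⟶ X'`, `Y ⟶ X` over a field with `X' ⟶ X`, `Y`, `Y'` finite: gluing over all bases, the universal
class `δ` on `X × V`, `V` an open subscheme of an affine space parametrising the units of `Y'`.
-/

set_option autoImplicit false
set_option backward.isDefEq.respectTransparency false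

universe v u

open CategoryTheory CategoryTheory.Limits AlgebraicGeometry TopologicalSpace Opposite
open Groth.Agent Groth.Agent.Fdesc Groth.Agent.Fdesc.LocGen Groth.Agent.Grpsch.PicGrp
  Groth.Agent.Pic13.H126 Groth.Agent.Pic13.H126.Patch Groth.Agent.Pic13.H17.Patch Groth.Agent.Pic13.H557.GlAbs
  Groth.Agent.Picfga.OverRep Groth.Agent.Pic13.H508.SqMT Groth.Agent.Pic13.H547.SecSheaf
open Groth.Agent.Picfga.HilbPull (XTmap_comp)

namespace K488.Sq

variable {κ : Type u} [Field κ]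

/-- The data: a patching square over a field with finite `X' ⟶ X`, `Y`, `Y'`. -/
structure Data {X X' Y Y' : Scheme.{u}} (f : X ⟶ (Spec (CommRingCat.of κ))) (f₁ : X' ⟶ (Spec (CommRingCat.of κ))) (f₂ : Y ⟶ (Spec (CommRingCat.of κ))) (f₃ : Y' ⟶ (Spec (CommRingCat.of κ)))
    (b : X' ⟶ X) (i : Y ⟶ X) (i' : Y' ⟶ X') (π' : Y' ⟶ Y) : Prop where
  hb : b ≫ f = f₁
  hi : i ≫ f = f₂
  hi' : i' ≫ f₁ = f₃
  hπ : π' ≫ f₂ = f₃
  H : IsPullback i' π' b i
  cl : IsClosedImmersion i
  fin : IsFinite b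
  fin₂ : IsFinite f₂
  fin₃ : IsFinite f₃
  patch : IsPatch b i.ker

variable {X X' Y Y' : Scheme.{u}} {f : X ⟶ (Spec (CommRingCat.of κ))} {f₁ : X' ⟶ (Spec (CommRingCat.of κ))} {f₂ : Y ⟶ (Spec (CommRingCat.of κ))} {f₃ : Y' ⟶ (Spec (CommRingCat.of κ))}
    {b : X' ⟶ X} {i : Y ⟶ X} {i' : Y' ⟶ X'} {π' : Y' ⟶ Y} (D : Data f f₁ f₂ f₃ b i i' π')

namespace Data

include D

/-- The square over `T`. -/
theorem isPullback_T (T : Over (Spec (CommRingCat.of κ))) :
    IsPullback (mT i' D.hi' T) (mT π' D.hπ T) (mT b D.hb T) (mT i D.hi T) := by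
  have h1 := isPullback_mT b D.hb T
  have h2 := isPullback_mT π' D.hπ T
  refine IsPullback.of_right (h₁₂ := pullback.fst f₁ T.hom) (v₁₃ := b)
    (h₂₂ := pullback.fst f T.hom) ?_ (mT_comp_congr D.hb D.hi' D.hi D.hπ D.H.w T) h1.flip
  rw [mT_fst, mT_fst]
  exact h2.flip.paste_horiz D.H

theorem isClosedImmersion_T (T : Over (Spec (CommRingCat.of κ))) : IsClosedImmersion (mT i D.hi T) := by
  have := D.cl
  exact MorphismProperty.of_isPullback (isPullback_mT i D.hi T).flip inferInstance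

theorem isFinite_T (T : Over (Spec (CommRingCat.of κ))) : IsFinite (mT b D.hb T) := by
  have := D.fin
  exact MorphismProperty.of_isPullback (isPullback_mT b D.hb T).flip inferInstance

theorem isPatch_T (T : Over (Spec (CommRingCat.of κ))) : IsPatch (mT b D.hb T) (mT i D.hi T).ker := by
  have := D.cl
  have := D.fin
  have e1 : (mT i D.hi T).ker = i.ker.comap (pullback.fst f T.hom) :=
    PatchMain.ker_eq_of_isPullback (isPullback_mT i D.hi T)
  rw [e1]
  exact Pic13.H945.PatchBC.isPatch_of_flat (isPullback_mT b D.hb T).flip D.patch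

theorem patchSq_T (T : Over (Spec (CommRingCat.of κ))) : PatchSq (mT b D.hb T) (mT i D.hi T) (mT i' D.hi' T) (mT π' D.hπ T) := by
  have := D.isClosedImmersion_T T
  exact PatchMain.patchSq_of_isPullback (D.isPullback_T T) (D.isPatch_T T)

/-- Gluing of classes. -/
theorem exists_glue (T : Over (Spec (CommRingCat.of κ))) {c' : Pic (PicF.XT f₁ T)} {d : Pic (PicF.XT f₂ T)}
    (hcd : pull (mT i' D.hi' T) c' = pull (mT π' D.hπ T) d) :
    ∃ c : Pic (PicF.XT f T), pull (mT b D.hb T) c = c' ∧ pull (mT i D.hi T) c = d := by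
  have := D.isClosedImmersion_T T
  have := D.isFinite_T T
  exact FinGlue.exists_glue (D.isPullback_T T) (D.isPatch_T T) hcd

theorem exists_class (T : Over (Spec (CommRingCat.of κ))) (v : Γ(PicF.XT f₃ T, ⊤)ˣ) :
    ∃ c : Pic (PicF.XT f T), GlRel (D.isPullback_T T).w v c := by
  have := D.isClosedImmersion_T T
  have := D.isFinite_T T
  exact FinGlue.exists_class (D.isPullback_T T) (D.isPatch_T T) v

/-- Lifting of classes from `X'_T` to `X_T`, locally on `T`. -/
theorem exists_lift (T : Over (Spec (CommRingCat.of κ))) (c' : Pic (PicF.XT f₁ T)) (t : T.left) :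
    ∃ U : T.left.Opens, t ∈ U ∧ ∀ (V : T.left.Opens), V ≤ U →
      ∃ c : Pic (PicF.XT f (Over.mk (V.ι ≫ T.hom))), pull (mT b D.hb _) c = pull (PicF.XTmap f₁ (res T V)) c' := by
  have := D.fin₃
  obtain ⟨U, htU, hU⟩ := FinGlue.exists_pull_eq_one f₃ T (pull (mT i' D.hi' T) c') t
  refine ⟨U, htU, fun V hVU => ?_⟩
  obtain ⟨c, hc, -⟩ := D.exists_glue (Over.mk (V.ι ≫ T.hom)) (c' := pull (PicF.XTmap f₁ (res T V)) c') (d := 1) (by
    rw [map_one, ← pull_comp, mT_XTmap, pull_comp]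
    let e : Over.mk (V.ι ≫ T.hom) ⟶ Over.mk (U.ι ≫ T.hom) := Over.homMk (T.left.homOfLE hVU) (by
      change T.left.homOfLE hVU ≫ U.ι ≫ T.hom = V.ι ≫ T.hom
      rw [Scheme.homOfLE_ι_assoc])
    have he : e ≫ res T U = res T V := by
      ext
      exact Scheme.homOfLE_ι T.left hVU
    rw [← he, XTmap_comp, pull_comp, hU, map_one])
  exact ⟨c, hc⟩

end Data

/-! ### The universal class -/

/-- The universal class: an open `V` of an affine space, `w` the universal unit of `Y'_V`, `δ` its class. -/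
structure Univ (D : Data f f₁ f₂ f₃ b i i' π') where
  /-- the dimension -/
  n : ℕ
  /-- the open subscheme -/
  V : (𝔸(ULift.{u} (Fin n); (Spec (CommRingCat.of κ)))).Opens
  /-- the class -/
  δ : Pic (PicF.XT f (UnitAff.VT V))
  pull_δ : pull (mT b D.hb _) δ = 1
  exists_map : ∀ (T : Over (Spec (CommRingCat.of κ))) [IsAffine T.left] (c : Pic (PicF.XT f T)), pull (mT b D.hb T) c = 1 →
    pull (mT i D.hi T) c = 1 → ∃ g : T ⟶ UnitAff.VT V, pull (PicF.XTmap f g) δ = c

theorem exists_univ (D : Data f f₁ f₂ f₃ b i i' π') : Nonempty (Univ D) := by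
  have := D.fin₃
  obtain ⟨n, V, w, hw⟩ := UnitAff.exists_units_space f₃
  obtain ⟨δ, hδ⟩ := D.exists_class (UnitAff.VT V) w
  refine ⟨⟨n, V, δ, hδ.pull_left, fun T _ c h1 h2 => ?_⟩⟩
  obtain ⟨v, hv⟩ := GlRel.exists_unit (D.isPullback_T T).w h1 h2
  obtain ⟨g, hg⟩ := hw T v
  have h1 := hδ.base (D.isPullback_T T).w (G := PicF.XTmap f g) (G' := PicF.XTmap f₁ g) (K := PicF.XTmap f₂ g)
      (K' := PicF.XTmap f₃ g) (mT_XTmap b D.hb g) (mT_XTmap i D.hi g) (mT_XTmap i' D.hi' g) (mT_XTmap π' D.hπ g)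
  have h3 : uu (PicF.XTmap f₃ g) w = v := hg
  rw [h3] at h1
  exact ⟨g, h1.unique (D.patchSq_T T) hv⟩

namespace Univ

variable {D} (R : Univ D)

/-- The parameter space over the base. -/
noncomputable abbrev W : Over (Spec (CommRingCat.of κ)) := UnitAff.VT R.V

/-- Classes with trivial pull back to `X'_T` come from `V`, locally on `T`. -/
theorem exists_local (T : Over (Spec (CommRingCat.of κ))) (c : Pic (PicF.XT f T)) (hc : pull (mT b D.hb T) c = 1) (t : T.left) :
    ∃ U : T.left.Opens, t ∈ U ∧ IsAffineOpen U ∧ ∃ g : Over.mk (U.ι ≫ T.hom) ⟶ R.W,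
      pull (PicF.XTmap f g) R.δ = pull (PicF.XTmap f (res T U)) c := by
  have := D.fin₂
  obtain ⟨U, htU, hU⟩ := FinGlue.exists_pull_eq_one f₂ T (pull (mT i D.hi T) c) t
  obtain ⟨V, hV, htV, hVU'⟩ := exists_isAffineOpen_mem_and_subset (x := t) (U := U) htU
  have hVU : V ≤ U := hVU'
  have : IsAffine (Over.mk (V.ι ≫ T.hom)).left := hV
  refine ⟨V, htV, hV, R.exists_map _ _ ?_ ?_⟩
  · rw [← pull_comp, mT_XTmap, pull_comp, hc, map_one]
  · rw [← pull_comp, mT_XTmap, pull_comp]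
    let e : Over.mk (V.ι ≫ T.hom) ⟶ Over.mk (U.ι ≫ T.hom) := Over.homMk (T.left.homOfLE hVU) (by
      change T.left.homOfLE hVU ≫ U.ι ≫ T.hom = V.ι ≫ T.hom
      rw [Scheme.homOfLE_ι_assoc])
    have he : e ≫ res T U = res T V := by
      ext
      exact Scheme.homOfLE_ι T.left hVU
    rw [← he, XTmap_comp, pull_comp, hU, map_one]

/-- Over a one-point affine base, every class with trivial pull back comes from `V`. -/
theorem exists_of_subsingleton (T : Over (Spec (CommRingCat.of κ))) [IsAffine T.left] [Subsingleton T.left] [Nonempty T.left]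
    (c : Pic (PicF.XT f T)) (hc : pull (mT b D.hb T) c = 1) :
    ∃ g : T ⟶ R.W, pull (PicF.XTmap f g) R.δ = c := by
  have := D.fin₂
  refine R.exists_map T c hc ?_
  obtain ⟨t⟩ := ‹Nonempty T.left›
  obtain ⟨L, hL, hL'⟩ := exists_mk (pull (mT i D.hi T) c)
  obtain ⟨U, e, htU, -, he⟩ := VarietyA.FinTriv.exists_isGen_preimage (pullback.snd f₂ T.hom) L hL t ⊤ trivial
  rw [hL', ← pull_id (Grpsch.PicGrp.mk L hL)]
  refine FinGlue.pull_mk_eq_one _ hL he fun z => ?_
  change pullback.snd f₂ T.hom _ ∈ U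
  rw [Subsingleton.elim (pullback.snd f₂ T.hom _) t]
  exact htU

end Univ

end K488.Sq
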