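import Groth.Agent.Neron.K488.WeilCore
import Groth.Agent.Neron.K488.SHLocal
import Groth.Agent.Sga7.H516.Square
import Groth.Agent.Sga7.H516.GenExt
import Groth.Agent.S0537
import Groth.Agent.S1962

/-!
# Lifting over local rings of codimension one from lifting over strictly henselian discrete valuation rings
-/

set_option autoImplicit false

universe u

open CategoryTheory CategoryTheory.Limits AlgebraicGeometry IsLocalRing

namespace K488.StalkSH

open Groth.Agent.Sga7.H516 Groth.Agent.Sga7.H516.Square Groth.Agent.Dix Groth.Agent.Dix.GenOpen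

/-- The lifting property over strictly henselian discrete valuation rings of ramification index one. -/
def SHLift (R : Type u) [CommRing R] [IsDomain R] [IsDiscreteValuationRing R] {N : Scheme.{u}}
    (q : N ⟶ Spec (CommRingCat.of R)) : Prop :=
  ∀ (R' : Type u) [CommRing R'] [IsDomain R'] [IsDiscreteValuationRing R'] [Algebra R R']
      [IsLocalHom (algebraMap R R')] [HenselianLocalRing R'] [IsSepClosed (IsLocalRing.ResidueField R')],
    (IsLocalRing.maximalIdeal R).map (algebraMap R R') = IsLocalRing.maximalIdeal R' →
    Algebra.IsGeometricallyReduced (IsLocalRing.ResidueField R) (IsLocalRing.ResidueField R') →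
    ∀ x : Spec (CommRingCat.of (FractionRing R')) ⟶ N,
      x ≫ q = Spec.map (CommRingCat.ofHom ((algebraMap R' (FractionRing R')).comp (algebraMap R R'))) →
      ∃ y : Spec (CommRingCat.of R') ⟶ N, y ≫ q = Spec.map (CommRingCat.ofHom (algebraMap R R')) ∧
        Spec.map (CommRingCat.ofHom (algebraMap R' (FractionRing R'))) ≫ y = x

/-- The algebraic form: `A` a discrete valuation ring over `R` of ramification index one, formally smooth. -/
theorem exists_lift {R : Type u} [CommRing R] [IsDomain R] [IsDiscreteValuationRing R] {N : Scheme.{u}}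
    (q : N ⟶ Spec (CommRingCat.of R)) [IsSeparated q] (hq : SHLift R q)
    (A : Type u) [CommRing A] [IsDomain A] [IsDiscreteValuationRing A] [Algebra R A]
    [IsLocalHom (algebraMap R A)] [Algebra.FormallySmooth R A]
    (hm : (maximalIdeal R).map (algebraMap R A) = maximalIdeal A)
    (K : Type u) [Field K] [Algebra A K] [IsFractionRing A K] (x : Spec (CommRingCat.of K) ⟶ N)
    (hx : x ≫ q = sp A K ≫ sp R A) :
    ∃ y : Spec (CommRingCat.of A) ⟶ N, y ≫ q = sp R A ∧ sp A K ≫ y = x := by
  obtain ⟨A', _, _, _, _, hA'⟩ := Groth.Agent.S0537.result A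
  have hdom : IsDomain A' := SHBasic.isDomain A A'
  have hdvr : IsDiscreteValuationRing A' := SHBasic.isDiscreteValuationRing A A'
  have hfe : Algebra.FormallyEtale A A' := Groth.Agent.S1962.result A A'
  let : Algebra R A' := ((algebraMap A A').comp (algebraMap R A)).toAlgebra
  have : IsScalarTower R A A' := IsScalarTower.of_algebraMap_eq' rfl
  have : IsLocalHom (algebraMap R A') := by
    rw [IsScalarTower.algebraMap_eq R A A']
    infer_instance
  have : Algebra.FormallySmooth A A' := inferInstance
  have hfs : Algebra.FormallySmooth R A' := Algebra.FormallySmooth.comp R A A'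
  have hhens : HenselianLocalRing A' := hA'.henselian
  have hsep : IsSepClosed (ResidueField A') := hA'.isSepClosure.sep_closed
  have hm' : (maximalIdeal R).map (algebraMap R A') = maximalIdeal A' := by
    rw [IsScalarTower.algebraMap_eq R A A', ← Ideal.map_map, hm, Groth.Agent.S0538.result A A']
  have hgr := SHLocal.isGeometricallyReduced_residueField R A' hm'
  -- the fraction field
  let L := FractionRing A'
  have hinjAA' : Function.Injective (algebraMap A A') := SHBasic.algebraMap_injective A A'
  have hinjAL : Function.Injective ((algebraMap A' L).comp (algebraMap A A')) :=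
    (IsFractionRing.injective A' L).comp hinjAA'
  have hAA'L : IsScalarTower A A' L := inferInstance
  let : Algebra K L := (IsFractionRing.lift (K := K) hinjAL).toAlgebra
  have : IsScalarTower A K L := IsScalarTower.of_algebraMap_eq (fun a => by
    change _ = IsFractionRing.lift (K := K) hinjAL (algebraMap A K a)
    rw [IsFractionRing.lift_algebraMap]
    exact IsScalarTower.algebraMap_apply A A' L a)
  have hS := isPullback_sp A A' K L
  have hx' : (sp K L ≫ x) ≫ q = Spec.map (CommRingCat.ofHom ((algebraMap A' L).comp (algebraMap R A'))) := by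
    rw [Category.assoc, hx, ← Category.assoc, hS.w, Category.assoc, ← Spec.map_comp, ← Spec.map_comp,
      ← CommRingCat.ofHom_comp, ← CommRingCat.ofHom_comp]
  obtain ⟨y', hy1, hy2⟩ := hq A' hm' hgr (sp K L ≫ x) hx'
  -- descend
  let qA : pullback q (sp R A) ⟶ Spec (CommRingCat.of A) := pullback.snd q (sp R A)
  let f : Spec (CommRingCat.of K) ⟶ pullback q (sp R A) := pullback.lift x (sp A K) hx
  have hRA' : sp A A' ≫ sp R A = sp R A' := by
    rw [← Spec.map_comp, ← CommRingCat.ofHom_comp, ← IsScalarTower.algebraMap_eq]
  let g : Spec (CommRingCat.of A') ⟶ pullback q (sp R A) := pullback.lift y' (sp A A') (by rw [hy1, hRA'])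
  have hfg : pullback.fst (sp A A') (sp A K) ≫ g = pullback.snd (sp A A') (sp A K) ≫ f := by
    have hS' : IsPullback (sp A' L) (sp K L) (sp A A') (sp A K) := hS.flip
    have e := hS'.isoPullback
    have h1 : hS'.isoPullback.hom ≫ pullback.fst (sp A A') (sp A K) = sp A' L := hS'.isoPullback_hom_fst
    have h2 : hS'.isoPullback.hom ≫ pullback.snd (sp A A') (sp A K) = sp K L := hS'.isoPullback_hom_snd
    rw [← cancel_epi hS'.isoPullback.hom, ← Category.assoc, ← Category.assoc, h1, h2]
    apply pullback.hom_ext
    · rw [Category.assoc, Category.assoc, pullback.lift_fst, pullback.lift_fst]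
      exact hy2
    · rw [Category.assoc, Category.assoc, pullback.lift_snd, pullback.lift_snd, hS'.w]
  have hX' : IsPullback (sp A A') (𝟙 _) (𝟙 _) (sp A A') := IsPullback.of_vert_isIso ⟨by simp⟩
  have hXE : IsPullback (sp A K) (𝟙 _) (𝟙 _) (sp A K) := IsPullback.of_vert_isIso ⟨by simp⟩
  have : IsSchemeTheoreticallyDominant (sp A K) := Groth.Agent.Sga7.H116.L1.isSchemeTheoreticallyDominant_gen A K
  obtain ⟨h, h1, h2, -⟩ := GenExt.exists_ext (y := qA) hX' hXE (f := f) (g := g)
    (by rw [pullback.lift_snd, Category.comp_id]) hfg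
  refine ⟨h ≫ pullback.fst q (sp R A), ?_, ?_⟩
  · rw [Category.assoc, pullback.condition, ← Category.assoc]
    change (h ≫ qA) ≫ _ = _
    rw [h1, Category.id_comp]
  · rw [← Category.assoc, h2, pullback.lift_fst]

/-- Lifting over strictly henselian discrete valuation rings implies lifting over local rings of codimension one. -/
theorem stalkLift {R : Type u} [CommRing R] [IsDomain R] [IsDiscreteValuationRing R] {N : Scheme.{u}}
    (q : N ⟶ Spec (CommRingCat.of R)) [IsSeparated q] (hq : SHLift R q) : WeilCore.StalkLift q := by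
  intro B hB p hp f hdom hf y hyc hy2
  obtain ⟨φ, rfl⟩ := Spec.map_surjective p
  rw [HasRingHomProperty.Spec_iff (P := @Smooth)] at hp
  let : Algebra R B := φ.hom.toAlgebra
  have hsm : Algebra.Smooth R B := hp
  have hyp : y.asIdeal.IsPrime := y.2
  let A := (Spec B).presheaf.stalk y
  let _ : Algebra B A := StructureSheaf.stalkAlgebra B y
  have hloc : IsLocalization.AtPrime A y.asIdeal := StructureSheaf.IsLocalization.to_stalk B y
  let _ : Algebra R A := ((algebraMap B A).comp (algebraMap R B)).toAlgebra
  have : IsScalarTower R B A := IsScalarTower.of_algebraMap_eq' rfl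
  have hsmS : Smooth (Spec.map φ) := by rwa [HasRingHomProperty.Spec_iff (P := @Smooth)]
  obtain ⟨hd, hic⟩ := NormalLoc.stalk_of_smooth (Spec.map φ) y
  have hnoeth : IsLocallyNoetherian (Spec B) := LocallyOfFiniteType.isLocallyNoetherian (Spec.map φ)
  obtain ⟨hval, hprime⟩ := NormalLoc.valuationRing_of_not_two_le_ringKrullDim A hy2
  have hyle : (maximalIdeal R).map (algebraMap R B) ≤ y.asIdeal := by
    rw [Ideal.map_le_iff_le_comap]
    have h1 : (Spec.map φ y).asIdeal = maximalIdeal R := by rw [hyc]; rfl
    rw [← h1]
    exact le_rfl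
  have hflat : Module.Flat R B := Algebra.Smooth.flat R B
  have hinjRB : Function.Injective (algebraMap R B) := by
    have : FaithfulSMul R B := by
      have : Module.IsTorsionFree R B := inferInstance
      infer_instance
    exact FaithfulSMul.algebraMap_injective R B
  have hinjBA : Function.Injective (algebraMap B A) :=
    IsLocalization.injective A (Ideal.primeCompl_le_nonZeroDivisors y.asIdeal)
  have hinj : Function.Injective (algebraMap R A) := hinjBA.comp hinjRB
  have hm : (maximalIdeal R).map (algebraMap R A) = maximalIdeal A :=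
    SHLocal.map_maximalIdeal (B := B) y.asIdeal hyle hinj hprime
  have hlh : IsLocalHom (algebraMap R A) := by
    have : (maximalIdeal R).map (algebraMap R A) ≤ maximalIdeal A := hm.le
    exact ((IsLocalRing.local_hom_TFAE (algebraMap R A)).out 2 0).mp this
  have hnA : IsNoetherianRing A := inferInstance
  obtain ⟨ϖ, hϖ⟩ := IsDiscreteValuationRing.exists_irreducible R
  have hmA : maximalIdeal A = Ideal.span {algebraMap R A ϖ} := by
    rw [← hm, hϖ.maximalIdeal_eq, Ideal.map_span, Set.image_singleton]
  have hnf : ¬ IsField A := by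
    intro hF
    have h1 : maximalIdeal A = ⊥ := IsLocalRing.isField_iff_maximalIdeal_eq.mp hF
    rw [hmA, Ideal.span_singleton_eq_bot, map_eq_zero_iff _ hinj] at h1
    exact hϖ.ne_zero h1
  have hdvr : IsDiscreteValuationRing A := by
    have h1 := (IsDiscreteValuationRing.TFAE A hnf).out 0 4
    rw [h1]
    exact ⟨_, hmA⟩
  have hfs : Algebra.FormallySmooth R A := by
    have h1 : Algebra.FormallySmooth B A := Algebra.FormallySmooth.of_isLocalization y.asIdeal.primeCompl
    exact Algebra.FormallySmooth.comp R B A
  let K := (Spec B).functionField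
  have hyA : (Spec B).fromSpecStalk y ≫ Spec.map φ = sp R A := by
    rw [Spec.fromSpecStalk_eq']
    exact (Spec.map_comp _ _).symm
  have hKx : f.fromFunctionField ≫ q = sp A K ≫ sp R A := by
    rw [Scheme.PartialMap.fromFunctionField, Scheme.PartialMap.fromSpecStalkOfMem, Category.assoc, hf,
      ← Category.assoc, Scheme.Opens.fromSpecStalkOfMem_ι,
      ← Scheme.SpecMap_stalkSpecializes_fromSpecStalk (genericPoint_specializes y), Category.assoc, hyA]
    rfl
  obtain ⟨ψ, h1, h2⟩ := exists_lift q hq A hm K f.fromFunctionField hKx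
  refine ⟨ψ, ?_, h2⟩
  rw [h1, hyA]

end K488.StalkSH
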