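import Groth.Agent.Dix.NeronCore

/-!
# The extension property over a discrete valuation ring from lifts over local rings in codimension one

The argument of `Groth.Agent.Dix.NeronCore` (Weil's extension theorem plus gluing), with the lifting over the local
rings of codimension one as a hypothesis.
-/

set_option autoImplicit false

universe u

open CategoryTheory CategoryTheory.Limits AlgebraicGeometry

namespace K488.WeilCore

open Groth.Agent.Dix Groth.Agent.Dix.GenOpen

variable {R : Type u} [CommRing R] [IsDomain R] [IsDiscreteValuationRing R]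

/-- Lifting over local rings: for every smooth affine domain `B` over `R`, every partial map to `N` over `R` with
domain the generic fibre, and every point `y` of codimension `< 2` in the closed fibre, the morphism from the
function field extends over the local ring at `y`. -/
def StalkLift {N : Scheme.{u}} (q : N ⟶ Spec (CommRingCat.of R)) : Prop :=
  ∀ (B : CommRingCat.{u}) (_ : IsDomain B) (p : Spec B ⟶ Spec (CommRingCat.of R)) (_ : Smooth p)
    (f : (Spec B).PartialMap N), f.domain = p ⁻¹ᵁ genOpen R → f.hom ≫ q = f.domain.ι ≫ p →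
    ∀ y : Spec B, p y = IsLocalRing.closedPoint R →
      ¬ (2 : WithBot ℕ∞) ≤ ringKrullDim ((Spec B).presheaf.stalk y) →
      ∃ φ : Spec ((Spec B).presheaf.stalk y) ⟶ N, φ ≫ q = (Spec B).fromSpecStalk y ≫ p ∧
        Spec.map ((Spec B).presheaf.stalkSpecializes (genericPoint_specializes y)) ≫ φ = f.fromFunctionField

theorem mem_domain {N : Scheme.{u}} (q : N ⟶ Spec (CommRingCat.of R)) [LocallyOfFiniteType q]
    (hL : StalkLift q) (B : CommRingCat.{u}) [hB : IsDomain B] (p : Spec B ⟶ Spec (CommRingCat.of R)) [hp : Smooth p]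
    (f : (Spec B).PartialMap N) (hdom : f.domain = p ⁻¹ᵁ genOpen R)
    (hf : f.hom ≫ q = f.domain.ι ≫ p)
    (y : Spec B) (hy2 : ¬ (2 : WithBot ℕ∞) ≤ ringKrullDim ((Spec B).presheaf.stalk y)) :
    y ∈ f.toRationalMap.domain := by
  by_cases hy : y ∈ f.domain
  · exact f.le_domain_toRationalMap hy
  have hyc : p y = IsLocalRing.closedPoint R := by
    rw [hdom] at hy
    by_contra h
    exact hy h
  obtain ⟨φ, hφ, hφ'⟩ := hL B hB p hp f hdom hf y hyc hy2
  let f' := Scheme.PartialMap.ofFromSpecStalk p q φ hφ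
  have hf' : y ∈ f'.domain := Scheme.PartialMap.mem_domain_ofFromSpecStalk p q _ hφ
  refine Scheme.RationalMap.mem_domain.2 ⟨f', hf', ?_⟩
  apply Scheme.RationalMap.eq_of_fromFunctionField_eq
  rw [Scheme.RationalMap.fromFunctionField_toRationalMap,
    Scheme.RationalMap.fromFunctionField_toRationalMap, ← hφ']
  have h3 : f'.fromSpecStalkOfMem hf' = φ :=
    Scheme.PartialMap.fromSpecStalkOfMem_ofFromSpecStalk p q _ hφ
  rw [← h3]
  rw [Scheme.PartialMap.fromFunctionField, Scheme.PartialMap.fromSpecStalkOfMem,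
    Scheme.PartialMap.fromSpecStalkOfMem, ← Category.assoc]
  congr 1
  rw [← cancel_mono f'.domain.ι, Scheme.Opens.fromSpecStalkOfMem_ι, Category.assoc,
    Scheme.Opens.fromSpecStalkOfMem_ι, Scheme.SpecMap_stalkSpecializes_fromSpecStalk]

theorem core {N : Scheme.{u}} (q : N ⟶ Spec (CommRingCat.of R)) [GrpObj (Over.mk q)] [IsSeparated q]
    [LocallyOfFiniteType q] (hL : StalkLift q)
    (B : CommRingCat.{u}) [IsDomain B] (p : Spec B ⟶ Spec (CommRingCat.of R)) [Smooth p]
    (f₀ : (p ⁻¹ᵁ genOpen R : (Spec B).Opens).toScheme ⟶ N) (hf₀ : f₀ ≫ q = (p ⁻¹ᵁ genOpen R).ι ≫ p) :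
    ∃ g : Spec B ⟶ N, g ≫ q = p ∧ (p ⁻¹ᵁ genOpen R).ι ≫ g = f₀ := by
  let f : (Spec B).PartialMap N := ⟨p ⁻¹ᵁ genOpen R, dense_preimage_genOpen p, f₀⟩
  have hmem := mem_domain q hL B p f rfl hf₀
  let F := f.toRationalMap
  have : N.IsSeparated := (HasAffineProperty.iff_of_isAffine (P := @IsSeparated)).1 ‹IsSeparated q›
  let : (Spec B).Over (Spec (CommRingCat.of R)) := ⟨p⟩
  let : N.Over (Spec (CommRingCat.of R)) := ⟨q⟩
  have hfover : f.IsOver (Spec (CommRingCat.of R)) := ⟨hf₀⟩
  have hF : F.toPartialMap.hom ≫ q = F.domain.ι ≫ p := by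
    have : F.toPartialMap.IsOver (Spec (CommRingCat.of R)) := inferInstance
    exact this.comp_over
  have hcodim : ∀ x : Spec B, x ∉ F.domain →
      (2 : WithBot ℕ∞) ≤ ringKrullDim ((Spec B).presheaf.stalk x) := by
    intro x hx
    by_contra h
    exact hx (hmem x h)
  have hdense : ∀ x : Spec B, x ∈ closure ((F.domain : Set (Spec B)) ∩ {y | p.base y = p.base x}) := by
    intro x
    by_cases hx : p x = IsLocalRing.closedPoint R
    · obtain ⟨ϖ, hϖ⟩ := IsDiscreteValuationRing.exists_irreducible R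
      obtain ⟨φ, hφ⟩ := Spec.map_surjective p
      subst hφ
      have hmx : ∀ z : Spec B, Spec.map φ z = IsLocalRing.closedPoint R ↔ φ.hom ϖ ∈ z.asIdeal := by
        intro z
        constructor
        · intro hz
          have h1 : ϖ ∈ (IsLocalRing.closedPoint R).asIdeal := by
            change ϖ ∈ IsLocalRing.maximalIdeal R
            rw [IsLocalRing.mem_maximalIdeal]
            exact hϖ.not_isUnit
          rw [← hz] at h1
          exact h1
        · intro hz
          by_contra h1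
          have h2 := eq_bot_of_ne_closedPoint R (Spec.map φ z) h1
          have h3 : ϖ ∈ (Spec.map φ z).asIdeal := hz
          rw [h2] at h3
          exact hϖ.ne_zero h3
      obtain ⟨P, hP, hPx⟩ := Ideal.exists_minimalPrimes_le (I := Ideal.span {φ.hom ϖ})
        (J := x.asIdeal) (by
          rw [Ideal.span_singleton_le_iff_mem]
          exact (hmx x).1 hx)
      have hPprime : P.IsPrime := hP.1.1
      let y : Spec B := ⟨P, hPprime⟩
      have hyc : Spec.map φ y = IsLocalRing.closedPoint R :=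
        (hmx y).2 (hP.1.2 (Ideal.mem_span_singleton_self _))
      have hy2 : ¬ (2 : WithBot ℕ∞) ≤ ringKrullDim ((Spec B).presheaf.stalk y) := by
        let _ : Algebra B ((Spec B).presheaf.stalk y) := StructureSheaf.stalkAlgebra B y
        have : IsLocalization.AtPrime ((Spec B).presheaf.stalk y) y.asIdeal :=
          StructureSheaf.IsLocalization.to_stalk B y
        rw [IsLocalization.AtPrime.ringKrullDim_eq_height y.asIdeal ((Spec B).presheaf.stalk y)]
        have hnoeth : IsLocallyNoetherian (Spec B) := LocallyOfFiniteType.isLocallyNoetherian (Spec.map φ)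
        have : IsNoetherianRing B := isLocallyNoetherian_Spec.1 hnoeth
        have h1 : y.asIdeal.height ≤ 1 :=
          Ideal.height_le_one_of_isPrincipal_of_mem_minimalPrimes (Ideal.span {φ.hom ϖ}) P hP
        intro h2
        have h3 : (2 : ℕ∞) ≤ y.asIdeal.height := WithBot.coe_le_coe.1 h2
        exact absurd (h3.trans h1) (by norm_num)
      have hyF : y ∈ F.domain := hmem y hy2
      have hyx : y ⤳ x := (PrimeSpectrum.le_iff_specializes _ _).1 hPx
      exact hyx.mem_closed isClosed_closure (subset_closure ⟨hyF, hyc.trans hx.symm⟩)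
    · refine subset_closure ⟨f.le_domain_toRationalMap ?_, rfl⟩
      exact hx
  obtain ⟨g, ⟨hg1, hg2⟩, -⟩ := Groth.Agent.S3249.result p q F.domain hdense hcodim F.toPartialMap.hom hF
  refine ⟨g, hg1, ?_⟩
  have h1 := f.toPartialMap_toRationalMap_restrict
  rw [Scheme.PartialMap.restrict_hom] at h1
  have h3 : (p ⁻¹ᵁ genOpen R) ≤ F.domain := f.le_domain_toRationalMap
  have h4 : (Spec B).homOfLE h3 ≫ F.toPartialMap.hom = f₀ := h1
  calc (p ⁻¹ᵁ genOpen R).ι ≫ g = ((Spec B).homOfLE h3 ≫ F.domain.ι) ≫ g := by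
        rw [Scheme.homOfLE_ι]
    _ = (Spec B).homOfLE h3 ≫ F.toPartialMap.hom := by rw [Category.assoc, hg2]
    _ = f₀ := h4

/-- The extension property for an arbitrary smooth `Y`. -/
theorem exists_extension {N : Scheme.{u}} (q : N ⟶ Spec (CommRingCat.of R)) [GrpObj (Over.mk q)] [IsSeparated q]
    [LocallyOfFiniteType q] (hL : StalkLift q)
    {Y : Scheme.{u}} (p : Y ⟶ Spec (CommRingCat.of R)) [Smooth p]
    (f₀ : (p ⁻¹ᵁ genOpen R : Y.Opens).toScheme ⟶ N) (hf₀ : f₀ ≫ q = (p ⁻¹ᵁ genOpen R).ι ≫ p) :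
    ∃ g : Y ⟶ N, g ≫ q = p ∧ (p ⁻¹ᵁ genOpen R).ι ≫ g = f₀ := by
  have hnoeth : IsLocallyNoetherian Y := LocallyOfFiniteType.isLocallyNoetherian p
  have hloc : ∀ y : Y, ∃ U : Y.Opens, y ∈ U ∧ IsAffineOpen U ∧ IsDomain Γ(Y, U) := by
    intro y
    have := (NormalLoc.stalk_of_smooth p y).1
    obtain ⟨U, h1, -, h3, h4⟩ := NormalLoc.exists_isDomain_affine_nhds Y y ⊤ trivial
    exact ⟨U, h1, h3, h4⟩
  choose U hyU hU hUd using hloc
  have hcov : TopologicalSpace.IsOpenCover U := by
    refine TopologicalSpace.IsOpenCover.mk ?_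
    rw [eq_top_iff]
    intro y _
    exact TopologicalSpace.Opens.mem_iSup.2 ⟨y, hyU y⟩
  have key : ∀ y : Y, ∃ g : Spec Γ(Y, U y) ⟶ N, g ≫ q = (hU y).fromSpec ≫ p ∧
      Extends (hU y).fromSpec (p ⁻¹ᵁ genOpen R) f₀ g := by
    intro y
    have := hUd y
    have h1 : (((hU y).fromSpec ∣_ (p ⁻¹ᵁ genOpen R)) ≫ f₀) ≫ q =
        ((hU y).fromSpec ⁻¹ᵁ (p ⁻¹ᵁ genOpen R)).ι ≫ (hU y).fromSpec ≫ p := by
      rw [Category.assoc, hf₀, ← Category.assoc, morphismRestrict_ι, Category.assoc]
    obtain ⟨g, hg1, hg2⟩ := core q hL Γ(Y, U y) ((hU y).fromSpec ≫ p)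
      (((hU y).fromSpec ∣_ (p ⁻¹ᵁ genOpen R)) ≫ f₀) h1
    exact ⟨g, hg1, extends_of_restrict _ _ _ _ hg2⟩
  exact glue_of_genOpen p q f₀ (Scheme.AffineOpenCover.ofIsOpenCover U hcov hU).openCover key

end K488.WeilCore
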